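import Mathlib

/-!
# The facts on `W(E₈)` used in the row `2.Ω₈⁺(2)`

Sign vectors, the extended Hamming code, and the (model free) list `EF` of facts on a group `W` with
determinant `δ`, central involution `c` and set of reflections `Rf`.

The intended instance is `W`, `det`, `neg`, `IsRefl` of `EEight/Model.lean`.
-/

set_option autoImplicit false

namespace Cfsg.Agent.OddHalf.D9.EEight

open Equiv

/-! ### Sign vectors -/

/-- Sign vectors. -/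
abbrev Sg : Type := Fin 8 → ℤˣ

/-- The product of the signs. -/
def prd : Sg →* ℤˣ where
  toFun ε := ∏ i, ε i
  map_one' := by simp
  map_mul' a b := by simp [Finset.prod_mul_distrib]

theorem prd_apply (ε : Sg) : prd ε = ∏ i, ε i := rfl

/-- The even sign vectors. -/
def Ev : Subgroup Sg := prd.ker

theorem mem_Ev {ε : Sg} : ε ∈ Ev ↔ prd ε = 1 := Iff.rfl

instance : DecidablePred (· ∈ Ev) := fun ε => decidable_of_iff (prd ε = 1) Iff.rfl

/-- The number of minus signs. -/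
def wt (ε : Sg) : ℕ := (Finset.univ.filter (fun i => ε i = -1)).card

/-- The sign change of one coordinate. -/
def sg (i : Fin 8) : Sg := fun j => if j = i then -1 else 1

/-- Permutation of the coordinates (`pm (σ * τ) = pm τ ∘ pm σ`). -/
def pm (σ : Perm (Fin 8)) : Sg ≃* Sg where
  toFun ε := fun i => ε (σ i)
  invFun ε := fun i => ε (σ⁻¹ i)
  left_inv ε := by funext i; simp
  right_inv ε := by funext i; simp
  map_mul' _ _ := rfl

theorem pm_apply (σ : Perm (Fin 8)) (ε : Sg) (i : Fin 8) : pm σ ε i = ε (σ i) := rfl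

theorem prd_pm (σ : Perm (Fin 8)) (ε : Sg) : prd (pm σ ε) = prd ε := by
  rw [prd_apply, prd_apply]
  exact Equiv.prod_comp σ ε

/-- The same on even sign vectors. -/
def pmE (σ : Perm (Fin 8)) : Ev ≃* Ev where
  toFun ε := ⟨pm σ ε, by rw [mem_Ev, prd_pm]; exact ε.2⟩
  invFun ε := ⟨(pm σ).symm ε, by
    have h : (ε : Sg) ∈ Ev := ε.2
    rw [mem_Ev] at h ⊢
    rw [← h, ← prd_pm σ ((pm σ).symm (ε : Sg)), MulEquiv.apply_symm_apply]⟩
  left_inv ε := by apply Subtype.ext; simp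
  right_inv ε := by apply Subtype.ext; simp
  map_mul' _ _ := rfl

theorem coe_pmE (σ : Perm (Fin 8)) (ε : Ev) : (pmE σ ε : Sg) = pm σ ε := rfl

/-- The extended Hamming code (supports: `∅`, the `14` affine planes of `𝔽₂³ = Fin 8`, everything). -/
def IsCode (ε : Sg) : Prop :=
  prd ε = 1 ∧ ε 1 * ε 3 * ε 5 * ε 7 = 1 ∧ ε 2 * ε 3 * ε 6 * ε 7 = 1 ∧ ε 4 * ε 5 * ε 6 * ε 7 = 1

instance : DecidablePred IsCode := fun ε => by unfold IsCode; infer_instance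

/-- The permutations that preserve the code: `AGL₃(2)`. -/
def AutCode (σ : Perm (Fin 8)) : Prop := ∀ ε : Sg, IsCode ε → IsCode (pm σ ε)

/-- All signs `-1`, as an element of `Ev`. -/
def m1 : Ev := ⟨-1, by rw [mem_Ev, prd_apply]; decide⟩

theorem coe_m1 : (m1 : Sg) = -1 := rfl

/-! ### The facts on `W` -/

section

variable {W : Type*} [Group W] (δ : W →* ℤˣ) (c : W) (Rf : W → Prop)

/-- `d ε` = sign change `ε` along a frame of `8` orthogonal root lines. -/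
structure IsFr (d : Sg →* W) : Prop where
  inj : Function.Injective d
  det : ∀ ε, δ (d ε) = prd ε
  neg : d (-1) = c
  refl : ∀ i, Rf (d (sg i))
  sym : ∀ σ : Perm (Fin 8), AutCode σ → ∃ k : W, δ k = 1 ∧ ∀ ε, k * d ε * k⁻¹ = d (pm σ ε)
  nrm : ∀ w : W, (∀ ε ∈ Ev, ∃ η ∈ Ev, w * d ε * w⁻¹ = d η) →
    ∃ σ : Perm (Fin 8), AutCode σ ∧ ∀ ε, w * d ε * w⁻¹ = d (pm σ ε)
  cen : ∀ w : W, (∀ ε ∈ Ev, w * d ε = d ε * w) → w ∈ d.range

/-- `f ε` = even sign change `ε` in the coordinates of a `D₈ ≤ E₈`. -/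
structure IsFt (f : Ev →* W) : Prop where
  inj : Function.Injective f
  det : ∀ ε, δ (f ε) = 1
  neg : f m1 = c
  sym : ∀ σ : Perm (Fin 8), Perm.sign σ = 1 → ∃ k : W, δ k = 1 ∧ ∀ ε, k * f ε * k⁻¹ = f (pmE σ ε)
  cen : ∀ w : W, (∀ ε, w * f ε = f ε * w) → w ∈ f.range
  dist : ∀ (w : W) (ε η : Ev), w * f ε * w⁻¹ = f η → wt ε = wt η

/-- Elementary abelian `2`-subgroups. -/
def IsEl {A : Type*} [Group A] (M : Subgroup A) : Prop :=
  (∀ x ∈ M, x * x = 1) ∧ ∀ x ∈ M, ∀ y ∈ M, x * y = y * x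

/-- The facts on `W`. -/
structure EF : Prop where
  c_ne : c ≠ 1
  c_sq : c * c = 1
  c_comm : ∀ w : W, c * w = w * c
  c_det : δ c = 1
  /-- `C_W(K₀) = {1, c}` -/
  cenK : ∀ w : W, (∀ k : W, δ k = 1 → w * k = k * w) → w = 1 ∨ w = c
  rf_det : ∀ ρ : W, Rf ρ → δ ρ = -1
  rf_neg : ∀ ρ : W, Rf ρ → ¬ Rf (c * ρ)
  rf_conj : ∀ ρ w : W, Rf ρ → Rf (w * ρ * w⁻¹)
  /-- all reflections are conjugate under `K₀` -/
  rf_trans : ∀ ρ τ : W, Rf ρ → Rf τ → ∃ k : W, δ k = 1 ∧ k * ρ * k⁻¹ = τ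
  /-- (W9) no `5`-cycle on orthogonal root lines -/
  rf_five : ∀ ρ w : W, Rf ρ → (∀ j : ℕ, (w ^ j * ρ * (w ^ j)⁻¹) * ρ = ρ * (w ^ j * ρ * (w ^ j)⁻¹)) →
    w ^ 5 * ρ = ρ * w ^ 5 → w * ρ = ρ * w
  /-- (W1) every involution is a product of orthogonal reflections -/
  inv_frame : ∀ w : W, w * w = 1 → ∃ d : Sg →* W, IsFr δ c Rf d ∧ w ∈ d.range
  /-- (W2) -/
  card_le : ∀ M : Subgroup W, M ≤ δ.ker → IsEl M → Nat.card M ≤ 2 ^ 7
  two_types : ∀ M : Subgroup W, M ≤ δ.ker → IsEl M → Nat.card M = 2 ^ 7 →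
    (∃ d : Sg →* W, IsFr δ c Rf d ∧ M = Ev.map d) ∨ ∃ f : Ev →* W, IsFt δ c f ∧ M = f.range
  /-- (W3) -/
  cx_card : ∀ v : W, v * v = c → ∀ M : Subgroup W, M ≤ δ.ker → IsEl M →
    (∀ x ∈ M, v * x = x * v) → Nat.card M ≤ 2 ^ 4
  /-- (W4) (for `v = w` it says that `w * w = c` implies `δ w = 1`) -/
  cx_out : ∀ v w : W, v * v = c → δ w = -1 → w * v ≠ v * w ∧ w * v ≠ c * (v * w)
  /-- (W8) elementary abelian subgroups of order `2⁷`, not in `K₀`, with `c` -/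
  out_refl : ∀ M : Subgroup W, IsEl M → Nat.card M = 2 ^ 7 → c ∈ M → ¬ M ≤ δ.ker →
    (∃ ρ ∈ M, Rf ρ) ∧ {ρ | ρ ∈ M ∧ Rf ρ}.ncard ≤ 7
  /-- the elements of a frame of type `2`, `6`, block lie in an `F` -/
  fr_ft : ∀ d : Sg →* W, IsFr δ c Rf d → ∀ ε ∈ Ev, wt ε = 2 ∨ wt ε = 6 ∨ IsCode ε →
    ∃ f : Ev →* W, IsFt δ c f ∧ d ε ∈ f.range

end

end Cfsg.Agent.OddHalf.D9.EEight
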