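import Cfsg.Agent.OddHalf.D9.EEight.FrameBase
import Cfsg.Agent.OddHalf.D9.EEight.Facts

/-!
# The sign changes along a frame (helper528)

`dh ha : Sg →* W` for `ha : Frame a`; `sgn a x`: the parity vector of `x`; `Lab a`: the parity vectors are exactly the
words of the Hamming code. `isFr`: `IsFr det neg IsRefl (dh ha)` for a labelled frame.
-/

set_option autoImplicit false

namespace Cfsg.Agent.OddHalf.D9.EEight.FrameHom

open Matrix Cfsg.Agent.OddHalf.D9.EEight Cfsg.Agent.OddHalf.D9.EEight.FrameBase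

variable {a : Fin 8 → Lat}

/-- The sign change as a function. -/
def dfun (a : Fin 8 → Lat) (ε : Sg) (x : Lat) : Lat :=
  x - ∑ i, (if ε i = -1 then form x (a i) else 0) • a i

theorem form_dfun (ha : Frame a) (ε : Sg) (x : Lat) (j : Fin 8) :
    form (dfun a ε x) (a j) = (ε j : ℤ) * form x (a j) := by
  unfold dfun
  rw [form_sub_left, ha.form_sum]
  rcases Int.units_eq_one_or (ε j) with h | h
  · rw [h, if_neg (by decide)]; simp
  · rw [h, if_pos rfl]
    push_cast; ring

theorem exists_dW (ha : Frame a) (ε : Sg) : ∃ w : W, ∀ x, ap w x = dfun a ε x := by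
  obtain ⟨w, hw⟩ := exists_iso
    { toFun := dfun a ε
      map_add' := fun x y => by
        apply ha.ext
        intro i
        rw [form_dfun ha, form_add_left, form_add_left, form_dfun ha, form_dfun ha]; ring
      map_smul' := fun n x => by
        apply ha.ext
        intro i
        rw [form_dfun ha, form_smul_left, RingHom.id_apply, form_smul_left, form_dfun ha]; ring } (by
    intro x y
    show form (dfun a ε x) (dfun a ε y) = form x y
    have h1 := ha.sum_form (dfun a ε x) (dfun a ε y)
    have h2 := ha.sum_form x y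
    have h3 : ∑ i, form (dfun a ε x) (a i) * form (dfun a ε y) (a i) =
        ∑ i, form x (a i) * form y (a i) := by
      refine Finset.sum_congr rfl fun i _ => ?_
      rw [form_dfun ha, form_dfun ha]
      rcases Int.units_eq_one_or (ε i) with h | h <;> rw [h] <;> push_cast <;> ring
    omega)
  exact ⟨w, hw⟩

/-- the element of `W` -/
noncomputable def dW (ha : Frame a) (ε : Sg) : W := (exists_dW ha ε).choose

theorem ap_dW (ha : Frame a) (ε : Sg) (x : Lat) : ap (dW ha ε) x = dfun a ε x :=
  (exists_dW ha ε).choose_spec x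

theorem form_dW (ha : Frame a) (ε : Sg) (x : Lat) (j : Fin 8) :
    form (ap (dW ha ε) x) (a j) = (ε j : ℤ) * form x (a j) := by
  rw [ap_dW, form_dfun ha]

/-- **The sign changes along a frame.** -/
noncomputable def dh (ha : Frame a) : Sg →* W where
  toFun := dW ha
  map_one' := by
    apply ext_ap
    intro x
    apply ha.ext
    intro i
    rw [form_dW, ap_one, Pi.one_apply]; simp
  map_mul' ε η := by
    apply ext_ap
    intro x
    apply ha.ext
    intro i
    rw [form_dW, ap_mul, form_dW, form_dW, Pi.mul_apply]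
    push_cast; ring

theorem form_dh (ha : Frame a) (ε : Sg) (x : Lat) (j : Fin 8) :
    form (ap (dh ha ε) x) (a j) = (ε j : ℤ) * form x (a j) := form_dW ha ε x j

theorem unit_mul_self (s : ℤˣ) : (s : ℤ) * s = 1 := by
  rcases Int.units_eq_one_or s with h | h <;> rw [h] <;> rfl

theorem smul_unit_smul (s : ℤˣ) (x : Lat) : (s : ℤ) • ((s : ℤ) • x) = x := by
  rw [smul_smul, unit_mul_self, one_smul]

theorem ap_dh (ha : Frame a) (ε : Sg) (j : Fin 8) : ap (dh ha ε) (a j) = (ε j : ℤ) • a j := by
  apply ha.ext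
  intro i
  rw [form_dh, form_smul_left]
  by_cases h : j = i
  · rw [h]
  · rw [ha.orth j i h, mul_zero, mul_zero]

/-- uniqueness -/
theorem eq_dh (ha : Frame a) {w : W} {ε : Sg} (h : ∀ j, ap w (a j) = (ε j : ℤ) • a j) :
    w = dh ha ε := by
  apply ext_ap
  intro x
  apply ha.ext
  intro j
  rw [form_dh]
  have h1 : form (ap w x) (ap w (a j)) = form x (a j) := form_ap w x (a j)
  rw [h j, form_smul_right] at h1
  rw [← h1, ← mul_assoc, unit_mul_self, one_mul]

theorem ap_form_comp (w : W) (x y : Lat) : form (ap w⁻¹ x) y = form x (ap w y) := by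
  rw [← form_ap w, ap_ap_inv]

theorem inj (ha : Frame a) : Function.Injective (dh ha) := by
  intro ε η h
  funext j
  have h1 := ap_dh ha ε j
  rw [h, ap_dh] at h1
  have h2 := congrArg (fun y => form y (a j)) h1
  simp only [form_smul_left, ha.root] at h2
  apply Units.ext
  omega

theorem dh_neg (ha : Frame a) : dh ha (-1) = neg := by
  symm
  apply eq_dh
  intro j
  rw [ap_neg_one]
  simp

theorem dh_sg (ha : Frame a) (i : Fin 8) : dh ha (sg i) = refl (show IsRoot (a i) from ha.root i) := by
  symm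
  apply eq_dh
  intro j
  rw [ap_refl]
  by_cases h : j = i
  · subst h
    rw [ha.root]
    simp only [sg, if_pos]
    rw [Units.val_neg, Units.val_one, two_smul ℤ]
    rw [neg_smul, one_smul]; abel
  · rw [ha.orth j i h]
    simp only [sg, if_neg h]
    simp

theorem coe_det (w : W) : ((det w : ℤˣ) : ℤ) =
    Matrix.det ((w : (Matrix (Fin 8) (Fin 8) ℤ)ˣ) : Matrix (Fin 8) (Fin 8) ℤ) := by
  unfold Cfsg.Agent.OddHalf.D9.EEight.det
  rw [MonoidHom.comp_apply, Units.coe_map, Matrix.coe_detMonoidHom, Subgroup.coe_subtype]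

/-- the determinant of a reflection -/
theorem det_refl {r : Lat} (hr : IsRoot r) : det (refl hr) = -1 := by
  apply Units.ext
  have h1 : ((refl hr : (Matrix (Fin 8) (Fin 8) ℤ)ˣ) : Matrix (Fin 8) (Fin 8) ℤ) =
      1 + Matrix.replicateCol Unit r * Matrix.replicateRow Unit (-(GM *ᵥ r)) := by
    apply Matrix.ext_of_mulVec_single
    intro i
    have h2 := ap_refl hr (Pi.single i 1)
    unfold ap at h2
    rw [h2, add_mulVec, one_mulVec, sub_eq_add_neg]
    congr 1
    rw [form_comm]
    funext k
    rw [mulVec_single, MulOpposite.op_one, one_smul, Matrix.col_apply, Matrix.mul_apply]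
    simp only [Finset.univ_unique, Finset.sum_singleton, Matrix.replicateCol_apply,
      Matrix.replicateRow_apply, Pi.neg_apply]
    have h3 : form r (Pi.single i 1) = (GM *ᵥ r) i := by
      rw [form_comm]
      unfold form
      rw [single_dotProduct, one_mul]
    rw [h3]
    show -((GM *ᵥ r) i * r k) = r k * -(GM *ᵥ r) i
    ring
  have h2 : Matrix.det ((refl hr : (Matrix (Fin 8) (Fin 8) ℤ)ˣ) : Matrix (Fin 8) (Fin 8) ℤ) = -1 := by
    rw [h1, Matrix.det_one_add_replicateCol_mul_replicateRow]
    rw [neg_dotProduct]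
    have h3 : (GM *ᵥ r) ⬝ᵥ r = 2 := by
      rw [dotProduct_comm]; exact hr
    rw [h3]; rfl
  rw [coe_det, h2]; rfl

theorem sg_eq (i : Fin 8) : sg i = Pi.mulSingle i (-1 : ℤˣ) := by
  funext j
  by_cases h : j = i
  · subst h; simp [sg]
  · rw [Pi.mulSingle_eq_of_ne h]; simp [sg, h]

theorem det_dh (ha : Frame a) (ε : Sg) : det (dh ha ε) = prd ε := by
  have h : det.comp (dh ha) = prd := by
    apply MonoidHom.functions_ext
    intro i s
    rcases Int.units_eq_one_or s with h | h
    · rw [h, Pi.mulSingle_one, map_one, map_one]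
    · rw [h, ← sg_eq, MonoidHom.comp_apply, dh_sg, det_refl]
      rw [sg_eq, prd_apply, Finset.prod_pi_mulSingle', if_pos (Finset.mem_univ i)]
  exact congrArg (fun f : Sg →* ℤˣ => f ε) h

/-- an even sign vector that is `-1` at `j` and `1` at `k` -/
theorem exists_even {j k : Fin 8} (h : j ≠ k) : ∃ η ∈ Ev, η j = -1 ∧ η k = 1 := by
  obtain ⟨l, hl1, hl2⟩ : ∃ l : Fin 8, l ≠ j ∧ l ≠ k := by
    revert j k; decide
  refine ⟨sg j * sg l, ?_, ?_, ?_⟩
  · rw [mem_Ev, map_mul]
    rw [sg_eq, sg_eq, prd_apply, prd_apply, Finset.prod_pi_mulSingle', Finset.prod_pi_mulSingle',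
      if_pos (Finset.mem_univ _), if_pos (Finset.mem_univ _)]
    rfl
  · simp [sg, Ne.symm hl1]
  · simp [sg, Ne.symm h, Ne.symm hl2]

/-- a root that is an eigenvector of all even sign changes -/
theorem eigen (ha : Frame a) {y : Lat} (hy : form y y = 2)
    (h : ∀ η ∈ Ev, ∃ s : ℤˣ, ap (dh ha η) y = (s : ℤ) • y) : ∃ j, y = a j ∨ y = -a j := by
  obtain ⟨j, hj⟩ : ∃ j, form y (a j) ≠ 0 := by
    by_contra hcon
    push Not at hcon
    have h1 := ha.sum_form y y
    rw [Finset.sum_eq_zero (fun i _ => by rw [hcon i, mul_zero]), hy] at h1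
    omega
  have hk : ∀ k, k ≠ j → form y (a k) = 0 := by
    intro k hkj
    obtain ⟨η, hη, h1, h2⟩ := exists_even (Ne.symm hkj)
    obtain ⟨s, hs⟩ := h η hη
    have h3 := form_dh ha η y j
    have h4 := form_dh ha η y k
    rw [hs, form_smul_left] at h3 h4
    rw [h1] at h3
    rw [h2] at h4
    rcases Int.units_eq_one_or s with h5 | h5
    · rw [h5] at h3
      push_cast at h3
      omega
    · rw [h5] at h4
      push_cast at h4
      omega
  have h2 : (2 : ℤ) • y = form y (a j) • a j := by
    rw [ha.two_smul, Finset.sum_eq_single j]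
    · intro k _ hkj; rw [hk k hkj, zero_smul]
    · intro h; exact absurd (Finset.mem_univ j) h
  have h3 : form y (a j) * form y (a j) = 4 := by
    have h4 := congrArg (fun x => form x y) h2
    simp only [form_smul_left] at h4
    rw [hy, form_comm (a j) y] at h4
    omega
  have h4 : (form y (a j) - 2) * (form y (a j) + 2) = 0 := by
    linear_combination h3
  refine ⟨j, ?_⟩
  rcases mul_eq_zero.1 h4 with h5 | h5
  · left
    apply two_smul_inj
    rw [h2, show form y (a j) = 2 by omega]
  · right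
    apply two_smul_inj
    rw [h2, show form y (a j) = -2 by omega, smul_neg, neg_smul]

/-- the parity vector -/
def sgn (a : Fin 8 → Lat) (x : Lat) : Sg := fun i => (form x (a i)).negOnePow

theorem sgn_apply (a : Fin 8 → Lat) (x : Lat) (i : Fin 8) : sgn a x i = (form x (a i)).negOnePow := rfl

theorem sgn_add (a : Fin 8 → Lat) (x y : Lat) : sgn a (x + y) = sgn a x * sgn a y := by
  funext i
  rw [sgn_apply, form_add_left, Int.negOnePow_add]; rfl

/-- a labelled frame: the code is the standard Hamming code -/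
def Lab (a : Fin 8 → Lat) : Prop := ∀ ε : Sg, IsCode ε ↔ ∃ x, sgn a x = ε

theorem negOnePow_smul (s : ℤˣ) (n : ℤ) : ((s : ℤ) * n).negOnePow = n.negOnePow := by
  rcases Int.units_eq_one_or s with h | h
  · rw [h]; simp
  · rw [h]; simp

theorem even_sub_iff (m n : ℤ) : Even (m - n) ↔ m.negOnePow = n.negOnePow := by
  constructor
  · intro h
    have h1 := Int.negOnePow_even _ h
    rw [Int.negOnePow_sub] at h1
    rcases Int.units_eq_one_or n.negOnePow with h2 | h2 <;> rw [h2] at h1 ⊢
    · simpa using h1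
    · have : (m.negOnePow) * (-1) * (-1) = 1 * (-1) := by rw [h1]
      simpa using this
  · intro h
    rw [← Int.negOnePow_eq_one_iff, Int.negOnePow_sub, h]
    rcases Int.units_eq_one_or n.negOnePow with h2 | h2 <;> rw [h2] <;> rfl

theorem exists_perm (ha : Frame a) (hl : Lab a) {σ : Equiv.Perm (Fin 8)} (hσ : AutCode σ) :
    ∃ w : W, ∀ i, ap w (a (σ i)) = a i := by
  refine exists_map (ha.comp σ) ha ?_
  intro x
  have h1 : IsCode (pm σ (sgn a x)) := hσ _ ((hl _).2 ⟨x, rfl⟩)
  obtain ⟨y, hy⟩ := (hl _).1 h1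
  refine ⟨y, fun i => ?_⟩
  rw [even_sub_iff]
  have h2 := congrFun hy i
  exact h2.symm

theorem conj_eq (ha : Frame a) {w : W} {τ : Fin 8 → Fin 8} {s : Sg}
    (h : ∀ i, ap w⁻¹ (a i) = (s i : ℤ) • a (τ i)) (ε : Sg) :
    w * dh ha ε * w⁻¹ = dh ha (fun i => ε (τ i)) := by
  apply eq_dh
  intro i
  rw [ap_mul, ap_mul, h i, ap_smul, ap_dh, smul_comm, ap_smul]
  congr 1
  rw [← h i, ap_ap_inv]

/-- **The facts on a labelled frame.** -/
theorem isFr (ha : Frame a) (hl : Lab a) : IsFr det neg IsRefl (dh ha) where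
  inj := inj ha
  det := det_dh ha
  neg := dh_neg ha
  refl i := ⟨a i, ha.root i, dh_sg ha i⟩
  sym σ hσ := by
    obtain ⟨w, hw⟩ := exists_perm ha hl hσ
    have hc : ∀ ε, w * dh ha ε * w⁻¹ = dh ha (pm σ ε) := by
      intro ε
      refine conj_eq ha (s := 1) (τ := σ) (fun i => ?_) ε
      rw [Pi.one_apply, Units.val_one, one_smul, ← hw i, ap_inv_ap]
    rcases Int.units_eq_one_or (EEight.det w) with h | h
    · exact ⟨w, h, hc⟩
    · refine ⟨dh ha (sg 0) * w, ?_, ?_⟩
      · rw [map_mul, dh_sg, det_refl, h]; rfl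
      · intro ε
        calc dh ha (sg 0) * w * dh ha ε * (dh ha (sg 0) * w)⁻¹
            = dh ha (sg 0) * (w * dh ha ε * w⁻¹) * (dh ha (sg 0))⁻¹ := by group
          _ = dh ha (sg 0) * dh ha (pm σ ε) * (dh ha (sg 0))⁻¹ := by rw [hc]
          _ = dh ha (pm σ ε) := by
            rw [← map_mul, mul_comm (sg 0) (pm σ ε), map_mul, mul_inv_cancel_right]
  nrm w hw := by
    have h1 : ∀ i, ∃ j, ap w⁻¹ (a i) = a j ∨ ap w⁻¹ (a i) = -a j := by
      intro i
      refine eigen ha (by rw [form_ap]; exact ha.root i) ?_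
      intro ε hε
      obtain ⟨η, hη, h⟩ := hw ε hε
      refine ⟨η i, ?_⟩
      have h2 : dh ha ε * w⁻¹ = w⁻¹ * dh ha η := by rw [← h]; group
      rw [← ap_mul, h2, ap_mul, ap_dh, ap_smul]
    choose τ hτ using h1
    have hs : ∀ i, ∃ s : ℤˣ, ap w⁻¹ (a i) = (s : ℤ) • a (τ i) := by
      intro i
      rcases hτ i with h | h
      · exact ⟨1, by rw [h]; simp⟩
      · exact ⟨-1, by rw [h]; simp⟩
    choose s hs using hs
    have hinj : Function.Injective τ := by
      intro i j hij
      by_contra hne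
      have h2 : form (ap w⁻¹ (a i)) (ap w⁻¹ (a j)) = 0 := by rw [form_ap]; exact ha.orth i j hne
      rw [hs i, hs j, hij, form_smul_left, form_smul_right, ha.root] at h2
      rcases Int.units_eq_one_or (s i) with h3 | h3 <;> rcases Int.units_eq_one_or (s j) with h4 | h4 <;>
        rw [h3, h4] at h2 <;> revert h2 <;> decide
    let σ : Equiv.Perm (Fin 8) := Equiv.ofBijective τ (Finite.injective_iff_bijective.1 hinj)
    refine ⟨σ, ?_, fun ε => conj_eq ha hs ε⟩
    intro ε hε
    obtain ⟨x, hx⟩ := (hl _).1 hε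
    rw [hl]
    refine ⟨ap w x, ?_⟩
    funext i
    rw [sgn_apply, pm_apply, ← hx, sgn_apply]
    show _ = (form x (a (τ i))).negOnePow
    have h2 : form (ap w x) (a i) = (s i : ℤ) * form x (a (τ i)) := by
      rw [← form_smul_right, ← hs i, form_comm x, ap_form_comp, form_comm]
    rw [h2, negOnePow_smul]
  cen w hw := by
    have h1 : ∀ i, ap w (a i) = a i ∨ ap w (a i) = -a i := by
      intro i
      have he : ∀ η ∈ Ev, ap (dh ha η) (ap w (a i)) = (η i : ℤ) • ap w (a i) := by
        intro η hη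
        rw [← ap_mul, ← hw η hη, ap_mul, ap_dh, ap_smul]
      obtain ⟨j, hj⟩ := eigen ha (y := ap w (a i)) (by rw [form_ap]; exact ha.root i)
        (fun η hη => ⟨η i, he η hη⟩)
      have hij : j = i := by
        by_contra hne
        obtain ⟨η, hη, h2, h3⟩ := exists_even hne
        have h4 := form_dh ha η (ap w (a i)) j
        rw [he η hη, form_smul_left, h2, h3] at h4
        have h5 : form (ap w (a i)) (a j) ≠ 0 := by
          rcases hj with h | h <;> rw [h]
          · rw [ha.root]; decide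
          · rw [form_neg_left, ha.root]; decide
        apply h5
        push_cast at h4
        omega
      rw [hij] at hj
      exact hj
    have hs : ∀ i, ∃ s : ℤˣ, ap w (a i) = (s : ℤ) • a i := by
      intro i
      rcases h1 i with h | h
      · exact ⟨1, by rw [h]; simp⟩
      · exact ⟨-1, by rw [h]; simp⟩
    choose s hs using hs
    exact ⟨s, (eq_dh ha hs).symm⟩

end Cfsg.Agent.OddHalf.D9.EEight.FrameHom
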