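import Cfsg.Agent.OddHalf.D9.EEight.InvRoot

/-!
# Extension of orthogonal roots to frames; involutions are products of orthogonal reflections (helper528)

`extend`: orthogonal eigenroots of an involution `w` extend to a frame of eigenroots. `inv_frame` = (W1). `rf_five`.
-/

set_option autoImplicit false

namespace Cfsg.Agent.OddHalf.D9.EEight.Extend

open Matrix Cfsg.Agent.OddHalf.D9.EEight Cfsg.Agent.OddHalf.D9.EEight.FrameBase
  Cfsg.Agent.OddHalf.D9.EEight.FrameHom Cfsg.Agent.OddHalf.D9.EEight.FrameCode
  Cfsg.Agent.OddHalf.D9.EEight.Move Cfsg.Agent.OddHalf.D9.EEight.InvRoot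

/-- `k` orthogonal roots -/
structure Orth {k : ℕ} (b : Fin k → Lat) : Prop where
  root : ∀ i, form (b i) (b i) = 2
  orth : ∀ i j, i ≠ j → form (b i) (b j) = 0

variable {k : ℕ} {b : Fin k → Lat}

theorem Orth.form_sum (h : Orth b) (c : Fin k → ℤ) (j : Fin k) :
    form (∑ i, c i • b i) (b j) = 2 * c j := by
  rw [form_sum_left, Finset.sum_eq_single j]
  · rw [form_smul_left, h.root]; ring
  · intro i _ hi
    rw [form_smul_left, h.orth i j hi, mul_zero]
  · intro h; exact absurd (Finset.mem_univ j) h

/-- the product of the reflections in the `b i` with `c i = 1` -/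
theorem exists_prod (h : Orth b) (c : Fin k → ℤ) (hc : ∀ i, c i * c i = c i) :
    ∃ u : W, ∀ x, ap u x = x - ∑ i, (c i * form x (b i)) • b i := by
  have hadd : ∀ x y : Lat, ∑ i, (c i * form (x + y) (b i)) • b i =
      ∑ i, (c i * form x (b i)) • b i + ∑ i, (c i * form y (b i)) • b i := by
    intro x y
    rw [← Finset.sum_add_distrib]
    exact Finset.sum_congr rfl fun i _ => by rw [form_add_left, mul_add, add_smul]
  have hsmul : ∀ (n : ℤ) (x : Lat), ∑ i, (c i * form (n • x) (b i)) • b i =
      n • ∑ i, (c i * form x (b i)) • b i := by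
    intro n x
    rw [Finset.smul_sum]
    exact Finset.sum_congr rfl fun i _ => by rw [form_smul_left, smul_smul]; congr 1; ring
  obtain ⟨u, hu⟩ := exists_iso
    { toFun := fun x => x - ∑ i, (c i * form x (b i)) • b i
      map_add' := fun x y => by rw [hadd]; abel
      map_smul' := fun n x => by rw [hsmul, RingHom.id_apply, smul_sub] } (by
    intro x y
    show form (x - ∑ i, (c i * form x (b i)) • b i) (y - ∑ i, (c i * form y (b i)) • b i) = form x y
    have e1 : form (∑ i, (c i * form x (b i)) • b i) (∑ i, (c i * form y (b i)) • b i) =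
        2 * ∑ i, c i * (form x (b i) * form y (b i)) := by
      rw [form_sum_right, Finset.mul_sum]
      refine Finset.sum_congr rfl fun j _ => ?_
      rw [form_smul_right, h.form_sum]
      linear_combination 2 * form x (b j) * form y (b j) * hc j
    have e2 : form (∑ i, (c i * form x (b i)) • b i) y = ∑ i, c i * (form x (b i) * form y (b i)) := by
      rw [form_sum_left]
      refine Finset.sum_congr rfl fun j _ => ?_
      rw [form_smul_left, form_comm (b j) y]; ring
    have e3 : form x (∑ i, (c i * form y (b i)) • b i) = ∑ i, c i * (form x (b i) * form y (b i)) := by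
      rw [form_sum_right]
      refine Finset.sum_congr rfl fun j _ => ?_
      rw [form_smul_right]; ring
    rw [form_sub_left, form_sub_right, form_sub_right, e1, e2, e3]; ring)
  exact ⟨u, hu⟩

theorem prod_self (h : Orth b) {c : Fin k → ℤ} (hc : ∀ i, c i * c i = c i) {u : W}
    (hu : ∀ x, ap u x = x - ∑ i, (c i * form x (b i)) • b i) : u * u = 1 := by
  apply ext_ap
  intro x
  rw [ap_mul, ap_one, hu (ap u x), hu x]
  have e : ∀ i, (c i * form (x - ∑ j, (c j * form x (b j)) • b j) (b i)) • b i =
      (-(c i * form x (b i))) • b i := by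
    intro i
    congr 1
    rw [form_sub_left, h.form_sum]
    linear_combination -2 * form x (b i) * hc i
  rw [Finset.sum_congr rfl fun i _ => e i]
  simp only [neg_smul, Finset.sum_neg_distrib]
  abel

theorem prod_apply (h : Orth b) {c : Fin k → ℤ} {u : W}
    (hu : ∀ x, ap u x = x - ∑ i, (c i * form x (b i)) • b i) (j : Fin k) :
    ap u (b j) = (1 - 2 * c j) • b j := by
  rw [hu, Finset.sum_eq_single j]
  · rw [h.root, sub_smul, one_smul, mul_comm]
  · intro i _ hi
    rw [h.orth j i (Ne.symm hi), mul_zero, zero_smul]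
  · intro h; exact absurd (Finset.mem_univ j) h

/-- fewer than 8 orthogonal roots do not span -/
theorem prod_ne_neg (h : Orth b) (hk : k < 8) {u : W}
    (hu : ∀ x, ap u x = x - ∑ i, ((1 : ℤ) * form x (b i)) • b i) : u ≠ neg := by
  intro hn
  have h1 : ∀ x : Lat, ∑ i, form x (b i) • b i = (2 : ℤ) • x := by
    intro x
    have h2 := hu x
    rw [hn, ap_neg_one] at h2
    simp only [one_mul] at h2
    rw [two_smul]
    have h3 : x - (x - ∑ i, form x (b i) • b i) = x - -x := by rw [← h2]
    rw [sub_sub_cancel] at h3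
    rw [h3]; abel
  have h2 : ∀ j : Fin 8, ∑ i, (GM *ᵥ b i) j * b i j = 2 := by
    intro j
    have h3 := congrFun (h1 (Pi.single j 1)) j
    rw [Finset.sum_apply] at h3
    have h4 : ((2 : ℤ) • (Pi.single j 1 : Lat)) j = 2 := by simp
    rw [h4] at h3
    rw [← h3]
    refine Finset.sum_congr rfl fun i _ => ?_
    have h5 : form (Pi.single j 1) (b i) = (GM *ᵥ b i) j := by
      unfold form
      rw [single_dotProduct, one_mul]
    rw [← h5]; rfl
  have h3 : ∑ j : Fin 8, ∑ i, (GM *ᵥ b i) j * b i j = 16 := by
    rw [Finset.sum_congr rfl fun j _ => h2 j]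
    simp
  rw [Finset.sum_comm] at h3
  have h4 : ∀ i, ∑ j : Fin 8, (GM *ᵥ b i) j * b i j = 2 := by
    intro i
    have h5 := h.root i
    unfold form at h5
    rw [dotProduct_comm] at h5
    exact h5
  rw [Finset.sum_congr rfl fun i _ => h4 i] at h3
  simp at h3
  omega

/-- one more root -/
theorem exists_next (h : Orth b) (hk : k < 8) {w : W} (hw : w * w = 1)
    (hb : ∀ i, ap w (b i) = b i ∨ ap w (b i) = -b i) :
    ∃ r, IsRoot r ∧ (∀ i, form r (b i) = 0) ∧ (ap w r = r ∨ ap w r = -r) := by
  classical
  let c : Fin k → ℤ := fun i => if ap w (b i) = -b i then 1 else 0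
  have hc : ∀ i, c i * c i = c i := by
    intro i
    simp only [c]
    split_ifs <;> rfl
  have hcw : ∀ i, ap w (b i) = (1 - 2 * c i) • b i := by
    intro i
    simp only [c]
    split_ifs with h1
    · rw [h1, show (1 : ℤ) - 2 * 1 = -1 by norm_num, neg_smul, one_smul]
    · rcases hb i with h2 | h2
      · rw [h2, show (1 : ℤ) - 2 * 0 = 1 by norm_num, one_smul]
      · exact absurd h2 h1
  have hc1 : ∀ i, (1 - 2 * c i) * (1 - 2 * c i) = 1 := by
    intro i
    linear_combination 4 * hc i
  obtain ⟨u, hu⟩ := exists_prod h c hc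
  have huu := prod_self h hc hu
  have hinv : w⁻¹ = w := inv_eq_of_mul_eq_one_left hw
  have hcomm : w * u = u * w := by
    apply ext_ap
    intro x
    rw [ap_mul, ap_mul, hu, hu, ap_sub]
    congr 1
    have e1 : ap w (∑ i, (c i * form x (b i)) • b i) = ∑ i, (c i * form x (b i)) • ap w (b i) := by
      have h2 : ∀ s : Finset (Fin k), ap w (∑ i ∈ s, (c i * form x (b i)) • b i) =
          ∑ i ∈ s, (c i * form x (b i)) • ap w (b i) := by
        intro s
        induction s using Finset.induction_on with
        | empty => simp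
        | insert i s hi ih => rw [Finset.sum_insert hi, Finset.sum_insert hi, ap_add, ap_smul, ih]
      exact h2 _
    rw [e1]
    refine Finset.sum_congr rfl fun i _ => ?_
    have e2 : form (ap w x) (b i) = (1 - 2 * c i) * form x (b i) := by
      rw [← form_ap w, ← ap_mul, hw, ap_one, hcw i, form_smul_right]
    rw [hcw i, smul_smul, e2]
    congr 1; ring
  by_cases hg : w * u = 1
  · -- `w = u`: take a root orthogonal to all the `b i`
    have hwu : w = u := by
      rw [← mul_one w, ← huu, ← mul_assoc, hg, one_mul]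
    obtain ⟨v, hv⟩ := exists_prod h (fun _ => 1) (fun _ => rfl)
    have hvv := prod_self h (c := fun _ => 1) (fun _ => rfl) hv
    have hvn := prod_ne_neg h hk hv
    have hnn : (neg : W) * neg = 1 := ext_ap fun x => by rw [ap_mul, ap_neg_one, ap_neg_one, neg_neg, ap_one]
    have hnc : (neg : W) * v = v * neg := ext_ap fun x => by rw [ap_mul, ap_mul, ap_neg_one, ap_neg_one, ap_neg]
    obtain ⟨r, hr, hgr⟩ := exists_neg_root (g := neg * v) (by
      calc (neg : W) * v * (neg * v) = (v * neg) * (neg * v) := by rw [hnc]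
        _ = v * (neg * neg) * v := by group
        _ = 1 := by rw [hnn, mul_one, hvv]) (by
      intro h1
      apply hvn
      have h2 : (neg : W) * (neg * v) = neg * 1 := by rw [h1]
      rwa [← mul_assoc, hnn, one_mul, mul_one] at h2)
    rw [ap_mul, ap_neg_one, neg_inj] at hgr
    have horth : ∀ i, form r (b i) = 0 := by
      intro i
      have h1 : form (ap v r) (b i) = form r (b i) := by rw [hgr]
      rw [hv, form_sub_left, h.form_sum] at h1
      omega
    refine ⟨r, hr, horth, Or.inl ?_⟩
    rw [hwu, hu, Finset.sum_eq_zero, sub_zero]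
    intro i _
    rw [horth i, mul_zero, zero_smul]
  · obtain ⟨r, hr, hgr⟩ := exists_neg_root (g := w * u) (by
      calc w * u * (w * u) = w * u * (u * w) := by rw [hcomm]
        _ = w * (u * u) * w := by group
        _ = 1 := by rw [huu, mul_one, hw]) hg
    have hfix : ∀ i, ap (w * u) (b i) = b i := by
      intro i
      rw [ap_mul, prod_apply h hu, ap_smul, hcw i, smul_smul, hc1, one_smul]
    have horth : ∀ i, form r (b i) = 0 := by
      intro i
      have h1 := form_ap (w * u) r (b i)
      rw [hgr, hfix i, form_neg_left] at h1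
      omega
    refine ⟨r, hr, horth, Or.inr ?_⟩
    rw [← hgr, ap_mul]
    congr 1
    rw [hu, Finset.sum_eq_zero, sub_zero]
    intro i _
    rw [horth i, mul_zero, zero_smul]

/-- **Extension to frames.** -/
theorem extend {w : W} (hw : w * w = 1) : ∀ (m k : ℕ), k + m = 8 → ∀ b : Fin k → Lat, Orth b →
    (∀ i, ap w (b i) = b i ∨ ap w (b i) = -b i) →
    ∃ a : Fin 8 → Lat, Frame a ∧ (∀ i, ap w (a i) = a i ∨ ap w (a i) = -a i) ∧
      ∀ i : Fin k, ∃ j, a j = b i := by
  intro m
  induction m with
  | zero =>
    intro k hk b h hb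
    have hk8 : k = 8 := by omega
    subst hk8
    exact ⟨b, ⟨h.root, h.orth⟩, hb, fun i => ⟨i, rfl⟩⟩
  | succ m ih =>
    intro k hk b h hb
    obtain ⟨r, hr, horth, hwr⟩ := exists_next h (by omega) hw hb
    obtain ⟨a, ha, ha2, ha3⟩ := ih (k + 1) (by omega) (Fin.cons r b)
      ⟨by
        intro i
        refine Fin.cases ?_ ?_ i
        · exact hr
        · intro i; exact h.root i, by
        intro i j
        refine Fin.cases ?_ ?_ i
        · refine Fin.cases ?_ ?_ j
          · intro hne; exact absurd rfl hne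
          · intro j _; exact horth j
        · intro i
          refine Fin.cases ?_ ?_ j
          · intro _
            show form (b i) r = 0
            rw [form_comm]; exact horth i
          · intro j hne
            exact h.orth i j fun h' => hne (by rw [h'])⟩
      (by
        intro i
        refine Fin.cases ?_ ?_ i
        · exact hwr
        · intro i; exact hb i)
    exact ⟨a, ha, ha2, fun i => ha3 i.succ⟩

/-- **(W1)** -/
theorem inv_frame (w : W) (hw : w * w = 1) : ∃ d : Sg →* W, IsFr det neg IsRefl d ∧ w ∈ d.range := by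
  obtain ⟨a, ha, hwa, -⟩ := extend hw 8 0 rfl Fin.elim0 ⟨fun i => i.elim0, fun i => i.elim0⟩
    (fun i => i.elim0)
  obtain ⟨π, hπ⟩ := exists_lab ha
  have hs : ∀ i, ∃ s : ℤˣ, ap w (a (π i)) = (s : ℤ) • a (π i) := by
    intro i
    rcases hwa (π i) with h | h
    · exact ⟨1, by rw [h]; simp⟩
    · exact ⟨-1, by rw [h]; simp⟩
  choose s hs using hs
  exact ⟨dh (ha.comp π), isFr (ha.comp π) hπ, s, (eq_dh (ha.comp π) hs).symm⟩

/-! ### No 5-cycle on orthogonal lines -/


end Cfsg.Agent.OddHalf.D9.EEight.Extend
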