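import Cfsg.Agent.OddHalf.D9.EEight.AutG

/-!
# The automorphisms of `K₀ = det.ker` are induced by `W`
-/

set_option autoImplicit false

namespace Cfsg.Agent.OddHalf.D9.EEight.AutD

open Equiv Subgroup Cfsg.Agent.OddHalf.D9.EEight.Counts Cfsg.Agent.OddHalf.D9.EEight.FrameBase
  Cfsg.Agent.OddHalf.D9.EEight.FrameHom Cfsg.Agent.OddHalf.D9.EEight.FrameCode
  Cfsg.Agent.OddHalf.D9.EEight.Move
open scoped commutatorElement

variable {a : Fin 8 → Lat} {α : MulAut det.ker}

/-- a unit from `±1` -/
def un (x : ℤ) : ℤˣ := if x = -1 then -1 else 1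

theorem un_val {x : ℤ} (h : x = 1 ∨ x = -1) : ((un x : ℤˣ) : ℤ) = x := by
  rcases h with rfl | rfl <;> rfl

/-- **the signs** -/
theorem exists_signs (E : EF det neg IsRefl) (ha : Frame a) (hl : Lab a) (hα : Fixes α ha) :
    ∃ s : Sg, ∀ b b', Im α ha b b' → b' = ap (dh ha s) b ∨ b' = -ap (dh ha s) b := by
  -- roots through `0, i`
  have hex : ∀ i : Fin 8, ∃ b b', i ≠ 0 → Im α ha b b' ∧ form b (a 0) ≠ 0 ∧ form b (a i) ≠ 0 := by
    intro i
    by_cases hi : i = 0
    · exact ⟨0, 0, fun h => absurd hi h⟩
    · obtain ⟨k, hk1, hk2⟩ := third 0 i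
      obtain ⟨b, hb, h0, h1, -⟩ := exists_nf ha hl (fun h => hi h.symm) hk1 hk2
      obtain ⟨b', hb'⟩ := exists_im E ha hα hb
      exact ⟨b, b', fun _ => ⟨hb', h0, h1⟩⟩
  choose β β' hβ using hex
  let s : Sg := fun i => if i = 0 then 1 else un (tt a (β i) (β' i) 0 * tt a (β i) (β' i) i)
  have hs0 : s 0 = 1 := if_pos rfl
  have pm_mul : ∀ x y : ℤ, (x = 1 ∨ x = -1) → (y = 1 ∨ y = -1) → (x * y = 1 ∨ x * y = -1) := by
    rintro x y (rfl | rfl) (rfl | rfl) <;> norm_num
  have hs : ∀ i, i ≠ 0 → (s i : ℤ) = tt a (β i) (β' i) 0 * tt a (β i) (β' i) i := by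
    intro i hi
    have : s i = un (tt a (β i) (β' i) 0 * tt a (β i) (β' i) i) := if_neg hi
    rw [this]
    obtain ⟨h1, h2, h3⟩ := hβ i hi
    exact un_val (pm_mul _ _ (h1.tt_val ha h2) (h1.tt_val ha h3))
  have sq1 : ∀ x : ℤ, (x = 1 ∨ x = -1) → x * x = 1 := by
    rintro x (rfl | rfl) <;> norm_num
  -- roots with `0` in the support
  have h0 : ∀ b b', Im α ha b b' → form b (a 0) ≠ 0 → ∀ i, form b (a i) ≠ 0 →
      tt a b b' 0 * tt a b b' i = s i := by
    intro b b' h hb0 i hi
    by_cases hi0 : i = 0
    · rw [hi0, hs0, Units.val_one]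
      exact sq1 _ (h.tt_val ha hb0)
    · obtain ⟨h1, h2, h3⟩ := hβ i hi0
      rw [hs i hi0]
      exact tt_eq ha hl hα h h1 (fun h => hi0 h.symm) hb0 hi h2 h3
  -- all roots
  have hall : ∀ b b', Im α ha b b' → ∀ i j, form b (a i) ≠ 0 → form b (a j) ≠ 0 →
      tt a b b' i * tt a b b' j = s i * s j := by
    intro b b' h i j hi hj
    by_cases hb0 : form b (a 0) = 0
    · by_cases hij : i = j
      · subst hij
        rw [sq1 _ (h.tt_val ha hi)]
        rcases Int.units_eq_one_or (s i) with h1 | h1 <;> rw [h1] <;> simp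
      · have hi0 : (0 : Fin 8) ≠ i := by rintro rfl; exact hi hb0
        have hj0 : (0 : Fin 8) ≠ j := by rintro rfl; exact hj hb0
        obtain ⟨c, hc, c0, ci, cj⟩ := exists_nf ha hl hi0 hj0 hij
        obtain ⟨c', hc'⟩ := exists_im E ha hα hc
        rw [tt_eq ha hl hα h hc' hij hi hj ci cj, ← h0 c c' hc' c0 i ci, ← h0 c c' hc' c0 j cj]
        have := sq1 _ (hc'.tt_val ha c0)
        linear_combination (-(tt a c c' i * tt a c c' j)) * this
    · rw [← h0 b b' h hb0 i hi, ← h0 b b' h hb0 j hj]
      have := sq1 _ (h.tt_val ha hb0)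
      linear_combination (-(tt a b b' i * tt a b b' j)) * this
  refine ⟨s, fun b b' h => ?_⟩
  obtain ⟨k, hk⟩ : ∃ k, form b (a k) ≠ 0 := by
    have h6 : (Finset.univ.filter (fun i => form b (a i) ≠ 0)).Nonempty := by
      rw [← Finset.card_pos, h.nf.card ha]
      norm_num
    obtain ⟨m, hm⟩ := h6
    exact ⟨m, (Finset.mem_filter.1 hm).2⟩
  have key : ∀ l, form b' (a l) = (tt a b b' k * (s k : ℤ)) * ((s l : ℤ) * form b (a l)) := by
    intro l
    by_cases hl0 : form b (a l) = 0
    · rw [hl0, h.zero l hl0]; ring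
    · have h1 := hall b b' h k l hk hl0
      have h2 := sq1 _ (h.tt_val ha hk)
      have h3 : form b (a l) * form b (a l) = 1 := sq1 _ ((h.nf.val ha l).resolve_left hl0)
      have h4 : form b' (a l) = tt a b b' l * form b (a l) := by
        unfold tt
        linear_combination (-(form b' (a l))) * h3
      rw [h4]
      linear_combination (-(tt a b b' l * form b (a l))) * h2 +
        (tt a b b' k * form b (a l)) * h1
  have hu : (tt a b b' k * (s k : ℤ)) = 1 ∨ (tt a b b' k * (s k : ℤ)) = -1 := by
    apply pm_mul _ _ (h.tt_val ha hk)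
    rcases Int.units_eq_one_or (s k) with h1 | h1 <;> rw [h1] <;> simp
  rcases hu with hu | hu
  · left
    apply ha.ext
    intro l
    rw [form_dh, key, hu, one_mul]
  · right
    apply ha.ext
    intro l
    rw [form_neg_left, form_dh, key, hu]
    ring

/-- the automorphism of `det.ker` induced by `w` -/
noncomputable def cj (w : W) : MulAut det.ker := MulAut.conjNormal w

theorem cj_apply (w : W) (k : det.ker) : (cj w k : W) = w * k * w⁻¹ :=
  MulAut.conjNormal_apply w k

/-- the final normal form: everything is fixed -/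
theorem fixes_all (E : EF det neg IsRefl) (hp : commutator det.ker = ⊤) (ha : Frame a) (hl : Lab a)
    (hα : Fixes α ha) (h : ∀ b (hb : NF a b) m, form b (a m) = 0 → α (rr ha hb.root m) = rr ha hb.root m) :
    α = 1 := by
  -- every root
  have h1 : ∀ r (hr : IsRoot r), ∃ m, α (rr ha hr m) = rr ha hr m := by
    intro r hr
    rcases root_cases ha hr with hb | ⟨i, hi⟩
    · obtain ⟨m, hm⟩ : ∃ m, form r (a m) = 0 := by
        have h6 : (Finset.univ.filter (fun i => form r (a i) = 0)).Nonempty := by
          rw [← Finset.card_pos, hb.card' ha]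
          norm_num
        obtain ⟨m, hm⟩ := h6
        exact ⟨m, mem_zero.1 hm⟩
      exact ⟨m, h r hb m hm⟩
    · obtain ⟨m, hm, -⟩ := third i i
      refine ⟨m, ?_⟩
      have e : rr ha hr m = dk ha ⟨pr i m, pr_mem i m⟩ := by
        apply Subtype.ext
        show refl hr * refl (fr ha m) = dh ha (pr i m)
        rw [dh_pr]
        have h2 : refl hr = refl (fr ha i) := RfFive.refl_congr (fr ha i) hr hi
        rw [h2]
      rw [e, hα]
  -- all products of two reflections
  have h2 : ∀ r (hr : IsRoot r) s (hs : IsRoot s),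
      α ⟨refl hr * refl hs, det_two hr hs⟩ = ⟨refl hr * refl hs, det_two hr hs⟩ := by
    intro r hr s hs
    obtain ⟨m, hm⟩ := h1 r hr
    obtain ⟨n, hn⟩ := h1 s hs
    have e : (⟨refl hr * refl hs, det_two hr hs⟩ : det.ker) =
        rr ha hr m * dk ha ⟨pr m n, pr_mem m n⟩ * (rr ha hs n)⁻¹ := by
      rw [rr_mul]
      apply Subtype.ext
      show refl hr * refl hs = refl hr * refl (fr ha n) * (refl hs * refl (fr ha n))⁻¹
      have h3 : (refl hs)⁻¹ = refl hs := inv_eq_of_mul_eq_one_right (refl_sq hs)
      rw [mul_inv_rev, h3]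
      group
    rw [e, map_mul, map_mul, map_inv, hm, hn, hα]
  -- the difference is central
  have h3 : ∀ k : det.ker, (k⁻¹ * α k : det.ker) = 1 ∨ ((k⁻¹ * α k : det.ker) : W) = neg := by
    intro k
    have hc : ∀ r (hr : IsRoot r) s (hs : IsRoot s),
        ((k⁻¹ * α k : det.ker) : W) * (refl hr * refl hs) =
          (refl hr * refl hs) * ((k⁻¹ * α k : det.ker) : W) := by
      intro r hr s hs
      have e1 : k * ⟨refl hr * refl hs, det_two hr hs⟩ * k⁻¹ =
          ⟨refl (isRoot_ap hr (k : W)) * refl (isRoot_ap hs (k : W)), det_two _ _⟩ := by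
        apply Subtype.ext
        show (k : W) * (refl hr * refl hs) * (k : W)⁻¹ = _
        rw [mul_conj, RfFive.conj_refl hr, RfFive.conj_refl hs]
      have e2 := congrArg α e1
      rw [map_mul, map_mul, map_inv, h2, h2, ← e1] at e2
      have e3 : (k⁻¹ * α k) * ⟨refl hr * refl hs, det_two hr hs⟩ =
          ⟨refl hr * refl hs, det_two hr hs⟩ * (k⁻¹ * α k) := by
        have e4 : α k * ⟨refl hr * refl hs, det_two hr hs⟩ =
            k * ⟨refl hr * refl hs, det_two hr hs⟩ * k⁻¹ * α k := by
          rw [← e2]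
          group
        rw [mul_assoc, e4]
        group
      exact congrArg Subtype.val e3
    -- it lies in the frame group
    obtain ⟨ε, hε⟩ := (isFr ha hl).cen ((k⁻¹ * α k : det.ker) : W) (by
      have hgen : ∀ j : Fin 8, j ≠ 0 → ((k⁻¹ * α k : det.ker) : W) * dh ha (pr 0 j) =
          dh ha (pr 0 j) * ((k⁻¹ * α k : det.ker) : W) := by
        intro j _
        rw [dh_pr]
        exact hc _ _ _ _
      let T : Subgroup Sg :=
        { carrier := {x | ((k⁻¹ * α k : det.ker) : W) * dh ha x = dh ha x * ((k⁻¹ * α k : det.ker) : W)}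
          one_mem' := by
            show _ * dh ha 1 = dh ha 1 * _
            rw [map_one, one_mul, mul_one]
          mul_mem' := by
            intro x y hx hy
            show _ * dh ha (x * y) = dh ha (x * y) * _
            have hx' : ((k⁻¹ * α k : det.ker) : W) * dh ha x = dh ha x * ((k⁻¹ * α k : det.ker) : W) := hx
            have hy' : ((k⁻¹ * α k : det.ker) : W) * dh ha y = dh ha y * ((k⁻¹ * α k : det.ker) : W) := hy
            rw [map_mul, ← mul_assoc, hx', mul_assoc, hy', mul_assoc]
          inv_mem' := by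
            intro x hx
            show _ * dh ha x⁻¹ = dh ha x⁻¹ * _
            have : x⁻¹ = x := inv_eq_of_mul_eq_one_right (EEight.sq_one x)
            rw [this]
            exact hx }
      intro x hx
      exact ev_gen (T := T) hgen hx)
    -- constant signs
    have hconst : ∀ i j : Fin 8, ε i = ε j := by
      intro i j
      by_cases hij : i = j
      · rw [hij]
      obtain ⟨l, hl1, hl2⟩ := third i j
      obtain ⟨b, hb, hi, hj, -⟩ := exists_nf ha hl hij hl1 hl2
      obtain ⟨m, hm⟩ : ∃ m, form b (a m) = 0 := by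
        have h6 : (Finset.univ.filter (fun i => form b (a i) = 0)).Nonempty := by
          rw [← Finset.card_pos, hb.card' ha]
          norm_num
        obtain ⟨m, hm⟩ := h6
        exact ⟨m, mem_zero.1 hm⟩
      have e1 := hc b hb.root (a m) (fr ha m)
      rw [← hε] at e1
      have e2 : dh ha ε * (refl hb.root * refl (fr ha m)) * (dh ha ε)⁻¹ =
          refl hb.root * refl (fr ha m) := by
        rw [e1, mul_inv_cancel_right]
      rw [mul_conj, RfFive.conj_refl hb.root, refl_conj_eq (fr ha m), mul_left_inj] at e2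
      · have e3 := refl_inj _ hb.root e2
        have f1 : form (ap (dh ha ε) b) (a i) = ε i * form b (a i) := form_dh ha _ _ _
        have f2 : form (ap (dh ha ε) b) (a j) = ε j * form b (a j) := form_dh ha _ _ _
        rcases e3 with e3 | e3
        · rw [← e3] at f1 f2
          have g1 : (ε i : ℤ) = 1 := by
            rcases Int.units_eq_one_or (ε i) with h | h
            · rw [h]; rfl
            · rw [h] at f1; simp only [Units.val_neg, Units.val_one] at f1; omega
          have g2 : (ε j : ℤ) = 1 := by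
            rcases Int.units_eq_one_or (ε j) with h | h
            · rw [h]; rfl
            · rw [h] at f2; simp only [Units.val_neg, Units.val_one] at f2; omega
          exact Units.ext (g1.trans g2.symm)
        · have e4 : ap (dh ha ε) b = -b := by
            have e5 := congrArg Neg.neg e3
            rw [neg_neg] at e5
            exact e5.symm
          rw [e4, form_neg_left] at f1 f2
          have g1 : (ε i : ℤ) = -1 := by
            rcases Int.units_eq_one_or (ε i) with h | h
            · rw [h] at f1; simp only [Units.val_one] at f1; omega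
            · rw [h]; rfl
          have g2 : (ε j : ℤ) = -1 := by
            rcases Int.units_eq_one_or (ε j) with h | h
            · rw [h] at f2; simp only [Units.val_one] at f2; omega
            · rw [h]; rfl
          exact Units.ext (g1.trans g2.symm)
      · rw [ap_dh]
        rcases Int.units_eq_one_or (ε m) with h | h <;> rw [h] <;> simp
    rcases Int.units_eq_one_or (ε 0) with h0 | h0
    · left
      have : ε = 1 := by
        funext i
        rw [hconst i 0, h0]
        rfl
      rw [this, map_one] at hε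
      exact Subtype.ext hε.symm
    · right
      have : ε = -1 := by
        funext i
        rw [hconst i 0, h0]
        rfl
      rw [← hε, this, dh_neg]
  -- the difference is central, so commutators are fixed
  have h4 : ∀ k : det.ker, ∀ x : det.ker, (k⁻¹ * α k) * x = x * (k⁻¹ * α k) := by
    intro k x
    rcases h3 k with h5 | h5
    · rw [h5, one_mul, mul_one]
    · apply Subtype.ext
      show ((k⁻¹ * α k : det.ker) : W) * (x : W) = (x : W) * ((k⁻¹ * α k : det.ker) : W)
      rw [h5, E.c_comm]
  let T : Subgroup det.ker :=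
    { carrier := {k | α k = k}
      one_mem' := map_one α
      mul_mem' := by
        intro x y hx hy
        show α (x * y) = x * y
        rw [map_mul]
        exact congrArg₂ _ hx hy
      inv_mem' := by
        intro x hx
        show α x⁻¹ = x⁻¹
        rw [map_inv]
        exact congrArg _ hx }
  have h5 : commutator det.ker ≤ T := by
    rw [commutator_eq_closure, closure_le]
    rintro _ ⟨x, y, rfl⟩
    show α ⁅x, y⁆ = ⁅x, y⁆
    rw [map_commutatorElement]
    have ex : α x = x * (x⁻¹ * α x) := by group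
    have ey : α y = y * (y⁻¹ * α y) := by group
    have cx := h4 x
    have cy := h4 y
    generalize x⁻¹ * α x = u at ex cx
    generalize y⁻¹ * α y = v at ey cy
    rw [ex, ey, commutatorElement_def, commutatorElement_def]
    have e1 : x * u * (y * v) = (x * y) * (u * v) := by
      rw [mul_assoc, ← mul_assoc u, cx]
      simp only [mul_assoc]
    have e2 : x * u * (y * v) * (x * u)⁻¹ * (y * v)⁻¹ = (x * u * (y * v)) * ((y * v) * (x * u))⁻¹ := by
      group
    have e3 : (y * v) * (x * u) = (y * x) * (u * v) := by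
      rw [mul_assoc, ← mul_assoc v, cy, cx v]
      simp only [mul_assoc]
    rw [e2, e1, e3]
    group
  rw [hp] at h5
  apply MulEquiv.ext
  intro k
  exact h5 (show k ∈ (⊤ : Subgroup det.ker) from trivial)

/-- **The automorphisms of `K₀` are induced by `W`.** -/
theorem exists_w (E : EF det neg IsRefl) (hp : commutator det.ker = ⊤) (α : MulAut det.ker) :
    ∃ w : W, ∀ k : det.ker, (α k : W) = w * k * w⁻¹ := by
  obtain ⟨a, ha, hl⟩ := InvRoot.exists_frame
  obtain ⟨w, hw⟩ := exists_conj E α ha hl
  have h1 : Fixes ((cj w)⁻¹ * α) ha := by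
    intro ε
    rw [MulAut.mul_apply, MulAut.inv_apply, MulEquiv.symm_apply_eq]
    apply Subtype.ext
    rw [cj_apply]
    exact hw ε ε.2
  obtain ⟨s, hs⟩ := exists_signs E ha hl h1
  have h2 : (cj (dh ha s))⁻¹ * ((cj w)⁻¹ * α) = 1 := by
    apply fixes_all E hp ha hl
    · intro ε
      rw [MulAut.mul_apply, h1, MulAut.inv_apply, MulEquiv.symm_apply_eq]
      apply Subtype.ext
      rw [cj_apply]
      show dh ha ε = dh ha s * dh ha ε * (dh ha s)⁻¹
      rw [← map_mul, mul_comm s, map_mul, mul_inv_cancel_right]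
    · intro b hb m hm
      obtain ⟨b', hb'⟩ := exists_im E ha h1 hb
      rw [MulAut.mul_apply, hb'.im m hm, MulAut.inv_apply, MulEquiv.symm_apply_eq]
      apply Subtype.ext
      rw [cj_apply]
      show refl hb'.nf'.root * refl (fr ha m) = dh ha s * (refl hb.root * refl (fr ha m)) * (dh ha s)⁻¹
      rw [mul_conj, RfFive.conj_refl hb.root, refl_conj_eq (fr ha m)]
      · rw [RfFive.refl_congr (isRoot_ap hb.root (dh ha s)) hb'.nf'.root (hs b b' hb')]
      · rw [ap_dh]
        rcases Int.units_eq_one_or (s m) with h | h <;> rw [h] <;> simp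
  refine ⟨w * dh ha s, fun k => ?_⟩
  have h3 : α = cj w * cj (dh ha s) := by
    rw [inv_mul_eq_one] at h2
    rw [h2]
    group
  rw [h3, MulAut.mul_apply, cj_apply, cj_apply]
  group

end Cfsg.Agent.OddHalf.D9.EEight.AutD
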