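import Cfsg.Agent.OddHalf.D9.EEight.IdPi
import Cfsg.Agent.OddHalf.D9.EEight.Aut
import Cfsg.Agent.OddHalf.D9.EEight.Id.Main

/-!
# D9: the row `2.Ω₈⁺(2)`, without hypotheses (helpers 109, 192, 528, 815, 912)

* `ident` : a perfect group `K` with `|Z(K)| = 2` and `K/Z(K) ≃ Ω₈⁺(2)` is isomorphic to `K₀ = W(E₈)'`;
* `autConj` : every automorphism of `K₀` is induced by `W(E₈)`;
* `row` : the field `o82` of `Cut.Rows`.
-/

set_option autoImplicit false

namespace Cfsg.Agent.OddHalf.D9.EEight.RowFinal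

open Subgroup Cfsg Cfsg.Agent.OddHalf.Iface Cfsg.Agent.OddHalf.D9.EEight
open Cfsg.Agent.OddHalf.D4.EvenEFacts (AutConj)

universe u

/-- Identification of the double cover of `Ω₈⁺(2)`. -/
theorem ident : RowOf.Ident.{u} := by
  intro K _ _ hp h2 hX
  obtain ⟨π, hs, hk⟩ := RowOf.exists_pi hX
  have hcard : Nat.card ↥π.ker = 2 := by rw [hk, h2]
  refine Id.Main.exists_iso (π := π) ⟨hs, hk.le, ?_, hp⟩ ?_ ?_
  · exact IsPGroup.iff_card.2 ⟨1, by rw [hcard, pow_one]⟩
  · intro h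
    rw [h, card_bot] at hcard
    omega
  · haveI : Fact (Nat.Prime 2) := ⟨Nat.prime_two⟩
    exact isCyclic_of_prime_card hcard

/-- The automorphisms of `K₀` are induced by `W(E₈)`. -/
theorem autConj : AutConj := fun α => AutD.exists_w EFInst.ef Id.Main.commutator_K α

/-- **The row `2.Ω₈⁺(2)` of D9**, the field `o82` of `Cut.Rows`. -/
theorem row : Cut.Row.{u} (fun K _ => Cut.Two (fun X _ => Cut.XO82 X) K) := RowOf.row ident autConj

end Cfsg.Agent.OddHalf.D9.EEight.RowFinal
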