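import Mathlib
import Cfsg.Agent.Transfer.ElemAbAut

/-!
# Row `2.O8+(2)`: the counts

Facts on the conjugates of an involution `z` under the normaliser of an elementary abelian group
`M` of order `2 ^ 7` or `2 ^ 8`, from the order of `GL_7(2)`, `GL_8(2)` and simple countings.
-/

set_option autoImplicit false

namespace Cfsg.Agent.OddHalf.D9.EEight.Count

open Subgroup

variable {G : Type*} [Group G]

/-- Orbit and stabiliser for the conjugation by a subgroup. -/
theorem orb_mul_stab (N : Subgroup G) (x : G) :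
    Nat.card {y : G // ∃ n ∈ N, n * x * n⁻¹ = y} *
      Nat.card ((N ⊓ centralizer {x} : Subgroup G)) = Nat.card N := by
  classical
  set K : Subgroup N := (centralizer {x}).subgroupOf N with hK
  have h1 : Nat.card ((N ⊓ centralizer {x} : Subgroup G)) = Nat.card K := by
    have h2 : K.map N.subtype = N ⊓ centralizer {x} := by
      rw [hK, Subgroup.subgroupOf_map_subtype, inf_comm]
    rw [← h2]
    exact Nat.card_congr (K.equivMapOfInjective _ N.subtype_injective).symm.toEquiv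
  have h3 : Nat.card {y : G // ∃ n ∈ N, n * x * n⁻¹ = y} = Nat.card (N ⧸ K) := by
    refine (Nat.card_congr (Equiv.ofBijective
      (fun q : N ⧸ K => Quotient.liftOn' q
        (fun n : N => (⟨(n : G) * x * (n : G)⁻¹, n, n.2, rfl⟩ :
          {y : G // ∃ n ∈ N, n * x * n⁻¹ = y})) ?_) ⟨?_, ?_⟩)).symm
    · intro a b hab
      rw [QuotientGroup.leftRel_apply] at hab
      have h4 : (a : G)⁻¹ * b ∈ centralizer {x} := by
        have := Subgroup.mem_subgroupOf.mp hab
        simpa using this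
      rw [mem_centralizer_singleton_iff] at h4
      apply Subtype.ext
      change (a : G) * x * (a : G)⁻¹ = (b : G) * x * (b : G)⁻¹
      calc (a : G) * x * (a : G)⁻¹ = a * (x * ((a : G)⁻¹ * b)) * (b : G)⁻¹ := by group
        _ = a * (((a : G)⁻¹ * b) * x) * (b : G)⁻¹ := by rw [h4]
        _ = (b : G) * x * (b : G)⁻¹ := by group
    · intro p q
      refine Quotient.inductionOn₂' p q ?_
      intro a b hab
      have hab' : (a : G) * x * (a : G)⁻¹ = (b : G) * x * (b : G)⁻¹ := congrArg Subtype.val hab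
      apply Quotient.sound'
      rw [QuotientGroup.leftRel_apply]
      refine Subgroup.mem_subgroupOf.mpr ?_
      change (a : G)⁻¹ * b ∈ centralizer {x}
      rw [mem_centralizer_singleton_iff]
      calc (a : G)⁻¹ * b * x = (a : G)⁻¹ * (b * x * (b : G)⁻¹) * b := by group
        _ = (a : G)⁻¹ * (a * x * (a : G)⁻¹) * b := by rw [hab']
        _ = x * ((a : G)⁻¹ * b) := by group
    · rintro ⟨y, n, hn, rfl⟩
      exact ⟨Quotient.mk'' ⟨n, hn⟩, rfl⟩
  rw [h3, h1, mul_comm]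
  exact K.card_mul_index

theorem orb_card [Finite G] (N : Subgroup G) (x : G) :
    Nat.card {y : G // ∃ n ∈ N, n * x * n⁻¹ = y} = (N ⊓ centralizer {x}).relIndex N := by
  have h1 := orb_mul_stab N x
  have h2 := relIndex_mul_relIndex ⊥ (N ⊓ centralizer {x}) N bot_le inf_le_left
  rw [relIndex_bot_left, relIndex_bot_left] at h2
  have h3 : Nat.card ((N ⊓ centralizer {x} : Subgroup G)) ≠ 0 := Nat.card_pos.ne'
  rw [mul_comm] at h1
  exact Nat.eq_of_mul_eq_mul_left (Nat.pos_of_ne_zero h3) (h1.trans h2.symm)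

/-- (A) The number of conjugates of `z` under `N(M)` and `|N(M) ⊓ C(z) : C(M)|`. -/
theorem orb_dvd [Finite G] (M : Subgroup G) (z : G) (hz : z ∈ M) :
    Nat.card {y : G // ∃ n ∈ normalizer (M : Set G), n * z * n⁻¹ = y} *
      (centralizer (M : Set G)).relIndex (normalizer (M : Set G) ⊓ centralizer {z}) ∣
      Nat.card (MulAut M) := by
  rw [orb_card]
  have h1 : centralizer (M : Set G) ≤ normalizer (M : Set G) ⊓ centralizer {z} := by
    refine le_inf ?_ ?_
    · exact centralizer_le_normalizer _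
    · exact centralizer_le (by simpa using hz)
  rw [mul_comm, relIndex_mul_relIndex _ _ _ h1 inf_le_left]
  have key := Subgroup.card_dvd_of_injective _
    (QuotientGroup.kerLift_injective M.normalizerMonoidHom)
  rwa [Subgroup.normalizerMonoidHom_ker, ← Subgroup.index, ← Subgroup.relIndex] at key

/-- The number of conjugates of `z ∈ M` under `N(M)` divides `|GL_k(2)|` when `M` is elementary
abelian of order `2 ^ k`. -/
theorem orb_dvd_prod [Finite G] (M : Subgroup G) (k : ℕ) (hM : Nat.card M = 2 ^ k)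
    (hsq : ∀ x ∈ M, x * x = 1) (z : G) (hz : z ∈ M) :
    Nat.card {y : G // ∃ n ∈ normalizer (M : Set G), n * z * n⁻¹ = y} *
      (centralizer (M : Set G)).relIndex (normalizer (M : Set G) ⊓ centralizer {z}) ∣
      ∏ i : Fin k, (2 ^ k - 2 ^ (i : ℕ)) := by
  have h1 := orb_dvd M z hz
  have hsq' : ∀ x : M, x * x = 1 := fun x => Subtype.ext (hsq x x.2)
  have hc : ∀ x y : M, x * y = y * x := fun x y => by
    have h2 : ∀ w : M, w⁻¹ = w := fun w => inv_eq_of_mul_eq_one_left (hsq' w)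
    calc x * y = (x * y)⁻¹ := (h2 _).symm
      _ = y⁻¹ * x⁻¹ := mul_inv_rev _ _
      _ = y * x := by rw [h2, h2]
  rwa [Cfsg.Agent.Transfer.ElemAbAut.card_mulAut 2 k hc (fun x => by rw [pow_two]; exact hsq' x)
    hM] at h1

theorem prod_seven : ∏ i : Fin 7, (2 ^ 7 - 2 ^ (i : ℕ)) = 2 ^ 21 * 3 ^ 4 * 5 * 7 ^ 2 * 31 * 127 := by
  decide

theorem prod_eight :
    ∏ i : Fin 8, (2 ^ 8 - 2 ^ (i : ℕ)) = 2 ^ 28 * 3 ^ 5 * 5 ^ 2 * 7 ^ 2 * 17 * 31 * 127 := by
  decide

/-- (A), order `2 ^ 7`: `z` has `1 + 28 i + 70 j` conjugates with `i ≤ 2`, `j ≤ 1` only for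
`1` and `127`. -/
theorem orb_seven [Finite G] (M : Subgroup G) (hM : Nat.card M = 2 ^ 7)
    (hsq : ∀ x ∈ M, x * x = 1) (z : G) (hz : z ∈ M) (i j : ℕ) (hi : i ≤ 2) (hj : j ≤ 1)
    (h : Nat.card {y : G // ∃ n ∈ normalizer (M : Set G), n * z * n⁻¹ = y} =
      1 + 28 * i + 70 * j) :
    Nat.card {y : G // ∃ n ∈ normalizer (M : Set G), n * z * n⁻¹ = y} = 1 ∨
    Nat.card {y : G // ∃ n ∈ normalizer (M : Set G), n * z * n⁻¹ = y} = 127 := by
  have h1 := dvd_of_mul_right_dvd (orb_dvd_prod M 7 hM hsq z hz)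
  rw [h, prod_seven] at h1
  rw [h]
  interval_cases i <;> interval_cases j <;> revert h1 <;> norm_num

/-- (A), order `2 ^ 7`: `z` has `1 + 56 b` conjugates only for `b = 0`. -/
theorem orb_seven' [Finite G] (M : Subgroup G) (hM : Nat.card M = 2 ^ 7)
    (hsq : ∀ x ∈ M, x * x = 1) (z : G) (hz : z ∈ M) (b : ℕ) (hb : b ≤ 2)
    (h : Nat.card {y : G // ∃ n ∈ normalizer (M : Set G), n * z * n⁻¹ = y} = 1 + 56 * b) :
    Nat.card {y : G // ∃ n ∈ normalizer (M : Set G), n * z * n⁻¹ = y} = 1 := by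
  have h1 := dvd_of_mul_right_dvd (orb_dvd_prod M 7 hM hsq z hz)
  rw [h, prod_seven] at h1
  rw [h]
  interval_cases b <;> revert h1 <;> norm_num

/-- (A), order `2 ^ 8`: `z` has `1 + 8 i + 56 j` conjugates with `i ≤ 2`, `j ≤ 3` only for
`1`, `9` and `17`. -/
theorem orb_eight [Finite G] (M : Subgroup G) (hM : Nat.card M = 2 ^ 8)
    (hsq : ∀ x ∈ M, x * x = 1) (z : G) (hz : z ∈ M) (i j : ℕ) (hi : i ≤ 2) (hj : j ≤ 3)
    (h : Nat.card {y : G // ∃ n ∈ normalizer (M : Set G), n * z * n⁻¹ = y} =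
      1 + 8 * i + 56 * j) :
    Nat.card {y : G // ∃ n ∈ normalizer (M : Set G), n * z * n⁻¹ = y} = 1 ∨
    Nat.card {y : G // ∃ n ∈ normalizer (M : Set G), n * z * n⁻¹ = y} = 9 ∨
    Nat.card {y : G // ∃ n ∈ normalizer (M : Set G), n * z * n⁻¹ = y} = 17 := by
  have h1 := dvd_of_mul_right_dvd (orb_dvd_prod M 8 hM hsq z hz)
  rw [h, prod_eight] at h1
  rw [h]
  interval_cases i <;> interval_cases j <;> revert h1 <;> norm_num

/-- A map of order dividing `3` without fixed points: `3` divides the number of points. -/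
theorem three_dvd {X : Type*} [Finite X] (f : X → X) (hf : ∀ x, f (f (f x)) = x)
    (hfx : ∀ x, f x ≠ x) : 3 ∣ Nat.card X := by
  classical
  have := Fintype.ofFinite X
  have h3 : Fact (Nat.Prime 3) := ⟨Nat.prime_three⟩
  have h1 : (show Function.End X from f) ^ 3 ^ 1 = 1 := by
    funext x
    exact hf x
  have h2 := Equiv.Perm.card_fixedPoints_modEq (p := 3) (n := 1) h1
  have h4 : Fintype.card (Function.fixedPoints (show Function.End X from f)) = 0 := by
    rw [Fintype.card_eq_zero_iff]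
    exact ⟨fun x => hfx x.1 x.2⟩
  rw [h4] at h2
  rw [Nat.card_eq_fintype_card]
  exact (Nat.modEq_zero_iff_dvd).mp h2

/-- (E) The transfer of weak closure through a conjugate. -/
theorem lemmaP (z : G) (hz1 : z ≠ 1) (M M1 L : Subgroup G) (hzM : z ∈ M)
    (hfix : ∀ x ∈ M1, (∀ n ∈ normalizer (M1 : Set G) ⊓ L, n * x * n⁻¹ = x) → x = 1 ∨ x = z)
    (hN : normalizer (M : Set G) ≤ centralizer {z}) (g : G)
    (hg : ∀ x, x ∈ M1 ↔ g * x * g⁻¹ ∈ M) : g * z * g⁻¹ = z := by
  have h1 : g⁻¹ * z * g ∈ M1 := by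
    rw [hg]
    have : g * (g⁻¹ * z * g) * g⁻¹ = z := by group
    rwa [this]
  have h2 : ∀ n ∈ normalizer (M1 : Set G) ⊓ L, n * (g⁻¹ * z * g) * n⁻¹ = g⁻¹ * z * g := by
    intro n hn
    have h3 : g * n * g⁻¹ ∈ normalizer (M : Set G) := by
      rw [mem_normalizer_iff]
      intro h
      have h4 := (mem_normalizer_iff.mp hn.1) (g⁻¹ * h * g)
      have h5 : h ∈ (M : Set G) ↔ g⁻¹ * h * g ∈ (M1 : Set G) := by
        change h ∈ M ↔ g⁻¹ * h * g ∈ M1
        rw [hg]
        have : g * (g⁻¹ * h * g) * g⁻¹ = h := by group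
        rw [this]
      have h6 : n * (g⁻¹ * h * g) * n⁻¹ ∈ (M1 : Set G) ↔
          g * n * g⁻¹ * h * (g * n * g⁻¹)⁻¹ ∈ (M : Set G) := by
        change n * (g⁻¹ * h * g) * n⁻¹ ∈ M1 ↔ g * n * g⁻¹ * h * (g * n * g⁻¹)⁻¹ ∈ M
        rw [hg]
        have : g * (n * (g⁻¹ * h * g) * n⁻¹) * g⁻¹ = g * n * g⁻¹ * h * (g * n * g⁻¹)⁻¹ := by
          group
        rw [this]
      exact (h5.trans h4).trans h6
    have h7 := mem_centralizer_singleton_iff.mp (hN h3)
    calc n * (g⁻¹ * z * g) * n⁻¹ = g⁻¹ * (g * n * g⁻¹ * z) * g * n⁻¹ := by group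
      _ = g⁻¹ * (z * (g * n * g⁻¹)) * g * n⁻¹ := by rw [h7]
      _ = g⁻¹ * z * g := by group
  rcases hfix _ h1 h2 with h | h
  · exfalso
    apply hz1
    calc z = g * (g⁻¹ * z * g) * g⁻¹ := by group
      _ = 1 := by rw [h]; group
  · calc g * z * g⁻¹ = g * (g⁻¹ * z * g) * g⁻¹ := by rw [h]
      _ = z := by group

end Cfsg.Agent.OddHalf.D9.EEight.Count
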