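import Mathlib

/-!
# Row `2.O8+(2)`: the case of 9 conjugates

There is no transitive extension of `AGL_3(2)` (in the form of degree 9).
-/

set_option autoImplicit false
set_option Elab.async false

namespace Cfsg.Agent.OddHalf.D9.EEight.CountD

open Equiv

theorem xassoc : ∀ i j k : Fin 8, i ^^^ j ^^^ k = i ^^^ (j ^^^ k) := by decide +kernel

theorem xcomm : ∀ i j : Fin 8, i ^^^ j = j ^^^ i := by decide +kernel

theorem xself : ∀ i : Fin 8, i ^^^ i = 0 := by decide +kernel

theorem xzero : ∀ i : Fin 8, i ^^^ 0 = i := by decide +kernel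

theorem zerox : ∀ i : Fin 8, 0 ^^^ i = i := by decide +kernel

/-- A permutation of the eight points is affine. -/
def Aff (π : Perm (Fin 8)) : Prop := ∀ i j k, π (i ^^^ j ^^^ k) = π i ^^^ π j ^^^ π k

/-- The translation by `c`. -/
def tr (c : Fin 8) : Perm (Fin 8) where
  toFun x := x ^^^ c
  invFun x := x ^^^ c
  left_inv x := by
    change x ^^^ c ^^^ c = x
    rw [xassoc, xself, xzero]
  right_inv x := by
    change x ^^^ c ^^^ c = x
    rw [xassoc, xself, xzero]

theorem tr_apply (c x : Fin 8) : tr c x = x ^^^ c := rfl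

theorem aff_tr (c : Fin 8) : Aff (tr c) := by
  intro i j k
  simp only [tr_apply]
  have h1 : i ^^^ c ^^^ (j ^^^ c) = i ^^^ j := by
    rw [xassoc, ← xassoc c, xcomm c j, xassoc j, xself, xzero]
  rw [h1, xassoc (i ^^^ j)]

/-- The transvection function with axis `{0, i, j, i ^^^ j}` and centre `i`. -/
def tvf (i j x : Fin 8) : Fin 8 :=
  if x = 0 ∨ x = i ∨ x = j ∨ x = i ^^^ j then x else x ^^^ i

theorem tvf_tvf : ∀ i j x : Fin 8, tvf i j (tvf i j x) = x := by decide +kernel

theorem tvf_add : ∀ i j : Fin 8, i ≠ 0 → j ≠ 0 → i ≠ j →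
    ∀ x y : Fin 8, tvf i j (x ^^^ y) = tvf i j x ^^^ tvf i j y := by decide +kernel

theorem tvf_fix : ∀ i j : Fin 8, i ≠ 0 → ∀ x : Fin 8, tvf i j x = x →
    x = 0 ∨ x = i ∨ x = j ∨ x = i ^^^ j := by decide +kernel

theorem tvf_zero (i j : Fin 8) : tvf i j 0 = 0 := by simp [tvf]

/-- The transvection. -/
def tv (i j : Fin 8) : Perm (Fin 8) where
  toFun := tvf i j
  invFun := tvf i j
  left_inv := tvf_tvf i j
  right_inv := tvf_tvf i j

theorem aff_tv (i j : Fin 8) (hi : i ≠ 0) (hj : j ≠ 0) (hij : i ≠ j) : Aff (tv i j) := by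
  intro a b c
  change tvf i j (a ^^^ b ^^^ c) = tvf i j a ^^^ tvf i j b ^^^ tvf i j c
  rw [tvf_add i j hi hj hij, tvf_add i j hi hj hij]

/-- A group of permutations of `9` points in which the stabiliser of one point is the affine group
of the other eight points fixes this point. -/
theorem perm_false (A : Subgroup (Perm (Option (Fin 8))))
    (h1 : ∀ σ ∈ A, σ none = none → ∀ i j k a b c, σ (some i) = some a → σ (some j) = some b →
      σ (some k) = some c → σ (some (i ^^^ j ^^^ k)) = some (a ^^^ b ^^^ c))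
    (h2 : ∀ π : Perm (Fin 8), Aff π → optionCongr π ∈ A)
    (h3 : ∃ σ ∈ A, σ none ≠ none) : False := by
  -- a permutation swapping `none` and `some 0`
  obtain ⟨w, hwA, hw1, hw2⟩ : ∃ w ∈ A, w none = some 0 ∧ w (some 0) = none := by
    obtain ⟨σ, hσ, hσn⟩ := h3
    obtain ⟨i, hi⟩ := Option.ne_none_iff_exists'.mp hσn
    set σ1 := optionCongr (tr i) * σ with hσ1
    have h4 : σ1 none = some 0 := by
      rw [hσ1, Perm.mul_apply, hi]
      change some (i ^^^ i) = some 0
      rw [xself]
    obtain ⟨x, hx⟩ := σ1.surjective none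
    have hxn : x ≠ none := by
      rintro rfl
      rw [h4] at hx
      exact absurd hx (by simp)
    obtain ⟨k, rfl⟩ := Option.ne_none_iff_exists'.mp hxn
    refine ⟨σ1 * optionCongr (tr k), A.mul_mem (A.mul_mem (h2 _ (aff_tr i)) hσ)
      (h2 _ (aff_tr k)), h4, ?_⟩
    rw [Perm.mul_apply]
    change σ1 (some (0 ^^^ k)) = none
    rw [zerox, hx]
  set w0 := swap none (some 0) * w with hw0
  have h01 : w0 none = none := by rw [hw0, Perm.mul_apply, hw1, swap_apply_right]
  have h02 : w0 (some 0) = some 0 := by rw [hw0, Perm.mul_apply, hw2, swap_apply_left]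
  have h03 : ∀ i, i ≠ 0 → w0 (some i) = w (some i) := by
    intro i hi
    rw [hw0, Perm.mul_apply, swap_apply_of_ne_of_ne]
    · intro h
      rw [← hw2] at h
      exact hi (Option.some_injective _ (w.injective h))
    · intro h
      rw [← hw1] at h
      exact absurd (w.injective h) (by simp)
  have h04 : ∀ i, ∃ a, w0 (some i) = some a := by
    intro i
    apply Option.ne_none_iff_exists'.mp
    intro h
    rw [← h01] at h
    exact absurd (w0.injective h) (by simp)
  set ω : Perm (Fin 8) := removeNone w0 with hω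
  have hωs : ∀ i, some (ω i) = w0 (some i) := fun i => removeNone_some w0 (h04 i)
  have hω0 : ω 0 = 0 := by
    have := hωs 0
    rw [h02] at this
    exact Option.some_injective _ this
  -- conjugates by `w` of linear maps
  have hconj : ∀ g : Perm (Fin 8), g 0 = 0 → ∀ i,
      (w * optionCongr g * w⁻¹) (some (ω i)) = some (ω (g i)) := by
    intro g hg i
    rw [Perm.mul_apply, Perm.mul_apply]
    rcases eq_or_ne i 0 with rfl | hi
    · rw [hg, hω0]
      have h5 : w⁻¹ (some 0) = none := by rw [Perm.inv_eq_iff_eq, hw1]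
      rw [h5]
      exact hw1
    · have h5 : w⁻¹ (some (ω i)) = some i := by rw [Perm.inv_eq_iff_eq, hωs, h03 i hi]
      rw [h5]
      have h6 : g i ≠ 0 := by
        intro h
        rw [← hg] at h
        exact hi (g.injective h)
      change w (some (g i)) = _
      rw [hωs, h03 _ h6]
  have hconj0 : ∀ g : Perm (Fin 8), g 0 = 0 → (w * optionCongr g * w⁻¹) none = none := by
    intro g hg
    rw [Perm.mul_apply, Perm.mul_apply]
    have h5 : w⁻¹ none = some 0 := by rw [Perm.inv_eq_iff_eq, hw2]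
    rw [h5]
    change w (some (g 0)) = none
    rw [hg, hw2]
  have hωadd : ∀ i j, ω (i ^^^ j) = ω i ^^^ ω j := by
    intro i j
    by_cases hi : i = 0
    · rw [hi, zerox, hω0, zerox]
    by_cases hj : j = 0
    · rw [hj, xzero, hω0, xzero]
    by_cases hij : i = j
    · rw [hij, xself, xself, hω0]
    have hg0 : tv i j 0 = 0 := tvf_zero i j
    have hgi : tv i j i = i := by change tvf i j i = i; simp [tvf]
    have hgj : tv i j j = j := by change tvf i j j = j; simp [tvf]
    have h5 := h1 (w * optionCongr (tv i j) * w⁻¹)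
      (A.mul_mem (A.mul_mem hwA (h2 _ (aff_tv i j hi hj hij))) (A.inv_mem hwA))
      (hconj0 _ hg0) (ω i) (ω j) (ω 0) (ω i) (ω j) (ω 0)
      (by rw [hconj _ hg0, hgi]) (by rw [hconj _ hg0, hgj]) (by rw [hconj _ hg0, hg0])
    rw [hω0, xzero] at h5
    obtain ⟨k, hk⟩ := ω.surjective (ω i ^^^ ω j)
    rw [← hk, hconj _ hg0] at h5
    have h6 : tv i j k = k := ω.injective (Option.some_injective _ h5)
    rcases tvf_fix i j hi k h6 with h | h | h | h
    · exfalso
      rw [h, hω0] at hk
      have h7 : ω i = ω j := by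
        have : 0 ^^^ ω j = ω i ^^^ ω j ^^^ ω j := congrArg (· ^^^ ω j) hk
        rw [zerox, xassoc, xself, xzero] at this
        exact this.symm
      exact hij (ω.injective h7)
    · exfalso
      rw [h] at hk
      have h7 : ω j = ω 0 := by
        have : ω i ^^^ ω i = ω i ^^^ (ω i ^^^ ω j) := congrArg (ω i ^^^ ·) hk
        rw [xself, ← xassoc, xself, zerox] at this
        rw [hω0]; exact this.symm
      exact hj (ω.injective h7)
    · exfalso
      rw [h] at hk
      have h7 : ω i = ω 0 := by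
        have : ω j ^^^ ω j = ω i ^^^ ω j ^^^ ω j := congrArg (· ^^^ ω j) hk
        rw [xself, xassoc, xself, xzero] at this
        rw [hω0]; exact this.symm
      exact hi (ω.injective h7)
    · rw [← h, hk]
  have hωaff : Aff ω := fun i j k => by rw [hωadd, hωadd]
  have hw0' : w0 = optionCongr ω := by
    ext1 x
    cases x with
    | none => rw [h01]; rfl
    | some i => rw [← hωs]; rfl
  have hswap : swap none (some (0 : Fin 8)) ∈ A := by
    have h5 : swap none (some (0 : Fin 8)) = w0 * w⁻¹ := by rw [hw0, mul_assoc, mul_inv_cancel, mul_one]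
    rw [h5, hw0']
    exact A.mul_mem (h2 _ hωaff) (A.inv_mem hwA)
  have hswap1 : swap none (some (1 : Fin 8)) ∈ A := by
    have h5 := A.mul_mem (A.mul_mem (h2 _ (aff_tr 1)) hswap) (A.inv_mem (h2 _ (aff_tr 1)))
    rw [← swap_apply_apply] at h5
    exact h5
  have h5 := A.mul_mem (A.mul_mem hswap hswap1) hswap
  have h6 := h1 _ h5 (by decide) 0 2 4 1 2 4 (by decide) (by decide) (by decide)
  revert h6
  decide

variable {G : Type*} [Group G]

/-- (D) `9` conjugates `z, t_0, ..., t_7`, with the affine group on the `t_i`, are impossible. -/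
theorem not_9 (z : G) (N : Subgroup G) (t : Fin 8 → G) (ht : Function.Injective t)
    (hzt : ∀ i, t i ≠ z)
    (hOm : ∀ y, (∃ n ∈ N, n * z * n⁻¹ = y) ↔ y = z ∨ ∃ i, y = t i)
    (haff : ∀ n ∈ N, n * z * n⁻¹ = z → ∀ i j k a b c, n * t i * n⁻¹ = t a →
      n * t j * n⁻¹ = t b → n * t k * n⁻¹ = t c → n * t (i ^^^ j ^^^ k) * n⁻¹ = t (a ^^^ b ^^^ c))
    (hex : ∀ π : Perm (Fin 8), (∀ i j k, π (i ^^^ j ^^^ k) = π i ^^^ π j ^^^ π k) →
      ∃ n ∈ N, n * z * n⁻¹ = z ∧ ∀ i, n * t i * n⁻¹ = t (π i)) : False := by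
  set pt : Option (Fin 8) → G := fun o => o.elim z t with hpt
  have hptn : pt none = z := rfl
  have hpts : ∀ i, pt (some i) = t i := fun i => rfl
  have hinj : Function.Injective pt := by
    intro a b hab
    cases a with
    | none =>
      cases b with
      | none => rfl
      | some b => exact absurd hab.symm (hzt b)
    | some a =>
      cases b with
      | none => exact absurd hab (hzt a)
      | some b => exact congrArg some (ht hab)
  have hcj : ∀ n m x : G, n * m * x * (n * m)⁻¹ = n * (m * x * m⁻¹) * n⁻¹ := by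
    intro n m x; group
  have hrange : ∀ y, (∃ n ∈ N, n * z * n⁻¹ = y) ↔ ∃ o, pt o = y := by
    intro y
    rw [hOm]
    constructor
    · rintro (rfl | ⟨i, rfl⟩)
      · exact ⟨none, rfl⟩
      · exact ⟨some i, rfl⟩
    · rintro ⟨o, rfl⟩
      cases o with
      | none => exact Or.inl rfl
      | some i => exact Or.inr ⟨i, rfl⟩
  have hmove : ∀ n ∈ N, ∀ o, ∃ o', pt o' = n * pt o * n⁻¹ := by
    intro n hn o
    rw [← hrange]
    obtain ⟨m, hm, h⟩ := (hrange (pt o)).mpr ⟨o, rfl⟩
    exact ⟨n * m, N.mul_mem hn hm, by rw [hcj, h]⟩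
  have hperm : ∀ n ∈ N, ∃ σ : Perm (Option (Fin 8)), ∀ o, n * pt o * n⁻¹ = pt (σ o) := by
    intro n hn
    choose f hf using hmove n hn
    have hfi : Function.Injective f := by
      intro a b hab
      apply hinj
      have : n * pt a * n⁻¹ = n * pt b * n⁻¹ := by rw [← hf, ← hf, hab]
      exact mul_left_cancel (mul_right_cancel this)
    exact ⟨Equiv.ofBijective f (Finite.injective_iff_bijective.mp hfi), fun o => (hf o).symm⟩
  let A : Subgroup (Perm (Option (Fin 8))) :=
    { carrier := {σ | ∃ n ∈ N, ∀ o, n * pt o * n⁻¹ = pt (σ o)}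
      mul_mem' := by
        rintro σ τ ⟨n, hn, h⟩ ⟨m, hm, h'⟩
        exact ⟨n * m, N.mul_mem hn hm, fun o => by rw [hcj, h', h]; rfl⟩
      one_mem' := ⟨1, N.one_mem, fun o => by simp⟩
      inv_mem' := by
        rintro σ ⟨n, hn, h⟩
        refine ⟨n⁻¹, N.inv_mem hn, fun o => ?_⟩
        have h1 := h (σ⁻¹ o)
        rw [show σ (σ⁻¹ o) = o from σ.apply_symm_apply o] at h1
        rw [← h1]; group }
  refine perm_false A ?_ ?_ ?_
  · rintro σ ⟨n, hn, h⟩ hσ i j k a b c hi hj hk
    have hz : n * z * n⁻¹ = z := by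
      have := h none
      rwa [hσ] at this
    have h4 := haff n hn hz i j k a b c (by rw [← hpts, ← hpts, ← hi]; exact h _)
      (by rw [← hpts, ← hpts, ← hj]; exact h _) (by rw [← hpts, ← hpts, ← hk]; exact h _)
    rw [← hpts, h, ← hpts] at h4
    exact hinj h4
  · intro π hπ
    obtain ⟨n, hn, hz, h⟩ := hex π hπ
    refine ⟨n, hn, fun o => ?_⟩
    cases o with
    | none => exact hz
    | some i => exact h i
  · obtain ⟨n, hn, h⟩ := (hOm (t 0)).mpr (Or.inr ⟨0, rfl⟩)
    obtain ⟨σ, hσ⟩ := hperm n hn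
    refine ⟨σ, ⟨n, hn, hσ⟩, fun hσn => ?_⟩
    have h1 := hσ none
    rw [hσn, hptn, h] at h1
    exact hzt 0 h1

end Cfsg.Agent.OddHalf.D9.EEight.CountD
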