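import Mathlib
import Cfsg.Agent.Transfer.ElemAbAut
import Cfsg.Agent.OddHalf.D9.EEight.Facts
import Cfsg.Agent.OddHalf.D9.EEight.Count
import Cfsg.Agent.OddHalf.D9.EEight.CountD

/-!
# Row `2.O8+(2)`: the counts on sign vectors

Groups of automorphisms of the even sign vectors that contain the even permutations, or the affine
group, and do not move `-1` into the wrong classes, fix `-1`.
-/

set_option autoImplicit false
set_option Elab.async false

namespace Cfsg.Agent.OddHalf.D9.EEight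

open Equiv CountD

namespace Counts

/-! ### Affine permutations and the code -/

theorem isCode_iff : ∀ e : Sg, IsCode e ↔ ∀ i j k, e i * e j * e k * e (i ^^^ j ^^^ k) = 1 := by
  decide +kernel

theorem autCode_of_aff {σ : Perm (Fin 8)} (h : Aff σ) : AutCode σ := by
  intro e he
  rw [isCode_iff] at he ⊢
  intro i j k
  simp only [pm_apply]
  rw [h i j k]
  exact he _ _ _

theorem aff_mul {σ τ : Perm (Fin 8)} (h : Aff σ) (h' : Aff τ) : Aff (σ * τ) := by
  intro i j k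
  simp only [Perm.mul_apply]
  rw [h' i j k, h]

theorem aff_one : Aff 1 := fun _ _ _ => rfl

theorem aff_inv {σ : Perm (Fin 8)} (h : Aff σ) : Aff σ⁻¹ := by
  intro i j k
  have e : ∀ x, σ (σ⁻¹ x) = x := σ.apply_symm_apply
  rw [Perm.inv_eq_iff_eq, h, e, e, e]

theorem aff_pow {σ : Perm (Fin 8)} (h : Aff σ) : ∀ n : ℕ, Aff (σ ^ n)
  | 0 => by rw [pow_zero]; exact aff_one
  | n + 1 => by rw [pow_succ]; exact aff_mul (aff_pow h n) h

/-- The Singer cycle of order `7` on the nonzero vectors. -/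
def sc : Perm (Fin 8) where
  toFun := ![0, 2, 4, 6, 3, 1, 7, 5]
  invFun := ![0, 5, 1, 4, 2, 7, 3, 6]
  left_inv := by decide +kernel
  right_inv := by decide +kernel

theorem aff_sc : Aff sc := by unfold Aff; decide +kernel

theorem sign_sc : Perm.sign sc = 1 := by decide +kernel

theorem sign_tr : ∀ c, Perm.sign (tr c) = 1 := by decide +kernel

/-- The group `AGL_1(8)`. -/
def am (c : Fin 8) (k : ℕ) : Perm (Fin 8) := tr c * sc ^ k

theorem aff_am (c : Fin 8) (k : ℕ) : Aff (am c k) := aff_mul (aff_tr c) (aff_pow aff_sc k)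

theorem sign_am (c : Fin 8) (k : ℕ) : Perm.sign (am c k) = 1 := by
  rw [am, Perm.sign_mul, sign_tr, map_pow, sign_sc, one_pow, one_mul]

theorem pm_am (c : Fin 8) (k : ℕ) (e : Sg) : pm (am c k) e = fun x => e (sc^[k] x ^^^ c) := by
  funext x
  rw [pm_apply, am, Perm.mul_apply, tr_apply, Perm.iterate_eq_pow]

theorem pm_mul (σ τ : Perm (Fin 8)) (e : Sg) : pm (σ * τ) e = pm τ (pm σ e) := rfl

theorem pm_inv_pm (σ : Perm (Fin 8)) (e : Sg) : pm σ⁻¹ (pm σ e) = e := by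
  rw [← pm_mul, mul_inv_cancel]; rfl

/-- The class of a sign vector under the affine group. -/
def cls (e : Sg) : ℕ := if wt e = 4 ∧ IsCode e then 9 else wt e

/-- Representatives. -/
def base (k : ℕ) : Sg :=
  if k = 0 then 1 else if k = 1 then sg 0 else if k = 2 then sg 0 * sg 1 else
  if k = 3 then sg 0 * sg 1 * sg 2 else if k = 4 then sg 0 * sg 1 * sg 2 * sg 4 else
  if k = 5 then -(sg 0 * sg 1 * sg 2) else if k = 6 then -(sg 0 * sg 1) else
  if k = 7 then -sg 0 else if k = 8 then -1 else sg 0 * sg 1 * sg 2 * sg 3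

theorem base_cls : ∀ e : Sg, ∃ c : Fin 8, ∃ k : Fin 7,
    (fun x => base (cls e) (sc^[k.1] x ^^^ c)) = e := by decide +kernel

theorem cls_trans {e e' : Sg} (h : cls e = cls e') :
    ∃ σ, Aff σ ∧ Perm.sign σ = 1 ∧ pm σ e = e' := by
  obtain ⟨c, k, h1⟩ := base_cls e
  obtain ⟨c', k', h2⟩ := base_cls e'
  rw [← pm_am] at h1 h2
  refine ⟨(am c k)⁻¹ * am c' k', aff_mul (aff_inv (aff_am _ _)) (aff_am _ _), ?_, ?_⟩
  · rw [Perm.sign_mul, Perm.sign_inv, sign_am, sign_am, one_mul]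
  · rw [pm_mul, ← h2, ← h, ← h1, pm_inv_pm, h1]

theorem card_cls : ∀ k < 10, (Finset.univ.filter (fun e : Sg => cls e = k)).card =
    ![1, 8, 28, 56, 56, 56, 28, 8, 1, 14] (Fin.ofNat 10 k) := by decide +kernel

theorem cls_lt : ∀ e : Sg, cls e < 10 := by decide +kernel

theorem cls_eight : ∀ e : Sg, cls e = 8 → e = -1 := by decide +kernel

theorem cls_zero : ∀ e : Sg, cls e = 0 → e = 1 := by decide +kernel

theorem cls_one : ∀ e : Sg, cls e = 1 ↔ ∃ i, e = sg i := by decide +kernel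

theorem cls_seven : ∀ e : Sg, cls e = 7 ↔ ∃ i, e = -sg i := by decide +kernel

theorem cls_even : ∀ e : Sg, e ∈ Ev → cls e ≠ 1 ∧ cls e ≠ 3 ∧ cls e ≠ 5 ∧ cls e ≠ 7 := by
  decide +kernel

theorem cls_neg : cls (-1) = 8 := by decide +kernel

/-- The number of elements of a union of classes. -/
theorem ncard_cls (O : Set Sg) (h : ∀ e e', cls e = cls e' → e ∈ O → e' ∈ O) :
    ∃ a : ℕ → ℕ, (∀ k, a k = 0 ∧ (∀ e, cls e = k → e ∉ O) ∨ a k = 1 ∧ (∀ e, cls e = k → e ∈ O)) ∧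
      (∀ k < 10, (∀ e, cls e = k → e ∉ O) → a k = 0) ∧
      O.ncard = a 0 + 8 * a 1 + 28 * a 2 + 56 * a 3 + 56 * a 4 + 56 * a 5 + 28 * a 6 + 8 * a 7 +
        a 8 + 14 * a 9 := by
  classical
  refine ⟨fun k => if ∀ e, cls e = k → e ∈ O then 1 else 0, ?_, ?_, ?_⟩
  rotate_left
  · intro k hk hk'
    refine if_neg fun hh => ?_
    have h8 : (Finset.univ.filter (fun e : Sg => cls e = k)).card ≠ 0 := by
      rw [card_cls k hk]
      interval_cases k <;> decide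
    obtain ⟨e, he⟩ := Finset.card_ne_zero.mp h8
    have he' := (Finset.mem_filter.mp he).2
    exact hk' e he' (hh e he')
  rotate_left
  · intro k
    by_cases hk : ∀ e, cls e = k → e ∈ O
    · right
      exact ⟨if_pos hk, hk⟩
    · left
      refine ⟨if_neg hk, fun e he heO => hk fun e' he' => h e e' (he.trans he'.symm) heO⟩
  · have h1 : O.ncard = (Finset.univ.filter (fun e : Sg => e ∈ O)).card := by
      rw [Set.ncard_eq_toFinset_card']
      congr 1
      ext e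
      simp
    rw [h1, Finset.card_eq_sum_card_fiberwise (f := cls) (t := Finset.range 10)
      (fun e _ => Finset.mem_coe.mpr (Finset.mem_range.mpr (cls_lt e)))]
    have h2 : ∀ k < 10, ((Finset.univ.filter (fun e : Sg => e ∈ O)).filter
        (fun e => cls e = k)).card = (if ∀ e, cls e = k → e ∈ O then 1 else 0) *
          ![1, 8, 28, 56, 56, 56, 28, 8, 1, 14] (Fin.ofNat 10 k) := by
      intro k hk
      by_cases hk' : ∀ e, cls e = k → e ∈ O
      · rw [if_pos hk', one_mul, ← card_cls k hk]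
        congr 1
        ext e
        simp only [Finset.mem_filter, Finset.mem_univ, true_and]
        exact ⟨fun hh => hh.2, fun hh => ⟨hk' e hh, hh⟩⟩
      · rw [if_neg hk', zero_mul, Finset.card_eq_zero, Finset.filter_eq_empty_iff]
        intro e he he'
        exact hk' fun e' he'' => h e e' (he'.trans he''.symm) (Finset.mem_filter.mp he).2
    simp only [Finset.sum_range_succ, Finset.sum_range_zero, zero_add]
    rw [h2 0 (by norm_num), h2 1 (by norm_num), h2 2 (by norm_num), h2 3 (by norm_num),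
      h2 4 (by norm_num), h2 5 (by norm_num), h2 6 (by norm_num), h2 7 (by norm_num),
      h2 8 (by norm_num), h2 9 (by norm_num)]
    have e0 : (![1, 8, 28, 56, 56, 56, 28, 8, 1, 14] : Fin 10 → ℕ) (Fin.ofNat 10 0) = 1 := rfl
    have e1 : (![1, 8, 28, 56, 56, 56, 28, 8, 1, 14] : Fin 10 → ℕ) (Fin.ofNat 10 1) = 8 := rfl
    have e2 : (![1, 8, 28, 56, 56, 56, 28, 8, 1, 14] : Fin 10 → ℕ) (Fin.ofNat 10 2) = 28 := rfl
    have e3 : (![1, 8, 28, 56, 56, 56, 28, 8, 1, 14] : Fin 10 → ℕ) (Fin.ofNat 10 3) = 56 := rfl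
    have e4 : (![1, 8, 28, 56, 56, 56, 28, 8, 1, 14] : Fin 10 → ℕ) (Fin.ofNat 10 4) = 56 := rfl
    have e5 : (![1, 8, 28, 56, 56, 56, 28, 8, 1, 14] : Fin 10 → ℕ) (Fin.ofNat 10 5) = 56 := rfl
    have e6 : (![1, 8, 28, 56, 56, 56, 28, 8, 1, 14] : Fin 10 → ℕ) (Fin.ofNat 10 6) = 28 := rfl
    have e7 : (![1, 8, 28, 56, 56, 56, 28, 8, 1, 14] : Fin 10 → ℕ) (Fin.ofNat 10 7) = 8 := rfl
    have e8 : (![1, 8, 28, 56, 56, 56, 28, 8, 1, 14] : Fin 10 → ℕ) (Fin.ofNat 10 8) = 1 := rfl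
    have e9 : (![1, 8, 28, 56, 56, 56, 28, 8, 1, 14] : Fin 10 → ℕ) (Fin.ofNat 10 9) = 14 := rfl
    rw [e0, e1, e2, e3, e4, e5, e6, e7, e8, e9]
    ring

/-! ### Orbits of groups of automorphisms -/

/-- The length of an orbit divides the order of the automorphism group. -/
theorem orbit_dvd {V : Type*} [Group V] [Finite V] (A : Subgroup (MulAut V)) (z : V) :
    {y : V | ∃ a ∈ A, a z = y}.ncard ∣ Nat.card (MulAut V) := by
  have h1 : {y : V | ∃ a ∈ A, a z = y} = MulAction.orbit A z := by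
    ext y
    constructor
    · rintro ⟨a, ha, rfl⟩
      exact ⟨⟨a, ha⟩, rfl⟩
    · rintro ⟨a, rfl⟩
      exact ⟨a, a.2, rfl⟩
  rw [h1, ← MulAction.index_stabilizer]
  exact (Subgroup.index_dvd_card _).trans (Subgroup.card_subgroup_dvd_card A)

theorem sq_one (e : Sg) : e * e = 1 := by
  funext i
  exact Int.units_mul_self (e i)

theorem dvd_Sg (A : Subgroup (MulAut Sg)) (z : Sg) :
    {y : Sg | ∃ a ∈ A, a z = y}.ncard ∣ 2 ^ 28 * 3 ^ 5 * 5 ^ 2 * 7 ^ 2 * 17 * 31 * 127 := by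
  have h1 := orbit_dvd A z
  have h2 : Nat.card Sg = 2 ^ 8 := by
    rw [Nat.card_eq_fintype_card]
    decide +kernel
  rwa [Cfsg.Agent.Transfer.ElemAbAut.card_mulAut 2 8 (fun x y => mul_comm x y)
    (fun x => by rw [pow_two]; exact sq_one x) h2, Count.prod_eight] at h1

theorem dvd_Ev (A : Subgroup (MulAut Ev)) (z : Ev) :
    {y : Ev | ∃ a ∈ A, a z = y}.ncard ∣ 2 ^ 21 * 3 ^ 4 * 5 * 7 ^ 2 * 31 * 127 := by
  have h1 := orbit_dvd A z
  have h2 : Nat.card Ev = 2 ^ 7 := by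
    rw [Nat.card_eq_fintype_card]
    decide +kernel
  rwa [Cfsg.Agent.Transfer.ElemAbAut.card_mulAut 2 7 (fun x y => mul_comm x y)
    (fun x => by rw [pow_two]; exact Subtype.ext (sq_one x)) h2, Count.prod_seven] at h1

theorem m1_ne : m1 ≠ 1 := by decide +kernel

/-- The classes in an orbit on even vectors. -/
theorem ev_orbit (A : Subgroup (MulAut Ev))
    (ha : ∀ s : Perm (Fin 8), Aff s → Perm.sign s = 1 → pmE s ∈ A) :
    ∃ a : ℕ → ℕ, (∀ k, a k = 0 ∧ (∀ e : Ev, cls e = k → ∀ b ∈ A, b m1 ≠ e) ∨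
        a k = 1 ∧ (∀ e : Ev, cls e = k → ∃ b ∈ A, b m1 = e)) ∧
      (∀ k < 10, (∀ b ∈ A, cls (b m1 : Ev) ≠ k) → a k = 0) ∧
      1 + 28 * a 2 + 56 * a 4 + 28 * a 6 + 14 * a 9 ∣ 2 ^ 21 * 3 ^ 4 * 5 * 7 ^ 2 * 31 * 127 := by
  have h1 := dvd_Ev A m1
  set O : Set Ev := {y : Ev | ∃ a ∈ A, a m1 = y} with hO
  set O' : Set Sg := Subtype.val '' O with hO'
  have h2 : O'.ncard = O.ncard := Set.ncard_image_of_injective _ Subtype.val_injective
  have hmem : ∀ e : Sg, e ∈ O' ↔ ∃ b ∈ A, ((b m1 : Ev) : Sg) = e := by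
    intro e
    constructor
    · rintro ⟨y, ⟨b, hb, rfl⟩, rfl⟩
      exact ⟨b, hb, rfl⟩
    · rintro ⟨b, hb, rfl⟩
      exact ⟨_, ⟨b, hb, rfl⟩, rfl⟩
  have h3 : ∀ e e', cls e = cls e' → e ∈ O' → e' ∈ O' := by
    intro e e' hee he
    obtain ⟨b, hb, h4⟩ := (hmem e).mp he
    obtain ⟨σ, hσ, hσ1, h5⟩ := cls_trans hee
    rw [hmem]
    exact ⟨pmE σ * b, A.mul_mem (ha σ hσ hσ1) hb, by rw [← h5, ← h4]; rfl⟩
  obtain ⟨a, h4, h5, h6⟩ := ncard_cls O' h3
  have hev : ∀ e ∈ O', e ∈ Ev := by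
    intro e he
    obtain ⟨b, hb, h7⟩ := (hmem e).mp he
    rw [← h7]
    exact (b m1).2
  have a0 : a 0 = 0 := by
    refine h5 0 (by norm_num) fun e he heO => ?_
    rw [cls_zero e he] at heO
    obtain ⟨b, hb, h7⟩ := (hmem 1).mp heO
    have h8 : b m1 = 1 := Subtype.ext h7
    exact m1_ne (b.injective (h8.trans (map_one b).symm))
  have a1 : a 1 = 0 := h5 1 (by norm_num) fun e he heO => (cls_even e (hev e heO)).1 he
  have a3 : a 3 = 0 := h5 3 (by norm_num) fun e he heO => (cls_even e (hev e heO)).2.1 he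
  have a5 : a 5 = 0 := h5 5 (by norm_num) fun e he heO => (cls_even e (hev e heO)).2.2.1 he
  have a7 : a 7 = 0 := h5 7 (by norm_num) fun e he heO => (cls_even e (hev e heO)).2.2.2 he
  have a8 : a 8 = 1 := by
    rcases h4 8 with h | h
    · exfalso
      exact h.2 (-1) cls_neg ((hmem _).mpr ⟨1, A.one_mem, rfl⟩)
    · exact h.1
  refine ⟨a, ?_, ?_, ?_⟩
  · intro k
    rcases h4 k with h | h
    · left
      refine ⟨h.1, fun e he b hb hbe => h.2 e he ((hmem _).mpr ⟨b, hb, ?_⟩)⟩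
      rw [hbe]
    · right
      refine ⟨h.1, fun e he => ?_⟩
      obtain ⟨b, hb, h7⟩ := (hmem _).mp (h.2 e he)
      exact ⟨b, hb, Subtype.ext h7⟩
  · intro k hk hb
    refine h5 k hk fun e he heO => ?_
    obtain ⟨b, hbA, h7⟩ := (hmem _).mp heO
    rw [← h7] at he
    exact hb b hbA he
  · rw [← h2, h6, a0, a1, a3, a5, a7, a8] at h1
    convert h1 using 1
    ring

/-- If no class meets the orbit, `-1` is fixed. -/
theorem fix_of_zero (A : Subgroup (MulAut Ev)) (a : ℕ → ℕ)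
    (h1 : ∀ k, a k = 0 ∧ (∀ e : Ev, cls e = k → ∀ b ∈ A, b m1 ≠ e) ∨
        a k = 1 ∧ (∀ e : Ev, cls e = k → ∃ b ∈ A, b m1 = e))
    (a2 : a 2 = 0) (a4 : a 4 = 0) (a6 : a 6 = 0) (a9 : a 9 = 0) : ∀ b ∈ A, b m1 = m1 := by
  intro b hb
  have h4 : cls (b m1 : Ev) = 8 := by
    have h5 : ∀ k, cls (b m1 : Ev) = k → a k ≠ 0 := by
      intro k hk hak
      rcases h1 k with h | h
      · exact h.2 (b m1) hk b hb rfl
      · rw [h.1] at hak
        exact absurd hak (by norm_num)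
    have h6 := cls_lt (b m1 : Ev)
    have h7 := cls_even (b m1 : Ev) (b m1).2
    have h8 : cls (b m1 : Ev) ≠ 0 := by
      intro h
      have h9 : b m1 = 1 := Subtype.ext (cls_zero _ h)
      exact m1_ne (b.injective (h9.trans (map_one b).symm))
    have n2 : cls (b m1 : Ev) ≠ 2 := fun h => h5 2 h a2
    have n4 : cls (b m1 : Ev) ≠ 4 := fun h => h5 4 h a4
    have n6 : cls (b m1 : Ev) ≠ 6 := fun h => h5 6 h a6
    have n9 : cls (b m1 : Ev) ≠ 9 := fun h => h5 9 h a9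
    omega
  exact Subtype.ext (cls_eight _ h4)

/-- Counting the pairs of an invariant relation. -/
theorem rel_card {V : Type*} [Group V] [Finite V] (A : Subgroup (MulAut V)) (z : V)
    (htr : ∀ y, y ≠ 1 → ∃ a ∈ A, a z = y) (R : V → V → Prop)
    (hR : ∀ a ∈ A, ∀ x y, R x y → R (a x) (a y)) (hR1 : ∀ x y, R x y → x ≠ 1) :
    Nat.card {p : V × V // R p.1 p.2} = Nat.card {y : V // y ≠ 1} * Nat.card {y : V // R z y} := by
  have hch : ∀ y : {y : V // y ≠ 1}, ∃ a ∈ A, a z = y.1 := fun y => htr y.1 y.2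
  choose c hcA hcz using hch
  rw [← Nat.card_prod]
  refine (Nat.card_congr (Equiv.ofBijective (fun q : {y : V // y ≠ 1} × {y : V // R z y} =>
    (⟨(q.1.1, c q.1 q.2.1), by
      have h := hR (c q.1) (hcA q.1) _ _ q.2.2
      rwa [hcz] at h⟩ : {p : V × V // R p.1 p.2})) ⟨?_, ?_⟩)).symm
  · rintro ⟨a, s⟩ ⟨b, t⟩ hab
    have h1 := congrArg Subtype.val hab
    have h2 : (a.1, c a s.1) = (b.1, c b t.1) := h1
    rw [Prod.mk.injEq] at h2
    have h3 : a = b := Subtype.ext h2.1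
    subst h3
    have h4 : s = t := Subtype.ext ((c a).injective h2.2)
    rw [h4]
  · rintro ⟨⟨x, y⟩, hxy⟩
    have hx1 := hR1 x y hxy
    have ha : c ⟨x, hx1⟩ z = x := hcz ⟨x, hx1⟩
    have h3 := hR (c ⟨x, hx1⟩)⁻¹ (A.inv_mem (hcA _)) x y hxy
    have h4 : (c ⟨x, hx1⟩)⁻¹ x = z :=
      (congrArg _ ha.symm).trans (MulAut.inv_apply_self _ _ _)
    rw [h4] at h3
    refine ⟨(⟨x, hx1⟩, ⟨_, h3⟩), Subtype.ext (Prod.ext rfl ?_)⟩
    exact MulAut.apply_inv_self _ _ _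

theorem card_ev_ne : Fintype.card {y : Ev // y ≠ 1} = 127 := by decide +kernel

theorem card_ev_four : Fintype.card {y : Ev // wt (y : Sg) = 4} = 70 := by decide +kernel

theorem card_ev_wt : ∀ k < 9, k ≠ 4 → (Finset.univ.filter (fun e : Ev => wt (e : Sg) = k)).card < 70 := by
  decide +kernel

theorem wt_lt : ∀ e : Sg, wt e < 9 := by decide +kernel

theorem wt_mul_m1 : ∀ e : Ev, wt (e : Sg) = 4 → wt ((m1 * e : Ev) : Sg) = 4 := by decide +kernel

theorem wt_four_ne : ∀ e : Ev, wt (e : Sg) = 4 → e ≠ 1 := by decide +kernel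

/-- A `3`-cycle. -/
def tc : Perm (Fin 8) := swap 3 4 * swap 4 5

theorem sign_tc : Perm.sign tc = 1 := by decide +kernel

theorem base_tc : pm tc (base 4) = base 9 := by decide +kernel

theorem cls_base : cls (base 4) = 4 ∧ cls (base 9) = 9 := by decide +kernel

theorem cls_wt : ∀ e : Sg, wt e = 4 → cls e = 4 ∨ cls e = 9 := by decide +kernel

/-- All vectors of weight `4` are conjugate under even permutations. -/
theorem base_four (e : Sg) (h : wt e = 4) : ∃ s, Perm.sign s = 1 ∧ pm s (base 4) = e := by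
  rcases cls_wt e h with h1 | h1
  · obtain ⟨σ, -, hσ, h2⟩ := cls_trans (cls_base.1.trans h1.symm)
    exact ⟨σ, hσ, h2⟩
  · obtain ⟨σ, -, hσ, h2⟩ := cls_trans (cls_base.2.trans h1.symm)
    refine ⟨tc * σ, by rw [Perm.sign_mul, sign_tc, hσ, one_mul], ?_⟩
    rw [pm_mul, base_tc, h2]

theorem wt_four_trans (e e' : Ev) (h : wt (e : Sg) = 4) (h' : wt (e' : Sg) = 4) :
    ∃ s, Perm.sign s = 1 ∧ pmE s e = e' := by
  obtain ⟨s, hs, h1⟩ := base_four e h
  obtain ⟨s', hs', h2⟩ := base_four e' h'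
  refine ⟨s⁻¹ * s', by rw [Perm.sign_mul, Perm.sign_inv, hs, hs', one_mul], Subtype.ext ?_⟩
  rw [coe_pmE, pm_mul, ← h1, pm_inv_pm, h2]

/-- `127` is impossible. -/
theorem not_127' (A : Subgroup (MulAut Ev)) (ha : ∀ s : Perm (Fin 8), Perm.sign s = 1 → pmE s ∈ A)
    (hb : ∀ a ∈ A, a m1 = m1 → ∀ e : Ev, wt (a e) = wt e)
    (htr : ∀ y : Ev, y ≠ 1 → ∃ a ∈ A, a m1 = y) : False := by
  have hsq : ∀ x : Ev, x * x = 1 := fun x => Subtype.ext (sq_one x)
  let R : Ev → Ev → Prop := fun x y => ∃ a ∈ A, a m1 = x ∧ ∃ s : Ev, wt (s : Sg) = 4 ∧ a s = y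
  have hRz : ∀ y, R m1 y ↔ wt (y : Sg) = 4 := by
    intro y
    constructor
    · rintro ⟨a, haA, h1, s, hs, rfl⟩
      rw [hb a haA h1, hs]
    · intro hy
      exact ⟨1, A.one_mem, rfl, y, hy, rfl⟩
  have hR : ∀ a ∈ A, ∀ x y, R x y → R (a x) (a y) := by
    rintro a haA x y ⟨b, hbA, h1, s, hs, h2⟩
    exact ⟨a * b, A.mul_mem haA hbA, by rw [MulAut.mul_apply, h1], s, hs,
      by rw [MulAut.mul_apply, h2]⟩
  have hR1 : ∀ x y, R x y → x ≠ 1 ∧ y ≠ 1 := by
    rintro x y ⟨b, hbA, h1, s, hs, h2⟩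
    refine ⟨fun h => m1_ne (b.injective ?_), fun h => wt_four_ne s hs (b.injective ?_)⟩
    · rw [h1, h, map_one]
    · rw [h2, h, map_one]
  have c1 := rel_card A m1 htr R hR (fun x y h => (hR1 x y h).1)
  have c2 := rel_card A m1 htr (fun x y => R y x) (fun a haA x y h => hR a haA y x h)
    (fun x y h => (hR1 y x h).2)
  have c3 : Nat.card {p : Ev × Ev // R p.1 p.2} = Nat.card {p : Ev × Ev // R p.2 p.1} :=
    Nat.card_congr ((Equiv.prodComm Ev Ev).subtypeEquiv fun p => Iff.rfl)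
  have c4 : Nat.card {y : Ev // R m1 y} = 70 := by
    rw [← card_ev_four, ← Nat.card_eq_fintype_card]
    exact Nat.card_congr (Equiv.subtypeEquivRight hRz)
  have c5 : Nat.card {y : Ev // y ≠ 1} = 127 := by
    rw [Nat.card_eq_fintype_card, card_ev_ne]
  rw [← c3, c1, c5, c4] at c2
  have c6 : Nat.card {y : Ev // R y m1} = 70 := by omega
  -- all `y` with `R y m1` have the same weight
  obtain ⟨⟨y0, hy0⟩⟩ : Nonempty {y : Ev // R y m1} := by
    by_contra h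
    rw [not_nonempty_iff] at h
    rw [Nat.card_of_isEmpty] at c6
    exact absurd c6 (by norm_num)
  have hw : ∀ y, R y m1 → wt (y : Sg) = wt (y0 : Sg) := by
    rintro y ⟨a, haA, h1, s, hs, h2⟩
    obtain ⟨a', haA', h1', s', hs', h2'⟩ := hy0
    obtain ⟨σ, hσ, h3⟩ := wt_four_trans s s' hs hs'
    -- `a' * pmE σ * a⁻¹` fixes `m1` and moves `y` to `y0`
    have h4 := hb (a' * pmE σ * a⁻¹) (A.mul_mem (A.mul_mem haA' (ha σ hσ)) (A.inv_mem haA)) (by
      have h5 : a⁻¹ m1 = s := by rw [← h2]; exact MulAut.inv_apply_self _ _ _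
      rw [MulAut.mul_apply, MulAut.mul_apply, h5]
      change a' (pmE σ s) = m1
      rw [h3, h2']) y
    rw [← h4]
    congr 2
    have h5 : a⁻¹ y = m1 := by rw [← h1]; exact MulAut.inv_apply_self _ _ _
    rw [MulAut.mul_apply, MulAut.mul_apply, h5]
    change a' (pmE σ m1) = y0
    have h6 : pmE σ m1 = m1 := rfl
    rw [h6, h1']
  have hy4 : wt (y0 : Sg) = 4 := by
    by_contra hne
    have h1 := card_ev_wt _ (wt_lt (y0 : Sg)) hne
    have h2 : Nat.card {y : Ev // R y m1} ≤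
        (Finset.univ.filter (fun e : Ev => wt (e : Sg) = wt (y0 : Sg))).card := by
      rw [← Fintype.card_subtype, ← Nat.card_eq_fintype_card]
      exact Nat.card_le_card_of_injective (fun y => ⟨y.1, hw y.1 y.2⟩)
        (fun a b hab => Subtype.ext (congrArg (fun q => q.1) hab))
    omega
  have hsym1 : ∀ y, R y m1 → R m1 y := fun y hy => (hRz y).mpr ((hw y hy).trans hy4)
  have hsym : ∀ x y, R x y → R y x := by
    intro x y hxy
    obtain ⟨b, hbA, rfl⟩ := htr y (hR1 x y hxy).2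
    have h1 := hR b⁻¹ (A.inv_mem hbA) _ _ hxy
    rw [MulAut.inv_apply_self] at h1
    have h2 := hR b hbA _ _ (hsym1 _ h1)
    rwa [MulAut.apply_inv_self] at h2
  have hmul : ∀ x y, R x y → R y (y * x) := by
    intro x y hxy
    obtain ⟨a, haA, h1, s, hs, h2⟩ := hsym x y hxy
    exact ⟨a, haA, h1, m1 * s, wt_mul_m1 s hs, by rw [map_mul, h1, h2]⟩
  have h3 : 3 ∣ Nat.card {p : Ev × Ev // R p.1 p.2} := by
    refine Count.three_dvd (fun p : {p : Ev × Ev // R p.1 p.2} =>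
      (⟨(p.1.2, p.1.2 * p.1.1), hmul p.1.1 p.1.2 p.2⟩ : {p : Ev × Ev // R p.1 p.2})) ?_ ?_
    · rintro ⟨⟨x, y⟩, hxy⟩
      refine Subtype.ext (Prod.ext ?_ ?_)
      · change y * x * y = x
        rw [mul_comm y x, mul_assoc, hsq y, mul_one]
      · change y * x * y * (y * x) = y
        rw [mul_comm y x, mul_assoc x y y, hsq y, mul_one, ← mul_assoc, hsq x, one_mul]
    · rintro ⟨⟨x, y⟩, hxy⟩ h
      have h1 : (y, y * x) = (x, y) := congrArg Subtype.val h
      rw [Prod.mk.injEq] at h1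
      exact (hR1 x y hxy).1 (mul_eq_left.mp h1.2)
  rw [c1, c5, c4] at h3
  revert h3
  norm_num

end Counts

open Counts

/-- On the frame side: `-1` is fixed. -/
theorem count_E (A : Subgroup (MulAut Ev)) (ha : ∀ s, AutCode s → pmE s ∈ A)
    (hc : ∀ a ∈ A, wt (a m1) ≠ 2 ∧ wt (a m1) ≠ 6 ∧ (IsCode (a m1) → a m1 = m1)) :
    ∀ a ∈ A, a m1 = m1 := by
  obtain ⟨a, h1, h2, h3⟩ := ev_orbit A fun s hs _ => ha s (autCode_of_aff hs)
  have hcls : ∀ e : Sg, (cls e = 2 → wt e = 2) ∧ (cls e = 6 → wt e = 6) ∧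
      (cls e = 9 → IsCode e ∧ e ≠ -1) := by decide +kernel
  have a2 : a 2 = 0 := h2 2 (by norm_num) fun b hb h => (hc b hb).1 ((hcls _).1 h)
  have a6 : a 6 = 0 := h2 6 (by norm_num) fun b hb h => (hc b hb).2.1 ((hcls _).2.1 h)
  have a9 : a 9 = 0 := h2 9 (by norm_num) fun b hb h => by
    have h4 := (hcls _).2.2 h
    exact h4.2 (congrArg Subtype.val ((hc b hb).2.2 h4.1))
  rw [a2, a6, a9] at h3
  have a4 : a 4 = 0 := by
    rcases h1 4 with h | h
    · exact h.1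
    · exfalso
      rw [h.1] at h3
      revert h3
      norm_num
  exact fix_of_zero A a h1 a2 a4 a6 a9

/-- On the `D₈` side: `-1` is fixed. -/
theorem count_F (A : Subgroup (MulAut Ev)) (ha : ∀ s : Perm (Fin 8), Perm.sign s = 1 → pmE s ∈ A)
    (hb : ∀ a ∈ A, a m1 = m1 → ∀ e : Ev, wt (a e) = wt e) : ∀ a ∈ A, a m1 = m1 := by
  obtain ⟨a, h1, h2, h3⟩ := ev_orbit A fun s _ hs => ha s hs
  have hwt : ∀ e : Sg, (cls e = 4 → wt e = 4) ∧ (cls e = 9 → wt e = 4) := by decide +kernel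
  have hev : base 4 ∈ Ev ∧ base 9 ∈ Ev := by decide +kernel
  have h49 : a 4 = a 9 := by
    have key : ∀ e e' : Ev, wt (e : Sg) = 4 → wt (e' : Sg) = 4 → ∀ b ∈ A, b m1 = e →
        ∃ b ∈ A, b m1 = e' := by
      intro e e' he he' b hbA hbe
      obtain ⟨s, hs, h4⟩ := wt_four_trans e e' he he'
      exact ⟨pmE s * b, A.mul_mem (ha s hs) hbA, by
        change pmE s (b m1) = e'
        rw [hbe, h4]⟩
    have w4 : wt ((⟨base 4, hev.1⟩ : Ev) : Sg) = 4 := (hwt _).1 cls_base.1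
    have w9 : wt ((⟨base 9, hev.2⟩ : Ev) : Sg) = 4 := (hwt _).2 cls_base.2
    rcases h1 4 with h | h <;> rcases h1 9 with h' | h'
    · rw [h.1, h'.1]
    · exfalso
      obtain ⟨b, hbA, hbe⟩ := h'.2 ⟨base 9, hev.2⟩ cls_base.2
      obtain ⟨b', hbA', hbe'⟩ := key _ ⟨base 4, hev.1⟩ w9 w4 b hbA hbe
      exact h.2 _ cls_base.1 b' hbA' hbe'
    · exfalso
      obtain ⟨b, hbA, hbe⟩ := h.2 ⟨base 4, hev.1⟩ cls_base.1
      obtain ⟨b', hbA', hbe'⟩ := key _ ⟨base 9, hev.2⟩ w4 w9 b hbA hbe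
      exact h'.2 _ cls_base.2 b' hbA' hbe'
    · rw [h.1, h'.1]
  rw [← h49] at h3
  have hcase : (a 2 = 0 ∧ a 4 = 0 ∧ a 6 = 0) ∨ (a 2 = 1 ∧ a 4 = 1 ∧ a 6 = 1) := by
    rcases h1 2 with ⟨h, -⟩ | ⟨h, -⟩ <;> rcases h1 4 with ⟨h', -⟩ | ⟨h', -⟩ <;>
      rcases h1 6 with ⟨h'', -⟩ | ⟨h'', -⟩ <;> rw [h, h', h''] at h3 <;> rw [h, h', h''] <;>
      revert h3 <;> norm_num
  rcases hcase with ⟨a2, a4, a6⟩ | ⟨a2, a4, a6⟩
  · exact fix_of_zero A a h1 a2 a4 a6 (h49 ▸ a4)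
  · exfalso
    refine not_127' A ha hb fun y hy => ?_
    have h5 : ∀ k, cls (y : Sg) = k → a k = 1 → ∃ b ∈ A, b m1 = y := by
      intro k hk hak
      rcases h1 k with h | h
      · rw [h.1] at hak
        exact absurd hak (by norm_num)
      · exact h.2 y hk
    have h6 := cls_lt (y : Sg)
    have h7 := cls_even (y : Sg) y.2
    have h8 : cls (y : Sg) ≠ 0 := fun h => hy (Subtype.ext (cls_zero _ h))
    by_cases e8 : cls (y : Sg) = 8
    · exact ⟨1, A.one_mem, (Subtype.ext (cls_eight _ e8)).symm⟩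
    have h9 : cls (y : Sg) = 2 ∨ cls (y : Sg) = 4 ∨ cls (y : Sg) = 6 ∨ cls (y : Sg) = 9 := by omega
    rcases h9 with h | h | h | h
    · exact h5 2 h a2
    · exact h5 4 h a4
    · exact h5 6 h a6
    · exact h5 9 h (h49 ▸ a4)

end Cfsg.Agent.OddHalf.D9.EEight
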