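import Cfsg.Agent.OddHalf.D9.EEight.Comb
import Cfsg.Agent.OddHalf.D9.EEight.CountsF

/-!
# Automorphisms of `Ev`
-/

set_option autoImplicit false

namespace Cfsg.Agent.OddHalf.D9.EEight

open Equiv

/-- the pair `{i, j}` -/
def pr (i j : Fin 8) : Sg := sg i * sg j

theorem prd_sg (i : Fin 8) : prd (sg i) = -1 := by
  revert i; decide

theorem pr_mem (i j : Fin 8) : pr i j ∈ Ev := by
  rw [mem_Ev, pr, map_mul, prd_sg, prd_sg]
  decide

theorem pq_eq (j : Fin 8) (hj : j ≠ 0) : pq 0 j (-1) = pr 0 j := by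
  revert j; decide

/-- The pairs `{0, j}` generate. -/
theorem ev_gen {T : Subgroup Sg} (h : ∀ j : Fin 8, j ≠ 0 → pr 0 j ∈ T) {x : Sg} (hx : x ∈ Ev) :
    x ∈ T := by
  have hx' : x = pq 0 1 (x 1) * pq 0 2 (x 2) * pq 0 3 (x 3) * pq 0 4 (x 4) * pq 0 5 (x 5) *
      pq 0 6 (x 6) * pq 0 7 (x 7) := by
    have h0 : x 0 = x 1 * x 2 * x 3 * x 4 * x 5 * x 6 * x 7 := by
      have h1 := prd_eq hx
      have h2 : x 0 * (x 1 * x 2 * x 3 * x 4 * x 5 * x 6 * x 7) = 1 := by
        rw [← h1]; ac_rfl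
      rw [← mul_left_inj (x 1 * x 2 * x 3 * x 4 * x 5 * x 6 * x 7), h2, Int.units_mul_self]
    funext i
    fin_cases i
    · exact h0
    · show x 1 = x 1 * 1 * 1 * 1 * 1 * 1 * 1
      simp only [mul_one]
    · show x 2 = 1 * x 2 * 1 * 1 * 1 * 1 * 1
      simp only [mul_one, one_mul]
    · show x 3 = 1 * 1 * x 3 * 1 * 1 * 1 * 1
      simp only [mul_one, one_mul]
    · show x 4 = 1 * 1 * 1 * x 4 * 1 * 1 * 1
      simp only [mul_one, one_mul]
    · show x 5 = 1 * 1 * 1 * 1 * x 5 * 1 * 1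
      simp only [mul_one, one_mul]
    · show x 6 = 1 * 1 * 1 * 1 * 1 * x 6 * 1
      simp only [mul_one, one_mul]
    · show x 7 = 1 * 1 * 1 * 1 * 1 * 1 * x 7
      simp only [one_mul]
  have hq : ∀ j : Fin 8, j ≠ 0 → ∀ a, pq 0 j a ∈ T := fun j hj a =>
    pq_mem (by rw [pq_eq j hj]; exact h j hj) a
  rw [hx']
  exact T.mul_mem (T.mul_mem (T.mul_mem (T.mul_mem (T.mul_mem (T.mul_mem (hq 1 (by decide) _)
    (hq 2 (by decide) _)) (hq 3 (by decide) _)) (hq 4 (by decide) _)) (hq 5 (by decide) _))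
    (hq 6 (by decide) _)) (hq 7 (by decide) _)

/-- the support -/
def sp (ε : Sg) : Finset (Fin 8) := Finset.univ.filter (fun i => ε i = -1)

theorem mem_sp {ε : Sg} {i : Fin 8} : i ∈ sp ε ↔ ε i = -1 := by
  unfold sp
  rw [Finset.mem_filter]
  exact ⟨fun h => h.2, fun h => ⟨Finset.mem_univ _, h⟩⟩

theorem card_sp (ε : Sg) : (sp ε).card = wt ε := rfl

theorem sp_inj {ε η : Sg} (h : sp ε = sp η) : ε = η := by
  funext i
  rcases Int.units_eq_one_or (ε i) with h1 | h1
  · rcases Int.units_eq_one_or (η i) with h2 | h2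
    · rw [h1, h2]
    · have : i ∈ sp ε := by rw [h]; exact mem_sp.2 h2
      rw [mem_sp.1 this] at h1
      exact absurd h1 (by decide)
  · have : i ∈ sp η := by rw [← h]; exact mem_sp.2 h1
    rw [h1, mem_sp.1 this]

theorem sp_mul (ε η : Sg) : sp (ε * η) = symmDiff (sp ε) (sp η) := by
  ext i
  rw [Finset.mem_symmDiff, mem_sp, mem_sp, mem_sp, Pi.mul_apply]
  rcases Int.units_eq_one_or (ε i) with h1 | h1 <;> rcases Int.units_eq_one_or (η i) with h2 | h2 <;>
    rw [h1, h2] <;> decide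

theorem card_inter_of {S T : Finset (Fin 8)} (h1 : S.card = 2) (h2 : T.card = 2)
    (h3 : (symmDiff S T).card = 2) : (S ∩ T).card = 1 := by
  have e1 : (symmDiff S T).card = (S \ T).card + (T \ S).card := by
    rw [symmDiff_def, Finset.sup_eq_union, Finset.card_union_of_disjoint disjoint_sdiff_sdiff]
  have e2 := Finset.card_sdiff_add_card_inter S T
  have e3 := Finset.card_sdiff_add_card_inter T S
  rw [Finset.inter_comm T S] at e3
  omega

theorem pr_wt (i j : Fin 8) (h : i ≠ j) : wt (pr i j) = 2 := by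
  revert i j; decide

theorem pr_mul (j k : Fin 8) : pr 0 j * pr 0 k = pr j k := by
  unfold pr
  have : sg 0 * sg j * (sg 0 * sg k) = (sg 0 * sg 0) * (sg j * sg k) := by
    simp only [mul_assoc, mul_left_comm]
  rw [this, sq_one, one_mul]

theorem four_pts (j k : Fin 8) : ∃ l : Fin 8, l ≠ 0 ∧ l ≠ 1 ∧ l ≠ j ∧ l ≠ k := by
  revert j k
  decide

/-- Seven pairwise intersecting pairs have a common point. -/
theorem exists_common (S : Fin 8 → Finset (Fin 8)) (h2 : ∀ j, j ≠ 0 → (S j).card = 2)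
    (h1 : ∀ j k, j ≠ 0 → k ≠ 0 → j ≠ k → (S j ∩ S k).card = 1) : ∃ p, ∀ j, j ≠ 0 → p ∈ S j := by
  by_contra hcon
  push Not at hcon
  obtain ⟨p, q, hpq, hS1⟩ := Finset.card_eq_two.1 (h2 1 (by decide))
  obtain ⟨j, hj, hpj⟩ := hcon p
  obtain ⟨k, hk, hqk⟩ := hcon q
  have hj1 : j ≠ 1 := by
    rintro rfl
    apply hpj; rw [hS1]; simp
  have hk1 : k ≠ 1 := by
    rintro rfl
    apply hqk; rw [hS1]; simp
  have hqj : q ∈ S j := by
    have h := h1 1 j (by decide) hj hj1.symm
    obtain ⟨x, hx⟩ := Finset.card_eq_one.1 h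
    have hx1 : x ∈ S 1 ∩ S j := by rw [hx]; exact Finset.mem_singleton_self _
    rw [Finset.mem_inter, hS1, Finset.mem_insert, Finset.mem_singleton] at hx1
    rcases hx1.1 with h' | h'
    · rw [h'] at hx1; exact absurd hx1.2 hpj
    · rw [← h']; exact hx1.2
  have hpk : p ∈ S k := by
    have h := h1 1 k (by decide) hk hk1.symm
    obtain ⟨x, hx⟩ := Finset.card_eq_one.1 h
    have hx1 : x ∈ S 1 ∩ S k := by rw [hx]; exact Finset.mem_singleton_self _
    rw [Finset.mem_inter, hS1, Finset.mem_insert, Finset.mem_singleton] at hx1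
    rcases hx1.1 with h' | h'
    · rw [← h']; exact hx1.2
    · rw [h'] at hx1; exact absurd hx1.2 hqk
  have hjk : j ≠ k := by
    rintro rfl
    exact hpj hpk
  obtain ⟨r, hr⟩ := Finset.card_eq_one.1 (h1 j k hj hk hjk)
  have hr1 : r ∈ S j ∩ S k := by rw [hr]; exact Finset.mem_singleton_self _
  rw [Finset.mem_inter] at hr1
  have hrp : r ≠ p := by rintro rfl; exact hpj hr1.1
  have hrq : r ≠ q := by rintro rfl; exact hqk hr1.2
  have hSj : S j = {q, r} := by
    symm
    apply Finset.eq_of_subset_of_card_le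
    · intro x hx
      rw [Finset.mem_insert, Finset.mem_singleton] at hx
      rcases hx with rfl | rfl
      · exact hqj
      · exact hr1.1
    · rw [h2 j hj, Finset.card_pair hrq.symm]
  have hSk : S k = {p, r} := by
    symm
    apply Finset.eq_of_subset_of_card_le
    · intro x hx
      rw [Finset.mem_insert, Finset.mem_singleton] at hx
      rcases hx with rfl | rfl
      · exact hpk
      · exact hr1.2
    · rw [h2 k hk, Finset.card_pair hrp.symm]
  obtain ⟨l, hl0, hl1, hlj, hlk⟩ : ∃ l : Fin 8, l ≠ 0 ∧ l ≠ 1 ∧ l ≠ j ∧ l ≠ k := by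
    exact four_pts j k
  have two : ∀ a b : Fin 8, a ≠ b → a ∈ S l → b ∈ S l → ∀ m, m ≠ 0 → m ≠ l → S m = {a, b} → False := by
    intro a b hab ha hb m hm hml hSm
    have h := h1 l m hl0 hm hml.symm
    have : ({a, b} : Finset (Fin 8)) ⊆ S l ∩ S m := by
      intro x hx
      rw [Finset.mem_inter]
      refine ⟨?_, by rw [hSm]; exact hx⟩
      rw [Finset.mem_insert, Finset.mem_singleton] at hx
      rcases hx with rfl | rfl
      · exact ha
      · exact hb
    have := Finset.card_le_card this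
    rw [Finset.card_pair hab, h] at this
    omega
  have meet : ∀ a b : Fin 8, ∀ m, m ≠ 0 → m ≠ l → S m = {a, b} → a ∈ S l ∨ b ∈ S l := by
    intro a b m hm hml hSm
    obtain ⟨x, hx⟩ := Finset.card_eq_one.1 (h1 l m hl0 hm hml.symm)
    have hx1 : x ∈ S l ∩ S m := by rw [hx]; exact Finset.mem_singleton_self _
    rw [Finset.mem_inter, hSm, Finset.mem_insert, Finset.mem_singleton] at hx1
    rcases hx1.2 with h' | h'
    · left; rw [← h']; exact hx1.1
    · right; rw [← h']; exact hx1.1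
  have m1 := meet p q 1 (by decide) hl1.symm hS1
  have m2 := meet q r j hj hlj.symm hSj
  have m3 := meet p r k hk hlk.symm hSk
  have t1 := two p q hpq
  have t2 := two q r hrq.symm
  have t3 := two p r hrp.symm
  rcases m1 with m1 | m1
  · rcases m2 with m2 | m2
    · exact t1 m1 m2 1 (by decide) hl1.symm hS1
    · exact t3 m1 m2 k hk hlk.symm hSk
  · rcases m3 with m3 | m3
    · exact t1 m3 m1 1 (by decide) hl1.symm hS1
    · exact t2 m1 m3 j hj hlj.symm hSj

/-- An automorphism of `Ev` that preserves the pairs is a permutation. -/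
theorem exists_perm_of_pairs (β : MulAut Ev) (h : ∀ ε : Ev, wt ε = 2 → wt (β ε) = 2) :
    ∃ π : Perm (Fin 8), ∀ ε : Ev, (β ε : Sg) = pm π ε := by
  let P : Fin 8 → Ev := fun j => ⟨pr 0 j, pr_mem 0 j⟩
  let S : Fin 8 → Finset (Fin 8) := fun j => sp (β (P j))
  have h2 : ∀ j, j ≠ 0 → (S j).card = 2 := fun j hj => h (P j) (pr_wt 0 j hj.symm)
  have h1 : ∀ j k, j ≠ 0 → k ≠ 0 → j ≠ k → (S j ∩ S k).card = 1 := by
    intro j k hj hk hjk
    apply card_inter_of (h2 j hj) (h2 k hk)
    have e : P j * P k = ⟨pr j k, pr_mem j k⟩ := Subtype.ext (pr_mul j k)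
    have e2 : symmDiff (S j) (S k) = sp (β (P j * P k)) := by
      rw [map_mul]
      exact (sp_mul _ _).symm
    rw [e2, e]
    exact h _ (pr_wt j k hjk)
  obtain ⟨p, hp⟩ := exists_common S h2 h1
  have hτ : ∀ j : Fin 8, ∃ t : Fin 8, j ≠ 0 → t ≠ p ∧ S j = {p, t} := by
    intro j
    by_cases hj : j = 0
    · exact ⟨0, fun h => absurd hj h⟩
    · obtain ⟨a, b, hab, hS⟩ := Finset.card_eq_two.1 (h2 j hj)
      have hpj := hp j hj
      rw [hS, Finset.mem_insert, Finset.mem_singleton] at hpj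
      rcases hpj with h' | h'
      · subst h'
        exact ⟨b, fun _ => ⟨hab.symm, hS⟩⟩
      · subst h'
        exact ⟨a, fun _ => ⟨hab, by rw [hS, Finset.pair_comm]⟩⟩
  choose τ hτ using hτ
  let σ : Fin 8 → Fin 8 := fun j => if j = 0 then p else τ j
  have hσ0 : σ 0 = p := if_pos rfl
  have hσj : ∀ j, j ≠ 0 → σ j = τ j := fun j hj => if_neg hj
  have hinj : Function.Injective σ := by
    intro i j hij
    by_cases hi : i = 0 <;> by_cases hj : j = 0
    · rw [hi, hj]
    · rw [hi, hσ0, hσj j hj] at hij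
      exact absurd hij.symm (hτ j hj).1
    · rw [hj, hσ0, hσj i hi] at hij
      exact absurd hij (hτ i hi).1
    · rw [hσj i hi, hσj j hj] at hij
      by_contra hne
      have h3 := h1 i j hi hj hne
      rw [(hτ i hi).2, (hτ j hj).2, hij, Finset.inter_self, Finset.card_pair (hτ j hj).1.symm] at h3
      omega
  let σ' : Perm (Fin 8) := Equiv.ofBijective σ (Finite.injective_iff_bijective.1 hinj)
  refine ⟨σ'⁻¹, fun ε => ?_⟩
  have hpm : ∀ i, pm σ'⁻¹ (sg i) = sg (σ i) := by
    intro i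
    funext k
    rw [pm_apply]
    unfold sg
    have : (σ'⁻¹ k = i) ↔ (k = σ i) := by
      constructor
      · intro h
        rw [← h]
        exact (σ'.apply_symm_apply k).symm
      · intro h
        rw [h]
        exact σ'.symm_apply_apply i
    simp only [this]
  have hP : ∀ j, j ≠ 0 → (β (P j) : Sg) = pm σ'⁻¹ (pr 0 j) := by
    intro j hj
    apply sp_inj
    have e1 : sp (β (P j)) = {p, τ j} := (hτ j hj).2
    rw [e1]
    unfold pr
    rw [map_mul, hpm, hpm, hσ0, hσj j hj]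
    have : ∀ a b : Fin 8, a ≠ b → ({a, b} : Finset (Fin 8)) = sp (sg a * sg b) := by decide
    exact this _ _ (hτ j hj).1.symm
  -- the subgroup where both agree
  let T : Subgroup Sg :=
    { carrier := {x | ∃ hx : x ∈ Ev, (β ⟨x, hx⟩ : Sg) = pm σ'⁻¹ x}
      one_mem' := ⟨Ev.one_mem, by
        have : (⟨1, Ev.one_mem⟩ : Ev) = 1 := rfl
        rw [this, map_one, map_one]
        rfl⟩
      mul_mem' := by
        rintro a b ⟨ha, ha'⟩ ⟨hb, hb'⟩
        refine ⟨Ev.mul_mem ha hb, ?_⟩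
        have : (⟨a * b, Ev.mul_mem ha hb⟩ : Ev) = ⟨a, ha⟩ * ⟨b, hb⟩ := rfl
        rw [this, map_mul, map_mul, ← ha', ← hb']
        rfl
      inv_mem' := by
        rintro a ⟨ha, ha'⟩
        refine ⟨Ev.inv_mem ha, ?_⟩
        have : (⟨a⁻¹, Ev.inv_mem ha⟩ : Ev) = ⟨a, ha⟩⁻¹ := rfl
        rw [this, map_inv, map_inv, ← ha']
        rfl }
  have := ev_gen (T := T) (fun j hj => ⟨pr_mem 0 j, hP j hj⟩) ε.2
  exact this.choose_spec

/-- sizes of the classes -/
theorem card_four : (Finset.univ.filter (fun ε : Sg => wt ε = 4)).card = 70 := by decide +kernel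

theorem card_two : (Finset.univ.filter (fun ε : Sg => wt ε = 2)).card = 28 := by decide +kernel
theorem card_six : (Finset.univ.filter (fun ε : Sg => wt ε = 6)).card = 28 := by decide +kernel
theorem card_code : (Finset.univ.filter (fun ε : Sg => wt ε = 4 ∧ IsCode ε)).card = 14 := by
  decide +kernel
theorem card_noncode : (Finset.univ.filter (fun ε : Sg => wt ε = 4 ∧ ¬ IsCode ε)).card = 56 := by
  decide +kernel

end Cfsg.Agent.OddHalf.D9.EEight
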