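import Cfsg.Agent.OddHalf.D9.EEight.Facts

/-!
# Sign vectors: even permutations, stabilizers of a sign vector
-/

set_option autoImplicit false

namespace Cfsg.Agent.OddHalf.D9.EEight

open Equiv

theorem not_neg_one {a : ℤˣ} (h : a ≠ -1) : a = 1 := (Int.units_eq_one_or a).resolve_right h

/-- Sign vectors of the same weight are related by an even permutation. -/
theorem exists_even_perm {ε η : Sg} (h : wt ε = wt η) :
    ∃ σ : Perm (Fin 8), Perm.sign σ = 1 ∧ pm σ ε = η := by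
  have hc : Fintype.card {i // η i = -1} = Fintype.card {i // ε i = -1} := by
    rw [Fintype.card_subtype, Fintype.card_subtype]
    exact h.symm
  let e : {i // η i = -1} ≃ {i // ε i = -1} := Fintype.equivOfCardEq hc
  have h1 : pm e.extendSubtype ε = η := by
    funext i
    rw [pm_apply]
    by_cases hi : η i = -1
    · rw [hi]
      exact e.extendSubtype_mem i hi
    · rw [not_neg_one hi]
      exact not_neg_one (e.extendSubtype_not_mem i hi)
  rcases Int.units_eq_one_or (Perm.sign e.extendSubtype) with h2 | h2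
  · exact ⟨_, h2, h1⟩
  · -- two equal coordinates
    have h3 : ∃ i j : Fin 8, i ≠ j ∧ η i = η j := by
      rcases Int.units_eq_one_or (η 0) with a | a <;> rcases Int.units_eq_one_or (η 1) with b | b <;>
        rcases Int.units_eq_one_or (η 2) with c | c
      · exact ⟨0, 1, by decide, by rw [a, b]⟩
      · exact ⟨0, 1, by decide, by rw [a, b]⟩
      · exact ⟨0, 2, by decide, by rw [a, c]⟩
      · exact ⟨1, 2, by decide, by rw [b, c]⟩
      · exact ⟨1, 2, by decide, by rw [b, c]⟩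
      · exact ⟨0, 2, by decide, by rw [a, c]⟩
      · exact ⟨0, 1, by decide, by rw [a, b]⟩
      · exact ⟨0, 1, by decide, by rw [a, b]⟩
    obtain ⟨i, j, hij, he⟩ := h3
    refine ⟨e.extendSubtype * swap i j, ?_, ?_⟩
    · rw [map_mul, h2, Perm.sign_swap hij]
      decide
    · funext k
      rw [pm_apply, Perm.mul_apply]
      have h4 := congrFun h1 (swap i j k)
      rw [pm_apply] at h4
      rw [h4]
      by_cases hk : k = i
      · rw [hk, swap_apply_left, he]
      · by_cases hk' : k = j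
        · rw [hk', swap_apply_right, he]
        · rw [swap_apply_of_ne_of_ne hk hk']

theorem prd_eq_pow (ε : Sg) : prd ε = (-1) ^ wt ε := by
  rw [prd_apply]
  unfold wt
  rw [← Finset.prod_const, Finset.prod_filter]
  apply Finset.prod_congr rfl
  intro i _
  split_ifs with h
  · exact h
  · exact not_neg_one h

theorem wt_even {ε : Sg} (h : ε ∈ Ev) : Even (wt ε) := by
  rw [mem_Ev, prd_eq_pow] at h
  by_contra hne
  rw [Nat.not_even_iff_odd] at hne
  rw [hne.neg_one_pow] at h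
  exact absurd h (by decide)

theorem wt_le (ε : Sg) : wt ε ≤ 8 := by
  unfold wt
  exact (Finset.card_le_univ _).trans (by simp)

theorem wt_zero {ε : Sg} (h : wt ε = 0) : ε = 1 := by
  unfold wt at h
  rw [Finset.card_eq_zero] at h
  funext i
  apply not_neg_one
  intro hi
  have : i ∈ Finset.univ.filter (fun i => ε i = -1) := Finset.mem_filter.2 ⟨Finset.mem_univ _, hi⟩
  rw [h] at this
  exact absurd this (Finset.notMem_empty _)

theorem wt_eight {ε : Sg} (h : wt ε = 8) : ε = -1 := by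
  unfold wt at h
  have h1 : Finset.univ.filter (fun i => ε i = -1) = Finset.univ := by
    apply Finset.eq_univ_of_card
    rw [h]
    simp
  funext i
  have : i ∈ Finset.univ.filter (fun i => ε i = -1) := by rw [h1]; exact Finset.mem_univ _
  exact (Finset.mem_filter.1 this).2

/-- `{6, 7}` -/
def u2 : Sg := fun i => if 6 ≤ i then -1 else 1

/-- `{0, …, 5}` -/
def u6 : Sg := fun i => if 6 ≤ i then 1 else -1

/-- `{0, 1, 2, 3}` -/
def u4 : Sg := fun i => if 4 ≤ i then 1 else -1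

theorem wt_u2 : wt u2 = 2 := by decide
theorem wt_u6 : wt u6 = 6 := by decide
theorem wt_u4 : wt u4 = 4 := by decide

/-- Normal form of the noncentral even sign vectors. -/
theorem normal_form {u : Sg} (hu : u ∈ Ev) (h1 : u ≠ 1) (h2 : u ≠ -1) :
    ∃ σ : Perm (Fin 8), Perm.sign σ = 1 ∧ (pm σ u = u2 ∨ pm σ u = u6 ∨ pm σ u = u4) := by
  obtain ⟨k, hk⟩ := wt_even hu
  have h8 := wt_le u
  have : k = 0 ∨ k = 1 ∨ k = 2 ∨ k = 3 ∨ k = 4 := by omega
  rcases this with rfl | rfl | rfl | rfl | rfl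
  · exact absurd (wt_zero hk) h1
  · obtain ⟨σ, hσ, h⟩ := exists_even_perm (ε := u) (η := u2) (by rw [hk, wt_u2])
    exact ⟨σ, hσ, Or.inl h⟩
  · obtain ⟨σ, hσ, h⟩ := exists_even_perm (ε := u) (η := u4) (by rw [hk, wt_u4])
    exact ⟨σ, hσ, Or.inr (Or.inr h)⟩
  · obtain ⟨σ, hσ, h⟩ := exists_even_perm (ε := u) (η := u6) (by rw [hk, wt_u6])
    exact ⟨σ, hσ, Or.inr (Or.inl h)⟩
  · exact absurd (wt_eight hk) h2

theorem sq_one (x : Sg) : x * x = 1 := by
  funext j
  exact Int.units_mul_self _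

/-- The vector `a` exactly at `i`, `j`. -/
def pq (i j : Fin 8) (a : ℤˣ) : Sg := fun k => if k = i ∨ k = j then a else 1

theorem pq_mem {T : Subgroup Sg} {i j : Fin 8} (h : pq i j (-1) ∈ T) (a : ℤˣ) : pq i j a ∈ T := by
  rcases Int.units_eq_one_or a with rfl | rfl
  · have : pq i j 1 = 1 := by
      funext k
      unfold pq
      rw [ite_self]
      rfl
    rw [this]
    exact T.one_mem
  · exact h

/-- `T` contains the commutators with the stabilizer of `u`. -/
def HasComm (T : Subgroup Sg) (u : Sg) : Prop :=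
  u ∈ T ∧ ∀ x ∈ Ev, ∀ σ : Perm (Fin 8), Perm.sign σ = 1 → pm σ u = u → x * pm σ x ∈ T

theorem HasComm.pair {T : Subgroup Sg} {u : Sg} (h : HasComm T u) (x : Sg) (hx : x ∈ Ev)
    (σ : Perm (Fin 8)) (h1 : Perm.sign σ = 1) (h2 : pm σ u = u) {y : Sg} (h3 : x * pm σ x = y) :
    y ∈ T := by
  rw [← h3]
  exact h.2 x hx σ h1 h2

theorem sign_two {a b c d : Fin 8} (h1 : a ≠ b) (h2 : c ≠ d) :
    Perm.sign (swap a b * swap c d) = 1 := by
  rw [map_mul, Perm.sign_swap h1, Perm.sign_swap h2]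
  decide

theorem prd_eq {x : Sg} (hx : x ∈ Ev) :
    x 0 * x 1 * x 2 * x 3 * x 4 * x 5 * x 6 * x 7 = 1 := by
  rw [mem_Ev, prd_apply, Fin.prod_univ_eight] at hx
  exact hx

theorem claimA {T : Subgroup Sg} {u : Sg} (hu : u = u2 ∨ u = u6) (h : HasComm T u) {x : Sg}
    (hx : x ∈ Ev) (h67 : x 6 = x 7) : x ∈ T := by
  have hs1 : (sg 0 * sg 6 : Sg) ∈ Ev := by decide
  have p1 : pq 0 1 (-1) ∈ T := by
    refine h.pair (sg 0 * sg 6) hs1 (swap 0 1 * swap 2 3) (sign_two (by decide) (by decide)) ?_ ?_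
    · rcases hu with rfl | rfl <;> decide
    · decide
  have p2 : pq 0 2 (-1) ∈ T := by
    refine h.pair (sg 0 * sg 6) hs1 (swap 0 2 * swap 1 3) (sign_two (by decide) (by decide)) ?_ ?_
    · rcases hu with rfl | rfl <;> decide
    · decide
  have p3 : pq 0 3 (-1) ∈ T := by
    refine h.pair (sg 0 * sg 6) hs1 (swap 0 3 * swap 1 2) (sign_two (by decide) (by decide)) ?_ ?_
    · rcases hu with rfl | rfl <;> decide
    · decide
  have p4 : pq 0 4 (-1) ∈ T := by
    refine h.pair (sg 0 * sg 6) hs1 (swap 0 4 * swap 1 2) (sign_two (by decide) (by decide)) ?_ ?_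
    · rcases hu with rfl | rfl <;> decide
    · decide
  have p5 : pq 0 5 (-1) ∈ T := by
    refine h.pair (sg 0 * sg 6) hs1 (swap 0 5 * swap 1 2) (sign_two (by decide) (by decide)) ?_ ?_
    · rcases hu with rfl | rfl <;> decide
    · decide
  have p6 : pq 6 7 (-1) ∈ T := by
    rcases hu with rfl | rfl
    · have : pq 6 7 (-1) = u2 := by decide
      rw [this]
      exact h.1
    · have h1 : pq 0 1 (-1) * pq 6 7 (-1) ∈ T := by
        refine h.pair (sg 0 * sg 6) hs1 (swap 0 1 * swap 6 7) (sign_two (by decide) (by decide)) ?_ ?_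
        · decide
        · decide
      exact (T.mul_mem_cancel_left p1).1 h1
  have hx' : x = pq 0 1 (x 1) * pq 0 2 (x 2) * pq 0 3 (x 3) * pq 0 4 (x 4) * pq 0 5 (x 5) *
      pq 6 7 (x 6) := by
    have h0 : x 0 = x 1 * x 2 * x 3 * x 4 * x 5 := by
      have h1 := prd_eq hx
      rw [← h67] at h1
      have h2 : x 0 * (x 1 * x 2 * x 3 * x 4 * x 5) * (x 6 * x 6) = 1 := by
        rw [← h1]; ac_rfl
      rw [Int.units_mul_self, mul_one] at h2
      rw [← mul_left_inj (x 1 * x 2 * x 3 * x 4 * x 5), h2, Int.units_mul_self]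
    funext i
    fin_cases i
    · show x 0 = x 1 * x 2 * x 3 * x 4 * x 5 * 1
      rw [mul_one]
      exact h0
    · show x 1 = x 1 * 1 * 1 * 1 * 1 * 1
      simp only [mul_one]
    · show x 2 = 1 * x 2 * 1 * 1 * 1 * 1
      simp only [mul_one, one_mul]
    · show x 3 = 1 * 1 * x 3 * 1 * 1 * 1
      simp only [mul_one, one_mul]
    · show x 4 = 1 * 1 * 1 * x 4 * 1 * 1
      simp only [mul_one, one_mul]
    · show x 5 = 1 * 1 * 1 * 1 * x 5 * 1
      simp only [mul_one, one_mul]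
    · show x 6 = 1 * 1 * 1 * 1 * 1 * x 6
      simp only [mul_one, one_mul]
    · show x 7 = 1 * 1 * 1 * 1 * 1 * x 6
      simp only [mul_one, one_mul]
      exact h67.symm
  rw [hx']
  exact T.mul_mem (T.mul_mem (T.mul_mem (T.mul_mem (T.mul_mem (pq_mem p1 _) (pq_mem p2 _))
    (pq_mem p3 _)) (pq_mem p4 _)) (pq_mem p5 _)) (pq_mem p6 _)

/-- `(0 1 2 3 4)` -/
def cy1 : Perm (Fin 8) := swap 0 1 * swap 1 2 * swap 2 3 * swap 3 4

/-- `(1 2 3 4 5)` -/
def cy2 : Perm (Fin 8) := swap 1 2 * swap 2 3 * swap 3 4 * swap 4 5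

theorem sign_four {a b c d e f g h : Fin 8} (h1 : a ≠ b) (h2 : c ≠ d) (h3 : e ≠ f) (h4 : g ≠ h) :
    Perm.sign (swap a b * swap c d * swap e f * swap g h) = 1 := by
  rw [map_mul, map_mul, map_mul, Perm.sign_swap h1, Perm.sign_swap h2, Perm.sign_swap h3,
    Perm.sign_swap h4]
  decide

theorem cy1_sign : Perm.sign cy1 = 1 := sign_four (by decide) (by decide) (by decide) (by decide)
theorem cy2_sign : Perm.sign cy2 = 1 := sign_four (by decide) (by decide) (by decide) (by decide)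

theorem cy1_pow : cy1 ^ 5 = 1 := by decide
theorem cy2_pow : cy2 ^ 5 = 1 := by decide

theorem self_ne_neg (a : ℤˣ) : a ≠ -1 * a := by
  rcases Int.units_eq_one_or a with rfl | rfl <;> decide

/-- A `5`-cycle in the stabilizer. -/
theorem five {u : Sg} (hu : u = u2 ∨ u = u6) {x : Sg} (hx : x ∈ Ev) (h67 : x 6 ≠ x 7) :
    ∃ σ : Perm (Fin 8), Perm.sign σ = 1 ∧ pm σ u = u ∧ σ ^ 5 = 1 ∧ pm σ x ≠ x ∧
      pm σ x ≠ u * x := by
  by_cases h1 : pm cy1 x = x
  · by_cases h2 : pm cy2 x = x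
    · exfalso
      apply h67
      have a0 : x 1 = x 0 := congrFun h1 0
      have a1 : x 2 = x 1 := congrFun h1 1
      have a2 : x 3 = x 2 := congrFun h1 2
      have a3 : x 4 = x 3 := congrFun h1 3
      have a4 : x 5 = x 4 := congrFun h2 4
      have h3 := prd_eq hx
      rw [a4, a3, a2, a1, a0] at h3
      have h4 : (x 0 * x 0) * (x 0 * x 0) * (x 0 * x 0) * (x 6 * x 7) = 1 := by
        rw [← h3]; ac_rfl
      simp only [Int.units_mul_self, one_mul] at h4
      rw [← mul_left_inj (x 7), h4, Int.units_mul_self]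
    · refine ⟨cy2, cy2_sign, ?_, cy2_pow, h2, ?_⟩
      · rcases hu with rfl | rfl <;> decide
      · intro h3
        rcases hu with rfl | rfl
        · exact self_ne_neg (x 6) (congrFun h3 6)
        · exact self_ne_neg (x 0) (congrFun h3 0)
  · refine ⟨cy1, cy1_sign, ?_, cy1_pow, h1, ?_⟩
    · rcases hu with rfl | rfl <;> decide
    · intro h3
      rcases hu with rfl | rfl
      · exact self_ne_neg (x 6) (congrFun h3 6)
      · exact self_ne_neg (x 5) (congrFun h3 5)

theorem claimB {T : Subgroup Sg} (h : HasComm T u4) {x : Sg}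
    (hx : x ∈ Ev) (h4 : x 0 * x 1 * x 2 * x 3 = 1) : x ∈ T := by
  have hs1 : (sg 0 * sg 4 : Sg) ∈ Ev := by decide
  have p1 : pq 0 1 (-1) ∈ T := by
    refine h.pair (sg 0 * sg 4) hs1 (swap 0 1 * swap 5 6) (sign_two (by decide) (by decide)) ?_ ?_ <;>
      decide
  have p2 : pq 0 2 (-1) ∈ T := by
    refine h.pair (sg 0 * sg 4) hs1 (swap 0 2 * swap 5 6) (sign_two (by decide) (by decide)) ?_ ?_ <;>
      decide
  have p3 : pq 0 3 (-1) ∈ T := by
    refine h.pair (sg 0 * sg 4) hs1 (swap 0 3 * swap 5 6) (sign_two (by decide) (by decide)) ?_ ?_ <;>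
      decide
  have p5 : pq 4 5 (-1) ∈ T := by
    refine h.pair (sg 0 * sg 4) hs1 (swap 4 5 * swap 1 2) (sign_two (by decide) (by decide)) ?_ ?_ <;>
      decide
  have p6 : pq 4 6 (-1) ∈ T := by
    refine h.pair (sg 0 * sg 4) hs1 (swap 4 6 * swap 1 2) (sign_two (by decide) (by decide)) ?_ ?_ <;>
      decide
  have p7 : pq 4 7 (-1) ∈ T := by
    refine h.pair (sg 0 * sg 4) hs1 (swap 4 7 * swap 1 2) (sign_two (by decide) (by decide)) ?_ ?_ <;>
      decide
  have hx' : x = pq 0 1 (x 1) * pq 0 2 (x 2) * pq 0 3 (x 3) * pq 4 5 (x 5) * pq 4 6 (x 6) *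
      pq 4 7 (x 7) := by
    have h0 : x 0 = x 1 * x 2 * x 3 := by
      rw [← mul_left_inj (x 1 * x 2 * x 3), Int.units_mul_self, ← h4]
      ac_rfl
    have h5 : x 4 = x 5 * x 6 * x 7 := by
      have h1 := prd_eq hx
      rw [h4, one_mul] at h1
      rw [← mul_left_inj (x 5 * x 6 * x 7), Int.units_mul_self, ← h1]
      ac_rfl
    funext i
    fin_cases i
    · show x 0 = x 1 * x 2 * x 3 * 1 * 1 * 1
      simp only [mul_one]
      exact h0
    · show x 1 = x 1 * 1 * 1 * 1 * 1 * 1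
      simp only [mul_one]
    · show x 2 = 1 * x 2 * 1 * 1 * 1 * 1
      simp only [mul_one, one_mul]
    · show x 3 = 1 * 1 * x 3 * 1 * 1 * 1
      simp only [mul_one, one_mul]
    · show x 4 = 1 * 1 * 1 * x 5 * x 6 * x 7
      simp only [mul_one, one_mul]
      exact h5
    · show x 5 = 1 * 1 * 1 * x 5 * 1 * 1
      simp only [mul_one, one_mul]
    · show x 6 = 1 * 1 * 1 * 1 * x 6 * 1
      simp only [mul_one, one_mul]
    · show x 7 = 1 * 1 * 1 * 1 * 1 * x 7
      simp only [mul_one, one_mul]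
  rw [hx']
  exact T.mul_mem (T.mul_mem (T.mul_mem (T.mul_mem (T.mul_mem (pq_mem p1 _) (pq_mem p2 _))
    (pq_mem p3 _)) (pq_mem p5 _)) (pq_mem p6 _)) (pq_mem p7 _)

/-- Translations of both halves. -/
def vv (p : Fin 4 × Fin 4) : Perm (Fin 8) :=
  { toFun := fun i => ⟨Nat.xor i (if (i : ℕ) < 4 then p.1 else p.2) % 8, Nat.mod_lt _ (by norm_num)⟩
    invFun := fun i => ⟨Nat.xor i (if (i : ℕ) < 4 then p.1 else p.2) % 8, Nat.mod_lt _ (by norm_num)⟩
    left_inv := by revert p; decide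
    right_inv := by revert p; decide }

theorem vv_sign (p : Fin 4 × Fin 4) : Perm.sign (vv p) = 1 := by
  revert p; decide

theorem vv_u4 (p : Fin 4 × Fin 4) : pm (vv p) u4 = u4 := by
  revert p; decide

theorem special (e0 e1 e2 e3 s : ℤˣ) (h : e0 * e1 * e2 * e3 = -1) (a b : Fin 4)
    (hab : ∀ i : Fin 4, ![e0, e1, e2, e3] ⟨Nat.xor i a % 4, Nat.mod_lt _ (by norm_num)⟩ =
      s * ![e0, e1, e2, e3] ⟨Nat.xor i b % 4, Nat.mod_lt _ (by norm_num)⟩) : a = b := by
  revert e0 e1 e2 e3 s h a b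
  decide

theorem vv_low' (p : Fin 4 × Fin 4) (i : Fin 4) :
    vv p (Fin.castLE (by norm_num) i) =
      Fin.castLE (by norm_num) (⟨Nat.xor i p.1 % 4, Nat.mod_lt _ (by norm_num)⟩ : Fin 4) := by
  revert p i
  decide

theorem vv_high' (p : Fin 4 × Fin 4) (i : Fin 4) :
    vv p (Fin.natAdd 4 i) =
      Fin.natAdd 4 (⟨Nat.xor i p.2 % 4, Nat.mod_lt _ (by norm_num)⟩ : Fin 4) := by
  revert p i
  decide

theorem low_eq (x : Sg) (j : Fin 4) : ![x 0, x 1, x 2, x 3] j = x (Fin.castLE (by norm_num) j) := by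
  fin_cases j <;> rfl

theorem high_eq (x : Sg) (j : Fin 4) : ![x 4, x 5, x 6, x 7] j = x (Fin.natAdd 4 j) := by
  fin_cases j <;> rfl

theorem u4_low (i : Fin 4) : u4 (Fin.castLE (by norm_num) i) = -1 := by
  revert i; decide

theorem u4_high (i : Fin 4) : u4 (Fin.natAdd 4 i) = 1 := by
  revert i; decide

theorem spec_vv {x : Sg} (hx : x ∈ Ev) (h4 : x 0 * x 1 * x 2 * x 3 = -1) {p q : Fin 4 × Fin 4}
    (h : pm (vv p) x = pm (vv q) x ∨ pm (vv p) x = u4 * pm (vv q) x) : p = q := by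
  have h5 : x 4 * x 5 * x 6 * x 7 = -1 := by
    have h1 := prd_eq hx
    rw [h4] at h1
    rw [← mul_right_inj (-1 : ℤˣ)]
    refine Eq.trans ?_ (h1.trans (by decide))
    ac_rfl
  have k1 : ∃ s : ℤˣ, ∀ i : Fin 4, x (vv p (Fin.castLE (by norm_num) i)) =
      s * x (vv q (Fin.castLE (by norm_num) i)) := by
    rcases h with h | h
    · exact ⟨1, fun i => by rw [one_mul]; exact congrFun h _⟩
    · refine ⟨-1, fun i => ?_⟩
      have h6 := congrFun h (Fin.castLE (by norm_num) i)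
      rw [Pi.mul_apply] at h6
      rw [u4_low] at h6
      exact h6
  have k2 : ∃ s : ℤˣ, ∀ i : Fin 4, x (vv p (Fin.natAdd 4 i)) = s * x (vv q (Fin.natAdd 4 i)) := by
    refine ⟨1, fun i => ?_⟩
    rw [one_mul]
    rcases h with h | h
    · exact congrFun h _
    · have h6 := congrFun h (Fin.natAdd 4 i)
      rw [Pi.mul_apply] at h6
      rw [u4_high, one_mul] at h6
      exact h6
  obtain ⟨s, k1⟩ := k1
  obtain ⟨t, k2⟩ := k2
  apply Prod.ext
  · apply special (x 0) (x 1) (x 2) (x 3) s h4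
    intro i
    rw [low_eq, low_eq, ← vv_low', ← vv_low']
    exact k1 i
  · apply special (x 4) (x 5) (x 6) (x 7) t h5
    intro i
    rw [high_eq, high_eq, ← vv_high', ← vv_high']
    exact k2 i

end Cfsg.Agent.OddHalf.D9.EEight
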