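import Cfsg.Agent.OddHalf.D9.EEight.LemP
import Cfsg.Agent.OddHalf.D9.EEight.Comb

/-!
# Steps (1) and (2): the group `F`
-/

set_option autoImplicit false

namespace Cfsg.Agent.OddHalf.D9.EEight

open Subgroup Equiv

/-- The count for `F`. -/
def CountF : Prop := ∀ (A : Subgroup (MulAut Ev)), (∀ σ : Perm (Fin 8), Perm.sign σ = 1 → pmE σ ∈ A) →
  (∀ α ∈ A, α m1 = m1 → ∀ ε : Ev, wt (α ε) = wt ε) → ∀ α ∈ A, α m1 = m1

/-- The count for `E`. -/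
def CountE : Prop := ∀ (A : Subgroup (MulAut Ev)), (∀ σ : Perm (Fin 8), AutCode σ → pmE σ ∈ A) →
  (∀ α ∈ A, wt (α m1) ≠ 2 ∧ wt (α m1) ≠ 6 ∧ (IsCode (α m1) → α m1 = m1)) → ∀ α ∈ A, α m1 = m1

/-- The count for `D`. -/
def CountD : Prop := ∀ (A : Subgroup (MulAut Sg)), (∀ σ : Perm (Fin 8), AutCode σ → pm σ ∈ A) →
  (∀ α ∈ A, α (-1) = -1 → ∃ σ, AutCode σ ∧ ∀ ε ∈ Ev, α ε = pm σ ε) →
  (∀ α ∈ A, wt (α (-1)) ≠ 2 ∧ wt (α (-1)) ≠ 6 ∧ (IsCode (α (-1)) → α (-1) = -1)) →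
  ∀ α ∈ A, α (-1) = -1

variable {W : Type*} [Group W] {δ : W →* ℤˣ} {c : W} {Rf : W → Prop}
variable {G : Type*} [Group G] {φ : W → G} {R : Subgroup G}

theorem conj_eq_iff_comm {g z : G} : g * z * g⁻¹ = z ↔ g * z = z * g := by
  rw [mul_inv_eq_iff_eq_mul]

theorem card_Sg : Nat.card Sg = 2 ^ 8 := by
  rw [Nat.card_eq_fintype_card, Fintype.card_fun, Fintype.card_units_int, Fintype.card_fin]

theorem card_Ev : Nat.card Ev = 2 ^ 7 := by
  have h := Subgroup.card_mul_index Ev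
  have h2 : Ev.index = 2 := by
    unfold Ev
    rw [Subgroup.index_ker, MonoidHom.range_eq_top.2, Subgroup.card_top, Nat.card_eq_fintype_card,
      Fintype.card_units_int]
    intro a
    rcases Int.units_eq_one_or a with rfl | rfl
    · exact ⟨1, map_one _⟩
    · exact ⟨sg 0, by decide⟩
  rw [h2, card_Sg] at h
  omega

theorem ev_sq (x : Ev) : x * x = 1 := Subtype.ext (sq_one _)

namespace Cfg

variable (C : Cfg δ c φ R) (E : EF δ c Rf)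

include C

/-- `N_G(F) ≤ C_G(z)`. -/
theorem norm_F (cF : CountF) {f : Ev →* W} (hf : IsFt δ c f) (g : G)
    (h : ∀ x, ∃ y, g * C.fHom hf x * g⁻¹ = C.fHom hf y) : g * φ c = φ c * g := by
  obtain ⟨α, hα⟩ := exists_aut (C.fHom_inj hf) h
  have h1 : α m1 = m1 := by
    refine cF (autBy (C.fHom hf)) (C.even_mem hf) ?_ α ⟨g, hα⟩
    rintro β ⟨n, hn⟩ hβ ε
    have h2 := hn m1
    rw [hβ, C.fHom_m1, conj_eq_iff_comm] at h2
    obtain ⟨w, hw⟩ := C.act n h2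
    have h3 := hn ε
    rw [C.fHom_apply, C.fHom_apply, hw _ (hf.det ε)] at h3
    have h4 := C.inj _ _ (det_conj (hf.det ε)) (hf.det _) h3
    exact (hf.dist w ε (β ε) h4).symm
  have h2 := hα m1
  rw [h1, C.fHom_m1, conj_eq_iff_comm] at h2
  exact h2

include E

/-- The case where the conjugate of the elementary abelian group lies in `K R`. -/
theorem iso_of_kr [Finite G] {P : Ev →* G} (hP : Function.Injective P) {x0 : Ev} (hx0 : P x0 = φ c)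
    (N : ∀ g, (∀ x, ∃ y, g * P x * g⁻¹ = P y) → g * φ c = φ c * g) (g : G)
    (hKR : ∀ x, ∃ w, Ac δ φ (g⁻¹ * P x * g) w ∧ δ w = 1) : g⁻¹ * φ c * g = φ c := by
  let M : Subgroup G := P.range.map (MulAut.conj g⁻¹).toMonoidHom
  have hM : ∀ h, h ∈ M ↔ ∃ x, g⁻¹ * P x * g = h := by
    intro h
    constructor
    · rintro ⟨_, ⟨x, rfl⟩, rfl⟩
      exact ⟨x, by simp⟩
    · rintro ⟨x, rfl⟩
      exact ⟨P x, ⟨x, rfl⟩, by simp⟩
  have hel : IsEl M := by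
    constructor
    · intro a ha
      obtain ⟨x, rfl⟩ := (hM a).1 ha
      have : g⁻¹ * P x * g * (g⁻¹ * P x * g) = g⁻¹ * (P x * P x) * g := by group
      rw [this, ← map_mul, ev_sq, map_one]
      group
    · intro a ha b hb
      obtain ⟨x, rfl⟩ := (hM a).1 ha
      obtain ⟨y, rfl⟩ := (hM b).1 hb
      have h1 : g⁻¹ * P x * g * (g⁻¹ * P y * g) = g⁻¹ * (P x * P y) * g := by group
      have h2 : g⁻¹ * P y * g * (g⁻¹ * P x * g) = g⁻¹ * (P y * P x) * g := by group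
      rw [h1, h2, ← map_mul, ← map_mul, mul_comm x y]
  have hcard : Nat.card M = 2 ^ 7 := by
    rw [← card_Ev]
    symm
    apply Nat.card_eq_of_bijective (fun x => (⟨g⁻¹ * P x * g, (hM _).2 ⟨x, rfl⟩⟩ : M))
    constructor
    · intro x y hxy
      have h1 : g⁻¹ * P x * g = g⁻¹ * P y * g := congrArg Subtype.val hxy
      rw [mul_left_inj, mul_right_inj] at h1
      exact hP h1
    · rintro ⟨h, hh⟩
      obtain ⟨x, rfl⟩ := (hM h).1 hh
      exact ⟨x, rfl⟩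
  have hMK := C.el_in_K E hel (by
    intro h hh
    obtain ⟨x, rfl⟩ := (hM h).1 hh
    exact hKR x) (by rw [hcard]; norm_num)
  have hk : C.kpart M = M := le_antisymm (C.kpart_le M) (fun h hh => ⟨hh, hMK h hh⟩)
  have hcp : Nat.card (C.pre M) = 2 ^ 7 := by rw [C.card_pre, hk, hcard]
  -- a common way to finish
  have fin : ∀ (P' : Ev →* G), Function.Injective P' → P' m1 = φ c →
      (∀ y, (∀ α ∈ autBy P', α y = y) → y = 1 ∨ y = m1) → (∀ h, h ∈ M ↔ ∃ y, P' y = h) →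
      g⁻¹ * φ c * g = φ c := by
    intro P' hP' hm fix hM'
    refine lemmaP hP' (C.z_ne E) x0 hx0 N m1 hm fix g ?_ ?_
    · intro x
      obtain ⟨y, hy⟩ := (hM' _).1 ((hM _).2 ⟨x, rfl⟩)
      exact ⟨y, hy.symm⟩
    · intro y
      obtain ⟨x, hx⟩ := (hM _).1 ((hM' _).2 ⟨y, rfl⟩)
      refine ⟨x, ?_⟩
      rw [← hx]
      group
  have mem_M : ∀ h, h ∈ M ↔ ∃ k, k ∈ C.pre M ∧ φ k = h := by
    intro h
    constructor
    · intro hh
      obtain ⟨k, hk1, rfl⟩ := hMK h hh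
      exact ⟨k, ⟨hk1, hh⟩, rfl⟩
    · rintro ⟨k, hk1, rfl⟩
      exact hk1.2
  rcases E.two_types _ (C.pre_le M) (C.pre_el hel) hcp with ⟨d, hd, hdM⟩ | ⟨f, hf, hfM⟩
  · apply fin (C.eHom hd) (C.eHom_inj hd) (C.eHom_m1 hd) (C.fixed_e hd)
    intro h
    rw [mem_M, hdM]
    constructor
    · rintro ⟨_, ⟨ε, hε, rfl⟩, rfl⟩
      exact ⟨⟨ε, hε⟩, rfl⟩
    · rintro ⟨ε, rfl⟩
      exact ⟨_, ⟨ε, ε.2, rfl⟩, rfl⟩
  · apply fin (C.fHom hf) (C.fHom_inj hf) (C.fHom_m1 hf) (C.fixed_f hf)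
    intro h
    rw [mem_M, hfM]
    constructor
    · rintro ⟨_, ⟨ε, rfl⟩, rfl⟩
      exact ⟨ε, rfl⟩
    · rintro ⟨ε, rfl⟩
      exact ⟨_, ⟨ε, rfl⟩, rfl⟩

end Cfg

end Cfsg.Agent.OddHalf.D9.EEight
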