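import Cfsg.Agent.OddHalf.D9.EEight.AutA
import Cfsg.Agent.OddHalf.D9.EEight.StepF

/-!
# Automorphisms of `K₀` and frames
-/

set_option autoImplicit false

namespace Cfsg.Agent.OddHalf.D9.EEight

open Equiv Subgroup Counts

/-- `cls` is invariant under the code group -/
theorem autCode_inv {σ : Perm (Fin 8)} (h : AutCode σ) : AutCode σ⁻¹ := by
  have hpow : ∀ n : ℕ, AutCode (σ ^ n) := by
    intro n
    induction n with
    | zero => exact fun ε hε => hε
    | succ n ih =>
      intro ε hε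
      rw [pow_succ, pm_mul]
      exact h _ (ih _ hε)
  have h1 : σ⁻¹ = σ ^ (orderOf σ - 1) := by
    rw [inv_eq_iff_mul_eq_one, ← pow_succ']
    have : orderOf σ - 1 + 1 = orderOf σ := Nat.sub_add_cancel (orderOf_pos σ)
    rw [this, pow_orderOf_eq_one]
  rw [h1]
  exact hpow _

theorem wt_pm (σ : Perm (Fin 8)) (ε : Sg) : wt (pm σ ε) = wt ε := by
  unfold wt
  apply Finset.card_bij (fun i _ => σ i)
  · intro i hi
    rw [Finset.mem_filter] at hi ⊢
    exact ⟨Finset.mem_univ _, hi.2⟩
  · intro i _ j _ hij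
    exact σ.injective hij
  · intro i hi
    rw [Finset.mem_filter] at hi
    refine ⟨σ⁻¹ i, ?_, σ.apply_symm_apply i⟩
    rw [Finset.mem_filter, pm_apply]
    refine ⟨Finset.mem_univ _, ?_⟩
    have : σ (σ⁻¹ i) = i := σ.apply_symm_apply i
    rw [this]
    exact hi.2

theorem cls_pm {σ : Perm (Fin 8)} (h : AutCode σ) (ε : Sg) : cls (pm σ ε) = cls ε := by
  unfold cls
  rw [wt_pm]
  have : IsCode (pm σ ε) ↔ IsCode ε := by
    constructor
    · intro h1
      have h2 := autCode_inv h _ h1
      rwa [pm_inv_pm] at h2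
    · exact h ε
  simp only [this]

/-- an injective map between sign vectors and sizes of classes -/
theorem card_le_of_map {p q : Sg → Prop} [DecidablePred p] [DecidablePred q] (f : Sg → Sg)
    (hf : ∀ x, p x → q (f x)) (hinj : ∀ x y, p x → p y → f x = f y → x = y) :
    (Finset.univ.filter p).card ≤ (Finset.univ.filter q).card := by
  apply Finset.card_le_card_of_injOn f
  · intro x hx
    rw [Finset.mem_coe, Finset.mem_filter] at hx ⊢
    exact ⟨Finset.mem_univ _, hf x hx.2⟩
  · intro x hx y hy hxy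
    rw [Finset.mem_coe, Finset.mem_filter] at hx hy
    exact hinj x y hx.2 hy.2 hxy

theorem cls_mem_Ev : ∀ x : Sg, cls x = 2 ∨ cls x = 4 ∨ cls x = 9 → x ∈ Ev := by decide +kernel

theorem cls_two_wt : ∀ x : Sg, cls x = 2 ↔ wt x = 2 := by decide +kernel

theorem cls_six_neg : ∀ x : Sg, cls x = 6 → cls (-x) = 2 := by decide +kernel

theorem isCode_cls : ∀ x : Sg, IsCode x → x = 1 ∨ x = -1 ∨ cls x = 9 := by decide +kernel

theorem cls_nine : ∀ x : Sg, cls x = 9 → IsCode x ∧ wt x = 4 := by decide +kernel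

theorem cls_four_wt : ∀ x : Sg, wt x = 4 → cls x = 4 ∨ cls x = 9 := by decide +kernel

section

variable (β : MulAut Ev)
  (H : ∀ σ : Perm (Fin 8), AutCode σ → ∃ τ : Perm (Fin 8), AutCode τ ∧ ∀ x : Ev, β (pmE σ x) = pmE τ (β x))

include H

theorem cls_map {x y : Ev} (h : cls (x : Sg) = cls (y : Sg)) :
    cls (β x : Sg) = cls (β y : Sg) := by
  obtain ⟨σ, hσ, -, hxy⟩ := cls_trans h
  obtain ⟨τ, hτ, hβ⟩ := H σ (autCode_of_aff hσ)
  have h1 : pmE σ x = y := Subtype.ext hxy
  rw [← h1, hβ, coe_pmE, cls_pm hτ]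

omit H in
/-- the map on sign vectors -/
noncomputable def ext (x : Sg) : Sg := by
  classical
  exact if h : x ∈ Ev then (β ⟨x, h⟩ : Sg) else x

omit H in
theorem ext_eq {x : Sg} (h : x ∈ Ev) : ext β x = (β ⟨x, h⟩ : Sg) := by
  unfold ext
  rw [dif_pos h]

omit H in
theorem ext_inj {x y : Sg} (hx : x ∈ Ev) (hy : y ∈ Ev) (h : ext β x = ext β y) : x = y := by
  rw [ext_eq β hx, ext_eq β hy] at h
  exact congrArg Subtype.val (β.injective (Subtype.ext h))

theorem cls_size {x : Ev} {j k : ℕ} (hj : j = 2 ∨ j = 4 ∨ j = 9) (hx : cls (x : Sg) = j)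
    (hk : cls (β x : Sg) = k) :
    (Finset.univ.filter (fun e : Sg => cls e = j)).card ≤
      (Finset.univ.filter (fun e : Sg => cls e = k)).card := by
  have hEv : ∀ y : Sg, cls y = j → y ∈ Ev := by
    intro y hy
    apply cls_mem_Ev
    rw [hy]
    exact hj
  apply card_le_of_map (ext β)
  · intro y hy
    rw [ext_eq β (hEv y hy), ← hk]
    exact cls_map β H (hy.trans hx.symm)
  · intro y z hy hz hyz
    exact ext_inj β (hEv y hy) (hEv z hz) hyz

/-- class `4` -/
theorem cls_four {x : Ev} (hx : cls (x : Sg) = 4) : cls (β x : Sg) = 4 := by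
  have h1 := cls_size β H (Or.inr (Or.inl rfl)) hx rfl
  have h2 := cls_even _ (β x).2
  have h3 := cls_lt (β x : Sg)
  generalize cls (β x : Sg) = k at h1 h2 h3
  rw [card_cls 4 (by norm_num), card_cls k h3] at h1
  interval_cases k <;> first | rfl | omega | (exfalso; revert h1; decide)

theorem cls_four_iff {x : Ev} : cls (β x : Sg) = 4 ↔ cls (x : Sg) = 4 := by
  refine ⟨fun h => ?_, cls_four β H⟩
  -- surjectivity on the class
  let S : Finset Ev := Finset.univ.filter (fun e : Ev => cls (e : Sg) = 4)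
  have hmaps : ∀ e ∈ S, β e ∈ S := by
    intro e he
    rw [Finset.mem_filter] at he ⊢
    exact ⟨Finset.mem_univ _, cls_four β H he.2⟩
  have himg : S.image β = S := by
    apply Finset.eq_of_subset_of_card_le
    · intro y hy
      rw [Finset.mem_image] at hy
      obtain ⟨e, he, rfl⟩ := hy
      exact hmaps e he
    · rw [Finset.card_image_of_injective _ β.injective]
  have h1 : β x ∈ S.image β := by
    rw [himg, Finset.mem_filter]
    exact ⟨Finset.mem_univ _, h⟩
  obtain ⟨e, he, hex⟩ := Finset.mem_image.1 h1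
  rw [← β.injective hex]
  exact (Finset.mem_filter.1 he).2

theorem cls_two {x : Ev} (hx : cls (x : Sg) = 2) : cls (β x : Sg) = 2 := by
  have h1 := cls_size β H (Or.inl rfl) hx rfl
  have h2 := cls_even _ (β x).2
  have h3 := cls_lt (β x : Sg)
  have h4 : cls (β x : Sg) ≠ 4 := by
    intro h
    rw [cls_four_iff β H, hx] at h
    omega
  have h26 : cls (β x : Sg) = 2 ∨ cls (β x : Sg) = 6 := by
    generalize cls (β x : Sg) = k at h1 h2 h3 h4
    rw [card_cls 2 (by norm_num), card_cls k h3] at h1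
    interval_cases k <;> first | omega | (exfalso; revert h1; decide)
  rcases h26 with h | h
  · exact h
  · exfalso
    have key : ∀ i j : Fin 8, i ≠ j → cls ((β ⟨pr i j, pr_mem i j⟩ : Ev) : Sg) = 6 := by
      intro i j hij
      rw [← h]
      apply cls_map β H
      rw [hx, cls_two_wt]
      exact pr_wt i j hij
    have k1 := cls_six_neg _ (key 0 1 (by decide))
    have k2 := cls_six_neg _ (key 0 2 (by decide))
    have k3 := key 1 2 (by decide)
    have e : (⟨pr 1 2, pr_mem 1 2⟩ : Ev) = ⟨pr 0 1, pr_mem 0 1⟩ * ⟨pr 0 2, pr_mem 0 2⟩ :=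
      Subtype.ext (pr_mul 1 2).symm
    rw [e, map_mul, Subgroup.coe_mul, ← neg_mul_neg] at k3
    generalize (-((β ⟨pr 0 1, pr_mem 0 1⟩ : Ev) : Sg)) = p at k1 k3
    generalize (-((β ⟨pr 0 2, pr_mem 0 2⟩ : Ev) : Sg)) = q at k2 k3
    have hw : wt (p * q) ≤ 4 := by
      rw [← card_sp, sp_mul]
      have e1 : (symmDiff (sp p) (sp q)).card ≤ (sp p).card + (sp q).card := by
        rw [symmDiff_def, Finset.sup_eq_union]
        refine (Finset.card_union_le _ _).trans ?_
        exact Nat.add_le_add (Finset.card_le_card Finset.sdiff_subset)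
          (Finset.card_le_card Finset.sdiff_subset)
      rw [card_sp, card_sp, (cls_two_wt p).1 k1, (cls_two_wt q).1 k2] at e1
      exact e1
    unfold cls at k3
    split_ifs at k3 <;> omega

/-- **An automorphism of `Ev` compatible with the code group is in the code group.** -/
theorem exists_code_perm : ∃ π : Perm (Fin 8), AutCode π ∧ ∀ ε : Ev, (β ε : Sg) = pm π ε := by
  obtain ⟨π, hπ⟩ := exists_perm_of_pairs β (fun ε hε => by
    rw [← cls_two_wt] at hε ⊢
    exact cls_two β H hε)
  refine ⟨π, fun ε hε => ?_, hπ⟩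
  rcases isCode_cls ε hε with rfl | rfl | h
  · exact hε
  · exact hε
  · have hEv := cls_mem_Ev ε (Or.inr (Or.inr h))
    have h1 := hπ ⟨ε, hEv⟩
    have h2 : wt (pm π ε) = 4 := by rw [wt_pm]; exact (cls_nine ε h).2
    rcases cls_four_wt _ h2 with h3 | h3
    · exfalso
      have h4 : cls ((β ⟨ε, hEv⟩ : Ev) : Sg) = 4 := by rw [h1]; exact h3
      rw [cls_four_iff β H] at h4
      have h5 : cls ε = 4 := h4
      rw [h] at h5
      omega
    · exact (cls_nine _ h3).1

end

end Cfsg.Agent.OddHalf.D9.EEight
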