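import Cfsg.Agent.OddHalf.D9.EEight.StepTwo

/-!
# Steps (3) and (4): the groups `E` and `D`
-/

set_option autoImplicit false

namespace Cfsg.Agent.OddHalf.D9.EEight

open Subgroup Equiv

variable {W : Type*} [Group W] {δ : W →* ℤˣ} {c : W} {Rf : W → Prop}
variable {G : Type*} [Group G] {φ : W → G} {R : Subgroup G}

theorem prd_of_type {ε : Sg} (h : wt ε = 2 ∨ wt ε = 6 ∨ IsCode ε) : ε ∈ Ev := by
  rw [mem_Ev]
  rcases h with h | h | h
  · rw [prd_eq_pow, h]; decide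
  · rw [prd_eq_pow, h]; decide
  · exact h.1

/-- A lift of a frame to `G`. -/
structure IsLift (δ : W →* ℤˣ) (φ : W → G) (d : Sg →* W) (D : Sg →* G) : Prop where
  ac : ∀ ε, Ac δ φ (D ε) (d ε)
  ev : ∀ ε ∈ Ev, D ε = φ (d ε)

namespace Cfg

variable (C : Cfg δ c φ R) (E : EF δ c Rf)

include C E

/-- conjugates of `z` in a frame are not of type `2`, `6`, block -/
theorem type_ne [Finite G] (cF : CountF) {d : Sg →* W} (hd : IsFr δ c Rf d) {g : G} {ε : Sg}
    (h : g * φ c * g⁻¹ = φ (d ε)) (ht : wt ε = 2 ∨ wt ε = 6 ∨ IsCode ε) : ε = -1 := by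
  have hε := prd_of_type ht
  obtain ⟨f, hf, u, hu⟩ := E.fr_ft d hd ε hε ht
  rw [← hu] at h
  have h1 := C.iso_F E cF hf g u h
  rw [h, hu, ← hd.neg] at h1
  exact hd.inj (C.inj _ _ (hd.det_ev ⟨ε, hε⟩) (by rw [hd.neg]; exact E.c_det) h1)

theorem type_ne' [Finite G] (cF : CountF) {d : Sg →* W} (hd : IsFr δ c Rf d) {g : G} {ε : Sg}
    (h : g * φ c * g⁻¹ = φ (d ε)) : wt ε ≠ 2 ∧ wt ε ≠ 6 ∧ (IsCode ε → ε = -1) := by
  have h8 : wt (-1) = 8 := by decide
  refine ⟨fun h1 => ?_, fun h1 => ?_, fun h1 => C.type_ne E cF hd h (Or.inr (Or.inr h1))⟩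
  · have := C.type_ne E cF hd h (Or.inl h1)
    rw [this, h8] at h1
    omega
  · have := C.type_ne E cF hd h (Or.inr (Or.inl h1))
    rw [this, h8] at h1
    omega

/-- `N_G(E) ≤ C_G(z)` -/
theorem norm_E [Finite G] (cF : CountF) (cE : CountE) {d : Sg →* W} (hd : IsFr δ c Rf d) (g : G)
    (h : ∀ x, ∃ y, g * C.eHom hd x * g⁻¹ = C.eHom hd y) : g * φ c = φ c * g := by
  obtain ⟨α, hα⟩ := exists_aut (C.eHom_inj hd) h
  have h1 : α m1 = m1 := by
    refine cE (autBy (C.eHom hd)) (C.code_mem hd) ?_ α ⟨g, hα⟩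
    rintro β ⟨n, hn⟩
    have h2 := hn m1
    rw [C.eHom_m1, C.eHom_apply] at h2
    obtain ⟨a, b, c⟩ := C.type_ne' E cF hd h2
    exact ⟨a, b, fun h => Subtype.ext (c h)⟩
  have h2 := hα m1
  rw [h1, C.eHom_m1, conj_eq_iff_comm] at h2
  exact h2

/-- **Step (3)** -/
theorem iso_E [Finite G] (cF : CountF) (cE : CountE) {d : Sg →* W} (hd : IsFr δ c Rf d)
    (hno : ∀ h : G, h * h = 1 → ∀ w, Ac δ φ h w → δ w = 1) (g : G) {ε : Sg} (hε : ε ∈ Ev)
    (hu : g * φ c * g⁻¹ = φ (d ε)) : g * φ c * g⁻¹ = φ c := by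
  have hz : g⁻¹ * φ (d ε) * g = φ c := by rw [← hu]; group
  have h1 := C.iso_of_kr E (C.eHom_inj hd) (C.eHom_m1 hd) (C.norm_E E cF cE hd) g (by
    intro x
    have h2 : (g⁻¹ * C.eHom hd x * g) * φ c = φ c * (g⁻¹ * C.eHom hd x * g) := by
      have e0 : φ (d ε) = C.eHom hd ⟨ε, hε⟩ := rfl
      rw [← hz, e0]
      have e1 : g⁻¹ * C.eHom hd x * g * (g⁻¹ * C.eHom hd ⟨ε, hε⟩ * g) =
        g⁻¹ * (C.eHom hd x * C.eHom hd ⟨ε, hε⟩) * g := by group
      have e2 : g⁻¹ * C.eHom hd ⟨ε, hε⟩ * g * (g⁻¹ * C.eHom hd x * g) =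
        g⁻¹ * (C.eHom hd ⟨ε, hε⟩ * C.eHom hd x) * g := by group
      rw [e1, e2, ← map_mul, ← map_mul, mul_comm]
    obtain ⟨w, hw⟩ := C.act _ h2
    refine ⟨w, hw, hno _ ?_ w hw⟩
    have e3 : g⁻¹ * C.eHom hd x * g * (g⁻¹ * C.eHom hd x * g) =
      g⁻¹ * (C.eHom hd x * C.eHom hd x) * g := by group
    rw [e3, ← map_mul, ev_sq, map_one]
    group)
  conv_lhs => rw [← h1]
  group

/-! ### Lifts -/

omit E in
theorem exists_lift {d : Sg →* W} (hd : IsFr δ c Rf d) {b : G} {η : Sg} (hb : b * b = 1)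
    (hη : prd η = -1) (hbη : Ac δ φ b (d η)) : ∃ D : Sg →* G, IsLift δ φ d D ∧ D η = b := by
  have hcomm : ∀ ε ∈ Ev, b * φ (d ε) = φ (d ε) * b := by
    intro ε hε
    have h := hbη _ (hd.det_ev ⟨ε, hε⟩)
    have e1 : d η * d ε * (d η)⁻¹ = d ε := by
      rw [← map_mul, mul_comm η ε, map_mul, mul_inv_cancel_right]
    have h' : b * φ (d ε) * b⁻¹ = φ (d ε) := by
      have e2 : d η * d ((⟨ε, hε⟩ : Ev) : Sg) * (d η)⁻¹ = d ε := e1
      rw [e2] at h
      exact h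
    exact mul_inv_eq_iff_eq_mul.1 h'
  have hmul : ∀ ε ζ : Sg, ε ∈ Ev → ζ ∈ Ev → φ (d (ε * ζ)) = φ (d ε) * φ (d ζ) := by
    intro ε ζ hε hζ
    rw [map_mul, C.mul _ _ (hd.det_ev ⟨ε, hε⟩) (hd.det_ev ⟨ζ, hζ⟩)]
  have hodd : ∀ ε : Sg, ε ∉ Ev → η * ε ∈ Ev := by
    intro ε hε
    rw [mem_Ev] at hε ⊢
    rw [map_mul, hη]
    rcases Int.units_eq_one_or (prd ε) with h | h
    · exact absurd h hε
    · rw [h]; decide
  have hηη : η * η = 1 := sq_one η
  let D : Sg →* G :=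
    { toFun := fun ε => if ε ∈ Ev then φ (d ε) else b * φ (d (η * ε))
      map_one' := by
        rw [if_pos Ev.one_mem, map_one, C.one']
      map_mul' := by
        intro ε ζ
        by_cases h1 : ε ∈ Ev <;> by_cases h2 : ζ ∈ Ev
        · rw [if_pos h1, if_pos h2, if_pos (Ev.mul_mem h1 h2), hmul _ _ h1 h2]
        · have h3 : ε * ζ ∉ Ev := fun h => h2 ((Ev.mul_mem_cancel_left h1).1 h)
          rw [if_pos h1, if_neg h2, if_neg h3, ← mul_assoc (φ (d ε)), ← hcomm ε h1, mul_assoc b,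
            ← hmul _ _ h1 (hodd _ h2), mul_left_comm ε η ζ]
        · have h3 : ε * ζ ∉ Ev := fun h => h1 ((Ev.mul_mem_cancel_right h2).1 h)
          rw [if_neg h1, if_pos h2, if_neg h3, mul_assoc, ← hmul _ _ (hodd _ h1) h2, mul_assoc]
        · have h3 : ε * ζ ∈ Ev := by
            have := Ev.mul_mem (hodd _ h1) (hodd _ h2)
            have e : η * ε * (η * ζ) = ε * ζ := by
              have : η * ε * (η * ζ) = (η * η) * (ε * ζ) := by
                simp only [mul_assoc, mul_left_comm]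
              rw [this, hηη, one_mul]
            rwa [e] at this
          rw [if_neg h1, if_neg h2, if_pos h3]
          have e : ε * ζ = η * ε * (η * ζ) := by
            have : η * ε * (η * ζ) = (η * η) * (ε * ζ) := by
              simp only [mul_assoc, mul_left_comm]
            rw [this, hηη, one_mul]
          rw [e, hmul _ _ (hodd _ h1) (hodd _ h2), mul_assoc b, ← mul_assoc (φ (d (η * ε))) b,
            ← hcomm _ (hodd _ h1), mul_assoc b, ← mul_assoc b, hb, one_mul] }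
  refine ⟨D, ⟨?_, ?_⟩, ?_⟩
  · intro ε
    by_cases h1 : ε ∈ Ev
    · have : D ε = φ (d ε) := if_pos h1
      rw [this]
      exact C.ac_phi (hd.det_ev ⟨ε, h1⟩)
    · have : D ε = b * φ (d (η * ε)) := if_neg h1
      rw [this]
      have h2 := hbη.mul (C.ac_phi (hd.det_ev ⟨η * ε, hodd _ h1⟩))
      have e : d η * d ((⟨η * ε, hodd _ h1⟩ : Ev) : Sg) = d ε := by
        rw [← map_mul, ← mul_assoc, hηη, one_mul]
      rw [e] at h2
      exact h2
  · intro ε hε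
    exact if_pos hε
  · have h1 : η ∉ Ev := by
      rw [mem_Ev, hη]
      decide
    have : D η = b * φ (d (η * η)) := if_neg h1
    rw [this, hηη, map_one, C.one', mul_one]

end Cfg

/-! ### Properties of lifts -/

section lifts

variable (C : Cfg δ c φ R) (E : EF δ c Rf) {d : Sg →* W} (hd : IsFr δ c Rf d) {D : Sg →* G}
  (hD : IsLift δ φ d D)

include C E hd hD

omit C E in
theorem lift_neg : D (-1) = φ c := by
  have h : (-1 : Sg) ∈ Ev := m1.2
  rw [hD.ev _ h, hd.neg]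

theorem lift_inj : Function.Injective D := by
  rw [injective_iff_map_eq_one]
  intro ε hε
  have h1 := hD.ac ε
  rw [hε] at h1
  rcases C.ac_uniq E Ac.one h1 with h2 | h2
  · exact hd.inj (by rw [h2, map_one])
  · rw [mul_one, ← hd.neg] at h2
    have h3 := hd.inj h2
    rw [h3, lift_neg hd hD] at hε
    exact absurd hε (C.z_ne E)

omit E in
/-- `AGL₃(2) ≤ Aut_G(D)` -/
theorem lift_sym (σ : Perm (Fin 8)) (hσ : AutCode σ) : (pm σ : MulAut Sg) ∈ autBy D := by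
  obtain ⟨k, hk, h⟩ := hd.sym σ hσ
  refine ⟨φ k, fun ε => ?_⟩
  have hk' : δ k⁻¹ = 1 := by rw [map_inv, hk, inv_one]
  have hev : ε⁻¹ * pm σ ε ∈ Ev := by
    rw [mem_Ev, map_mul, prd_pm, map_inv, inv_mul_cancel]
  have h1 : φ k * D ε * (φ k)⁻¹ = D ε * ((D ε)⁻¹ * φ k * (D ε)⁻¹⁻¹ * φ k⁻¹) := by
    rw [C.inv' hk]
    group
  have h2 := (hD.ac ε).inv k hk
  have h3 : (d ε)⁻¹ * k * (d ε)⁻¹⁻¹ * k⁻¹ = d (ε⁻¹ * pm σ ε) := by
    rw [map_mul, ← h, map_inv]
    group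
  rw [h1, h2, ← C.mul _ _ (det_conj hk) hk', h3, ← hD.ev _ hev, ← map_mul, mul_inv_cancel_left]

omit E in
theorem lift_fixed (y : Sg) (h : ∀ α ∈ autBy D, α y = y) : y = 1 ∨ y = -1 :=
  fixed_tr (h _ (lift_sym C hd hD _ tr_code1)) (h _ (lift_sym C hd hD _ tr_code2))
    (h _ (lift_sym C hd hD _ tr_code4))

/-- `N_G(D) ≤ C_G(z)` -/
theorem norm_D [Finite G] (cF : CountF) (cD : CountD) (g : G)
    (h : ∀ x, ∃ y, g * D x * g⁻¹ = D y) : g * φ c = φ c * g := by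
  obtain ⟨α, hα⟩ := exists_aut (lift_inj C E hd hD) h
  have h1 : α (-1) = -1 := by
    refine cD (autBy D) (lift_sym C hd hD) ?_ ?_ α ⟨g, hα⟩
    · rintro β ⟨n, hn⟩ hβ
      have h2 := hn (-1)
      rw [hβ, lift_neg hd hD, conj_eq_iff_comm] at h2
      obtain ⟨w, hw⟩ := C.act n h2
      have hev : ∀ ε ∈ Ev, β ε ∈ Ev ∧ w * d ε * w⁻¹ = d (β ε) := by
        intro ε hε
        have h3 := (Ac.mul hw (hD.ac ε)).mul (Ac.inv hw)
        rw [hn] at h3
        have h4 := C.ac_det E h3 (hD.ac (β ε))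
        have hβε : β ε ∈ Ev := by
          rw [mem_Ev, ← hd.det, ← h4]
          exact det_conj (hd.det_ev ⟨ε, hε⟩)
        refine ⟨hβε, ?_⟩
        have h5 := hw _ (hd.det_ev ⟨ε, hε⟩)
        have h6 : n * φ (d ε) * n⁻¹ = φ (d (β ε)) := by
          rw [← hD.ev _ hε, hn, hD.ev _ hβε]
        exact C.inj _ _ (det_conj (hd.det_ev ⟨ε, hε⟩)) (hd.det_ev ⟨_, hβε⟩) (h5.symm.trans h6)
      obtain ⟨σ, hσ, hσd⟩ := hd.nrm w (fun ε hε => ⟨β ε, (hev ε hε).1, (hev ε hε).2⟩)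
      refine ⟨σ, hσ, fun ε hε => ?_⟩
      apply hd.inj
      rw [← hσd, (hev ε hε).2]
    · rintro β ⟨n, hn⟩
      have h2 := hn (-1)
      rw [lift_neg hd hD] at h2
      have key : β (-1) ∈ Ev → n * φ c * n⁻¹ = φ (d (β (-1))) := by
        intro hev
        rw [h2, hD.ev _ hev]
      refine ⟨fun h3 => ?_, fun h3 => ?_, fun h3 => ?_⟩
      · exact (C.type_ne' E cF hd (key (prd_of_type (Or.inl h3)))).1 h3
      · exact (C.type_ne' E cF hd (key (prd_of_type (Or.inr (Or.inl h3))))).2.1 h3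
      · exact (C.type_ne' E cF hd (key (prd_of_type (Or.inr (Or.inr h3))))).2.2 h3
  have h2 := hα (-1)
  rw [h1, lift_neg hd hD, conj_eq_iff_comm] at h2
  exact h2

end lifts

section

variable (C : Cfg δ c φ R) (E : EF δ c Rf)

include C E

/-- Every elementary abelian subgroup of order `2⁸` of `C_G(z)` is a lift. -/
theorem exists_lift_eq [Finite G] {M : Subgroup G} (hM : IsEl M) (hcard : Nat.card M = 2 ^ 8)
    (hMz : ∀ h ∈ M, h * φ c = φ c * h) :
    ∃ (d : Sg →* W) (D : Sg →* G), IsFr δ c Rf d ∧ IsLift δ φ d D ∧ D.range = M := by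
  let M₁ : Subgroup G :=
    { carrier := {h | h ∈ M ∧ ∃ w, Ac δ φ h w ∧ δ w = 1}
      one_mem' := ⟨M.one_mem, 1, Ac.one, map_one δ⟩
      mul_mem' := by
        rintro a b ⟨ha, v, hv, hv1⟩ ⟨hb, w, hw, hw1⟩
        exact ⟨M.mul_mem ha hb, v * w, hv.mul hw, by rw [map_mul, hv1, hw1, one_mul]⟩
      inv_mem' := by
        rintro a ⟨ha, v, hv, hv1⟩
        exact ⟨M.inv_mem ha, v⁻¹, hv.inv, by rw [map_inv, hv1, inv_one]⟩ }
  have hel : IsEl M₁ :=
    ⟨fun x hx => hM.1 x hx.1, fun x hx y hy => hM.2 x hx.1 y hy.1⟩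
  have hle := card_le_two_mul M M₁ (by
    intro a ha ha1 b hb hb1
    refine ⟨M.mul_mem ha hb, ?_⟩
    obtain ⟨v, hv⟩ := C.act a (hMz a ha)
    obtain ⟨w, hw⟩ := C.act b (hMz b hb)
    have h1 : δ v = -1 := by
      rcases Int.units_eq_one_or (δ v) with h | h
      · exact absurd ⟨ha, v, hv, h⟩ ha1
      · exact h
    have h2 : δ w = -1 := by
      rcases Int.units_eq_one_or (δ w) with h | h
      · exact absurd ⟨hb, w, hw, h⟩ hb1
      · exact h
    refine ⟨v * w, Ac.mul hv hw, ?_⟩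
    rw [map_mul, h1, h2]
    decide)
  have hK := C.el_in_K E hel (fun h hh => hh.2) (by omega)
  have hpre : C.pre M₁ = C.pre M := by
    ext k
    constructor
    · rintro ⟨hk, hk1⟩
      exact ⟨hk, hk1.1⟩
    · rintro ⟨hk, hk1⟩
      exact ⟨hk, hk1, k, C.ac_phi hk, hk⟩
  have hkp : C.kpart M₁ = M₁ := le_antisymm (C.kpart_le _) (fun h hh => ⟨hh, hK h hh⟩)
  have hc1 : Nat.card (C.pre M) = Nat.card M₁ := by rw [← hpre, C.card_pre, hkp]
  have hc2 : Nat.card (C.pre M) ≤ 2 ^ 7 := E.card_le _ (C.pre_le M) (C.pre_el hM)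
  have hc3 : Nat.card (C.pre M) = 2 ^ 7 := by omega
  have hnot : ¬ M ≤ M₁ := by
    intro h
    have := Subgroup.card_le_of_le h
    omega
  obtain ⟨b, hbM, hb1⟩ := SetLike.not_le_iff_exists.1 hnot
  obtain ⟨w, hw⟩ := C.act b (hMz b hbM)
  have hδw : δ w = -1 := by
    rcases Int.units_eq_one_or (δ w) with h | h
    · exact absurd ⟨hbM, w, hw, h⟩ hb1
    · exact h
  have hwc : ∀ k ∈ C.pre M, w * k = k * w := by
    rintro k ⟨hk, hkM⟩
    have h1 := hw k hk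
    rw [hM.2 b hbM _ hkM, mul_inv_cancel_right] at h1
    have h2 := C.inj _ _ hk (det_conj hk) h1
    exact mul_inv_eq_iff_eq_mul.1 h2.symm
  rcases E.two_types _ (C.pre_le M) (C.pre_el hM) hc3 with ⟨d, hd, hdM⟩ | ⟨f, hf, hfM⟩
  · obtain ⟨η, rfl⟩ := hd.cen w (by
      intro ε hε
      apply hwc
      rw [hdM]
      exact ⟨ε, hε, rfl⟩)
    rw [hd.det] at hδw
    obtain ⟨D, hD, hDη⟩ := C.exists_lift hd (hM.1 b hbM) hδw hw
    refine ⟨d, D, hd, hD, ?_⟩
    have hev : ∀ ε ∈ Ev, D ε ∈ M := by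
      intro ε hε
      rw [hD.ev ε hε]
      have : d ε ∈ C.pre M := by rw [hdM]; exact ⟨ε, hε, rfl⟩
      exact this.2
    have hle : D.range ≤ M := by
      rintro _ ⟨ε, rfl⟩
      by_cases hε : ε ∈ Ev
      · exact hev ε hε
      · have h1 : η * ε ∈ Ev := by
          rw [mem_Ev] at hε ⊢
          rw [map_mul, hδw]
          rcases Int.units_eq_one_or (prd ε) with h | h
          · exact absurd h hε
          · rw [h]; decide
        have h2 : D ε = D η * D (η * ε) := by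
          rw [← map_mul, ← mul_assoc, sq_one, one_mul]
        rw [h2, hDη]
        exact M.mul_mem hbM (hev _ h1)
    have hcD : Nat.card D.range = 2 ^ 8 := by
      rw [← card_Sg]
      exact (Nat.card_congr (MonoidHom.ofInjective (lift_inj C E hd hD)).toEquiv).symm
    exact Subgroup.eq_of_le_of_card_ge hle (by rw [hcD, hcard])
  · exfalso
    obtain ⟨y, rfl⟩ := hf.cen w (by
      intro ε
      apply hwc
      rw [hfM]
      exact ⟨ε, rfl⟩)
    rw [hf.det] at hδw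
    exact absurd hδw (by decide)

/-- **Step (4)** -/
theorem iso_D [Finite G] (cF : CountF) (cD : CountD) {d : Sg →* W} (hd : IsFr δ c Rf d)
    {D : Sg →* G} (hD : IsLift δ φ d D) (g : G) {u : Sg} (hu : g * φ c * g⁻¹ = D u) :
    g * φ c * g⁻¹ = φ c := by
  have hinj := lift_inj C E hd hD
  have hz : g⁻¹ * D u * g = φ c := by rw [← hu]; group
  obtain ⟨d', D', hd', hD', hM⟩ := exists_lift_eq C E (M := (conjHom D g).range) (by
      constructor
      · rintro _ ⟨x, rfl⟩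
        rw [← map_mul, sq_one, map_one]
      · rintro _ ⟨x, rfl⟩ _ ⟨y, rfl⟩
        rw [← map_mul, ← map_mul, mul_comm])
    (by
      rw [← card_Sg]
      exact (Nat.card_congr (MonoidHom.ofInjective (conjHom_inj hinj g)).toEquiv).symm)
    (by
      rintro _ ⟨x, rfl⟩
      have : φ c = conjHom D g u := hz.symm
      rw [this, ← map_mul, ← map_mul, mul_comm])
  have hM' : ∀ h, (∃ x, conjHom D g x = h) ↔ ∃ y, D' y = h := by
    intro h
    have h1 : h ∈ (conjHom D g).range ↔ h ∈ D'.range := by rw [hM]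
    exact h1
  have h1 := lemmaP (lift_inj C E hd' hD') (C.z_ne E) (-1) (lift_neg hd hD)
    (norm_D C E hd hD cF cD) (-1) (lift_neg hd' hD') (lift_fixed C hd' hD') g
    (fun x => by
      obtain ⟨y, hy⟩ := (hM' _).1 ⟨x, rfl⟩
      exact ⟨y, hy.symm⟩)
    (fun y => by
      obtain ⟨x, hx⟩ := (hM' _).2 ⟨y, rfl⟩
      refine ⟨x, ?_⟩
      rw [← hx, conjHom_apply]
      group)
  conv_lhs => rw [← h1]
  group

end

end Cfsg.Agent.OddHalf.D9.EEight
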