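import Cfsg.Agent.OddHalf.D9.EEight.AutB
import Cfsg.Agent.OddHalf.D9.EEight.StepThree

/-!
# Automorphisms of `K₀` map frames to frames
-/

set_option autoImplicit false

namespace Cfsg.Agent.OddHalf.D9.EEight

open Equiv Subgroup Counts

variable {W : Type*} [Group W] {δ : W →* ℤˣ} {c : W} {Rf : W → Prop}

/-- the image of a frame group under an automorphism of the kernel -/
def imHom (α : MulAut δ.ker) {d : Sg →* W} (hd : IsFr δ c Rf d) : Ev →* W where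
  toFun ε := (α ⟨d ε, hd.det_ev ε⟩ : δ.ker)
  map_one' := by
    have : (⟨d ((1 : Ev) : Sg), hd.det_ev 1⟩ : δ.ker) = 1 := Subtype.ext (map_one d)
    rw [this, map_one]
    rfl
  map_mul' x y := by
    have : (⟨d ((x * y : Ev) : Sg), hd.det_ev (x * y)⟩ : δ.ker) =
      ⟨d x, hd.det_ev x⟩ * ⟨d y, hd.det_ev y⟩ := Subtype.ext (map_mul d _ _)
    rw [this, map_mul]
    rfl

theorem imHom_apply (α : MulAut δ.ker) {d : Sg →* W} (hd : IsFr δ c Rf d) (ε : Ev) :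
    imHom α hd ε = (α ⟨d ε, hd.det_ev ε⟩ : δ.ker) := rfl

theorem imHom_det (α : MulAut δ.ker) {d : Sg →* W} (hd : IsFr δ c Rf d) (ε : Ev) :
    δ (imHom α hd ε) = 1 := (α ⟨d ε, hd.det_ev ε⟩).2

theorem imHom_inj (α : MulAut δ.ker) {d : Sg →* W} (hd : IsFr δ c Rf d) :
    Function.Injective (imHom α hd) := by
  intro x y hxy
  have h1 : (⟨d x, hd.det_ev x⟩ : δ.ker) = ⟨d y, hd.det_ev y⟩ := α.injective (Subtype.ext hxy)
  exact Subtype.ext (hd.inj (congrArg Subtype.val h1))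

theorem imHom_sym (α : MulAut δ.ker) {d : Sg →* W} (hd : IsFr δ c Rf d) {σ : Perm (Fin 8)}
    (hσ : AutCode σ) : ∃ h : W, δ h = 1 ∧ ∀ ε, h * imHom α hd ε * h⁻¹ = imHom α hd (pmE σ ε) := by
  obtain ⟨k, hk, hk'⟩ := hd.sym σ hσ
  refine ⟨(α ⟨k, hk⟩ : δ.ker), (α ⟨k, hk⟩).2, fun ε => ?_⟩
  have h1 : (⟨k, hk⟩ : δ.ker) * ⟨d ε, hd.det_ev ε⟩ * (⟨k, hk⟩ : δ.ker)⁻¹ =
      ⟨d (pmE σ ε : Ev), hd.det_ev _⟩ := Subtype.ext (hk' ε)
  rw [imHom_apply, imHom_apply, ← h1, map_mul, map_mul, map_inv]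
  rfl

/-- automorphisms fix `c` -/
theorem aut_c (E : EF δ c Rf) (α : MulAut δ.ker) : α ⟨c, E.c_det⟩ = ⟨c, E.c_det⟩ := by
  have h1 : ∀ k : W, δ k = 1 → ((α ⟨c, E.c_det⟩ : δ.ker) : W) * k = k * (α ⟨c, E.c_det⟩ : δ.ker) := by
    intro k hk
    have h2 : α (⟨c, E.c_det⟩ * (α⁻¹ ⟨k, hk⟩)) = α ((α⁻¹ ⟨k, hk⟩) * ⟨c, E.c_det⟩) := by
      congr 1
      exact Subtype.ext (E.c_comm _)
    rw [map_mul, map_mul, MulAut.apply_inv_self] at h2
    exact congrArg Subtype.val h2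
  rcases E.cenK _ h1 with h2 | h2
  · exfalso
    have h3 : α ⟨c, E.c_det⟩ = 1 := Subtype.ext h2
    have h4 : (⟨c, E.c_det⟩ : δ.ker) = 1 := by
      rw [← map_one α] at h3
      exact α.injective h3
    exact E.c_ne (congrArg Subtype.val h4)
  · exact Subtype.ext h2

theorem imHom_m1 (E : EF δ c Rf) (α : MulAut δ.ker) {d : Sg →* W} (hd : IsFr δ c Rf d) :
    imHom α hd m1 = c := by
  rw [imHom_apply]
  have h1 : (⟨d ((m1 : Ev) : Sg), hd.det_ev m1⟩ : δ.ker) = ⟨c, E.c_det⟩ := Subtype.ext hd.neg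
  rw [h1, aut_c E]

theorem exists_aut_of_range {P Q : Ev →* W} (hP : Function.Injective P) (hQ : Function.Injective Q)
    (h : ∀ ε, ∃ η, Q ε = P η) : ∃ β : MulAut Ev, ∀ ε, Q ε = P (β ε) := by
  choose a ha using h
  let β : Ev →* Ev :=
    { toFun := a
      map_one' := by
        apply hP
        rw [← ha, map_one, map_one]
      map_mul' := fun x y => by
        apply hP
        rw [← ha, map_mul, map_mul, ha, ha] }
  have hinj : Function.Injective β := by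
    intro x y hxy
    apply hQ
    rw [ha, ha]
    exact congrArg P hxy
  exact ⟨MulEquiv.ofBijective β ⟨hinj, Finite.injective_iff_surjective.1 hinj⟩, fun x => ha x⟩

theorem wt_ne_of {y : Sg} (h1 : y ∈ Ev) (h2 : y ≠ 1) (h3 : y ≠ -1) :
    14 < (Finset.univ.filter (fun e : Sg => wt e = wt y)).card := by
  revert y
  decide +kernel

theorem u4_facts : u4 ≠ 1 ∧ u4 ≠ -1 ∧ cls u4 = 9 ∧ u4 ∈ Ev := by decide +kernel

/-- an `F`-group is not the image of an `E`-group -/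
theorem not_ft (E : EF δ c Rf) (α : MulAut δ.ker) {d : Sg →* W} (hd : IsFr δ c Rf d) {f : Ev →* W}
    (hf : IsFt δ c f) (hfd : ∀ ε, ∃ η, imHom α hd ε = f η) : False := by
  obtain ⟨β, hβ⟩ := exists_aut_of_range hf.inj (imHom_inj α hd) hfd
  -- conjugation by the even permutations, transported back
  have key : ∀ σ : Perm (Fin 8), Perm.sign σ = 1 → ∀ x : Ev,
      cls ((β⁻¹ (pmE σ (β x)) : Ev) : Sg) = cls (x : Sg) := by
    intro σ hσ x
    obtain ⟨k, hk, hk'⟩ := hf.sym σ hσ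
    have h1 : ∀ ε : Ev, ((α⁻¹ ⟨k, hk⟩ : δ.ker) : W) * d ε * ((α⁻¹ ⟨k, hk⟩ : δ.ker) : W)⁻¹ =
        d (β⁻¹ (pmE σ (β ε)) : Ev) := by
      intro ε
      have h2 : α ((α⁻¹ ⟨k, hk⟩) * ⟨d ε, hd.det_ev ε⟩ * (α⁻¹ ⟨k, hk⟩)⁻¹) =
          α ⟨d (β⁻¹ (pmE σ (β ε)) : Ev), hd.det_ev _⟩ := by
        rw [map_mul, map_mul, map_inv, MulAut.apply_inv_self]
        apply Subtype.ext
        have h3 := hβ ε
        have h4 := hβ (β⁻¹ (pmE σ (β ε)))
        rw [imHom_apply] at h3 h4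
        rw [MulAut.apply_inv_self] at h4
        show k * (α ⟨d ε, hd.det_ev ε⟩ : δ.ker) * k⁻¹ = _
        rw [h3, h4, hk']
      exact congrArg Subtype.val (α.injective h2)
    obtain ⟨τ, hτ, hτd⟩ := hd.nrm _ (fun ε hε => ⟨_, (β⁻¹ (pmE σ (β ⟨ε, hε⟩)) : Ev).2, h1 ⟨ε, hε⟩⟩)
    have h3 := h1 x
    rw [hτd] at h3
    rw [← hd.inj h3, cls_pm hτ]
  -- the element `u4` has a small orbit
  let x0 : Ev := ⟨u4, u4_facts.2.2.2⟩
  have hy : 14 < (Finset.univ.filter (fun e : Sg => wt e = wt (β x0 : Sg))).card := by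
    apply wt_ne_of (β x0).2
    · intro h
      have h1 : β x0 = 1 := Subtype.ext h
      have h2 : x0 = 1 := by rw [← map_one β] at h1; exact β.injective h1
      exact u4_facts.1 (congrArg Subtype.val h2)
    · intro h
      have h1 : β x0 = m1 := Subtype.ext h
      have h2 : β m1 = m1 := by
        apply hf.inj
        rw [← hβ, imHom_m1 E, hf.neg]
      rw [← h2] at h1
      exact u4_facts.2.1 (congrArg Subtype.val (β.injective h1))
  have h14 := card_cls 9 (by norm_num)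
  have hle : (Finset.univ.filter (fun e : Sg => wt e = wt (β x0 : Sg))).card ≤
      (Finset.univ.filter (fun e : Sg => cls e = 9)).card := by
    have hEv : ∀ y : Sg, wt y = wt (β x0 : Sg) → y ∈ Ev := by
      intro y hy
      rw [mem_Ev, prd_eq_pow, hy, ← prd_eq_pow]
      exact (β x0).2
    apply card_le_of_map (ext β⁻¹)
    · intro y hy
      rw [ext_eq _ (hEv y hy)]
      obtain ⟨σ, hσ, hσy⟩ := exists_even_perm (ε := (β x0 : Sg)) (η := y) hy.symm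
      have h1 : pmE σ (β x0) = ⟨y, hEv y hy⟩ := Subtype.ext hσy
      have h2 := key σ hσ x0
      rw [h1] at h2
      rw [h2]
      exact u4_facts.2.2.1
    · intro y z hy hz hyz
      exact ext_inj _ (hEv y hy) (hEv z hz) hyz
  rw [h14] at hle
  have : (![1, 8, 28, 56, 56, 56, 28, 8, 1, 14] : Fin 10 → ℕ) (Fin.ofNat 10 9) = 14 := rfl
  rw [this] at hle
  omega

/-- **The image of a frame is a frame.** -/
theorem frame_map (E : EF δ c Rf) (α : MulAut δ.ker) {d : Sg →* W} (hd : IsFr δ c Rf d) :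
    ∃ d' : Sg →* W, IsFr δ c Rf d' ∧ ∃ k : W, δ k = 1 ∧
      ∀ ε : Ev, (α ⟨d ε, hd.det_ev ε⟩ : W) = k * d' ε * k⁻¹ := by
  have hQ := imHom_inj α hd
  have hcard : Nat.card (imHom α hd).range = 2 ^ 7 := by
    rw [← card_Ev]
    exact (Nat.card_congr (MonoidHom.ofInjective hQ).toEquiv).symm
  rcases E.two_types (imHom α hd).range (by
      rintro _ ⟨ε, rfl⟩
      exact imHom_det α hd ε) (by
      constructor
      · rintro _ ⟨x, rfl⟩
        rw [← map_mul, ev_sq, map_one]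
      · rintro _ ⟨x, rfl⟩ _ ⟨y, rfl⟩
        rw [← map_mul, ← map_mul, mul_comm]) hcard with ⟨d', hd', hM⟩ | ⟨f, hf, hM⟩
  · obtain ⟨β, hβ⟩ := exists_aut_of_range (P := d'.comp Ev.subtype)
      (hd'.inj.comp Subtype.val_injective) hQ (by
        intro ε
        have h1 : imHom α hd ε ∈ Ev.map d' := by rw [← hM]; exact ⟨ε, rfl⟩
        obtain ⟨η, hη, h2⟩ := h1
        exact ⟨⟨η, hη⟩, h2.symm⟩)
    have hβ' : ∀ ε, imHom α hd ε = d' (β ε : Ev) := hβ
    obtain ⟨π, hπ, hπβ⟩ := exists_code_perm β (by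
      intro σ hσ
      obtain ⟨h, hh, hh'⟩ := imHom_sym α hd hσ
      obtain ⟨τ, hτ, hτd⟩ := hd'.nrm h (by
        intro η hη
        refine ⟨_, (β (pmE σ (β⁻¹ ⟨η, hη⟩)) : Ev).2, ?_⟩
        have h1 := hh' (β⁻¹ ⟨η, hη⟩)
        rw [hβ', hβ', MulAut.apply_inv_self] at h1
        exact h1)
      refine ⟨τ, hτ, fun x => ?_⟩
      apply Subtype.ext
      apply hd'.inj
      rw [← hβ', ← hh', hβ', hτd]
      rfl)
    obtain ⟨k, hk, hk'⟩ := hd'.sym π hπ
    refine ⟨d', hd', k, hk, fun ε => ?_⟩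
    rw [hk', ← hπβ]
    exact hβ' ε
  · exfalso
    refine not_ft E α hd hf (fun ε => ?_)
    have h1 : imHom α hd ε ∈ f.range := by rw [← hM]; exact ⟨ε, rfl⟩
    obtain ⟨η, h2⟩ := h1
    exact ⟨η, h2.symm⟩

end Cfsg.Agent.OddHalf.D9.EEight
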