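import Mathlib
import Cfsg.Agent.OddHalf.D9.EEight.CountsF

/-!
# Row `2.O8+(2)`: the count for the groups of order `2 ^ 8`
-/

set_option autoImplicit false
set_option Elab.async false

namespace Cfsg.Agent.OddHalf.D9.EEight

open Equiv CountD Counts

namespace Counts

theorem sg_two : ∀ a b : Fin 8, IsCode (sg a * sg b) → a = b := by decide +kernel

theorem sg_code : ∀ i j k : Fin 8, IsCode (sg i * sg j * sg k * sg (i ^^^ j ^^^ k)) := by
  decide +kernel

theorem isCode_mul {e f : Sg} (he : IsCode e) (hf : IsCode f) : IsCode (e * f) := by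
  rw [isCode_iff] at he hf ⊢
  intro i j k
  calc (e * f) i * (e * f) j * (e * f) k * (e * f) (i ^^^ j ^^^ k)
      = (e i * e j * e k * e (i ^^^ j ^^^ k)) * (f i * f j * f k * f (i ^^^ j ^^^ k)) := by
        simp only [Pi.mul_apply]
        ac_rfl
    _ = 1 := by rw [he, hf, mul_one]

theorem sg_code_iff {a b c d : Fin 8} (h : IsCode (sg a * sg b * sg c * sg d)) :
    d = a ^^^ b ^^^ c := by
  have h1 := isCode_mul h (sg_code a b c)
  have h2 : sg a * sg b * sg c * sg d * (sg a * sg b * sg c * sg (a ^^^ b ^^^ c)) =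
      sg d * sg (a ^^^ b ^^^ c) := by
    calc _ = (sg a * sg a) * (sg b * sg b) * (sg c * sg c) * (sg d * sg (a ^^^ b ^^^ c)) := by
          ac_rfl
      _ = _ := by rw [sq_one (sg a), sq_one (sg b), sq_one (sg c), one_mul, one_mul, one_mul]
  rw [h2] at h1
  exact sg_two _ _ h1

theorem pm_sg (π : Perm (Fin 8)) (i : Fin 8) : pm π⁻¹ (sg i) = sg (π i) := by
  funext j
  rw [pm_apply]
  unfold sg
  have h : π⁻¹ j = i ↔ j = π i := by
    rw [Perm.inv_eq_iff_eq]
  simp only [h]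

theorem pt_inj1 : ∀ i j : Fin 8, sg i = sg j → i = j := by decide +kernel

theorem pt_ne1 : ∀ i : Fin 8, sg i ≠ -1 ∧ -sg i ≠ -1 := by decide +kernel

theorem code_ev (e : Sg) (h : IsCode e) : e ∈ Ev := h.1

/-- `9` is impossible. -/
theorem nine_false (A : Subgroup (MulAut Sg)) (ha : ∀ s, AutCode s → pm s ∈ A)
    (hb : ∀ a ∈ A, a (-1) = -1 → ∃ s, AutCode s ∧ ∀ e ∈ Ev, a e = pm s e)
    (u : Sg) (hu : u = 1 ∨ u = -1)
    (hO : ∀ y, (∃ a ∈ A, a (-1) = y) ↔ y = -1 ∨ ∃ i, y = u * sg i) : False := by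
  have huu : u * u = 1 := sq_one u
  set pt : Option (Fin 8) → Sg := fun o => o.elim (-1) (fun i => u * sg i) with hpt
  have hptn : pt none = -1 := rfl
  have hpts : ∀ i, pt (some i) = u * sg i := fun i => rfl
  have hne : ∀ i, u * sg i ≠ -1 := by
    intro i
    rcases hu with rfl | rfl
    · rw [one_mul]; exact (pt_ne1 i).1
    · rw [neg_one_mul]; exact (pt_ne1 i).2
  have hinj : Function.Injective pt := by
    intro a b hab
    cases a with
    | none =>
      cases b with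
      | none => rfl
      | some b => exact absurd hab.symm (hne b)
    | some a =>
      cases b with
      | none => exact absurd hab (hne a)
      | some b => exact congrArg some (pt_inj1 a b (mul_left_cancel hab))
  have hrange : ∀ y, (∃ a ∈ A, a (-1) = y) ↔ ∃ o, pt o = y := by
    intro y
    rw [hO]
    constructor
    · rintro (rfl | ⟨i, rfl⟩)
      · exact ⟨none, rfl⟩
      · exact ⟨some i, rfl⟩
    · rintro ⟨o, rfl⟩
      cases o with
      | none => exact Or.inl rfl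
      | some i => exact Or.inr ⟨i, rfl⟩
  have hmove : ∀ a ∈ A, ∀ o, ∃ o', pt o' = a (pt o) := by
    intro a haA o
    rw [← hrange]
    obtain ⟨b, hbA, h⟩ := (hrange (pt o)).mpr ⟨o, rfl⟩
    exact ⟨a * b, A.mul_mem haA hbA, by rw [MulAut.mul_apply, h]⟩
  have hperm : ∀ a ∈ A, ∃ σ : Perm (Option (Fin 8)), ∀ o, a (pt o) = pt (σ o) := by
    intro a haA
    choose f hf using hmove a haA
    have hfi : Function.Injective f := by
      intro x y hxy
      apply hinj
      exact a.injective (by rw [← hf, ← hf, hxy])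
    exact ⟨Equiv.ofBijective f (Finite.injective_iff_bijective.mp hfi), fun o => (hf o).symm⟩
  let A' : Subgroup (Perm (Option (Fin 8))) :=
    { carrier := {σ | ∃ a ∈ A, ∀ o, a (pt o) = pt (σ o)}
      mul_mem' := by
        rintro σ τ ⟨n, hn, h⟩ ⟨m, hm, h'⟩
        exact ⟨n * m, A.mul_mem hn hm, fun o => by rw [MulAut.mul_apply, h', h]; rfl⟩
      one_mem' := ⟨1, A.one_mem, fun o => rfl⟩
      inv_mem' := by
        rintro σ ⟨n, hn, h⟩
        refine ⟨n⁻¹, A.inv_mem hn, fun o => ?_⟩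
        have h1 := h (σ⁻¹ o)
        rw [show σ (σ⁻¹ o) = o from σ.apply_symm_apply o] at h1
        rw [← h1, MulAut.inv_apply_self] }
  refine perm_false A' ?_ ?_ ?_
  · rintro σ ⟨a, haA, h⟩ hσ i j k a' b' c' hi hj hk
    have hz : a (-1) = -1 := by
      have := h none
      rwa [hσ] at this
    obtain ⟨s, hs, hs'⟩ := hb a haA hz
    have hd : σ (some (i ^^^ j ^^^ k)) ≠ none := by
      intro hh
      rw [← hσ] at hh
      exact absurd (σ.injective hh) (by simp)
    obtain ⟨d', hd'⟩ := Option.ne_none_iff_exists'.mp hd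
    have hcode := sg_code i j k
    have h1 := hs' _ (code_ev _ hcode)
    have h2 : sg i * sg j * sg k * sg (i ^^^ j ^^^ k) =
        pt (some i) * pt (some j) * pt (some k) * pt (some (i ^^^ j ^^^ k)) := by
      rw [hpts, hpts, hpts, hpts]
      calc sg i * sg j * sg k * sg (i ^^^ j ^^^ k)
          = (u * u) * (u * u) * (sg i * sg j * sg k * sg (i ^^^ j ^^^ k)) := by
            rw [huu, one_mul, one_mul]
        _ = _ := by ac_rfl
    have h3 : a (sg i * sg j * sg k * sg (i ^^^ j ^^^ k)) = sg a' * sg b' * sg c' * sg d' := by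
      rw [h2, map_mul, map_mul, map_mul, h, h, h, h, hi, hj, hk, hd', hpts, hpts, hpts, hpts]
      calc u * sg a' * (u * sg b') * (u * sg c') * (u * sg d')
          = (u * u) * (u * u) * (sg a' * sg b' * sg c' * sg d') := by ac_rfl
        _ = _ := by rw [huu, one_mul, one_mul]
    have h4 : IsCode (sg a' * sg b' * sg c' * sg d') := by
      rw [← h3, h1]
      exact hs _ hcode
    rw [hd', sg_code_iff h4]
  · intro π hπ
    refine ⟨pm π⁻¹, ha _ (autCode_of_aff (aff_inv hπ)), fun o => ?_⟩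
    cases o with
    | none => rfl
    | some i =>
      change pm π⁻¹ (u * sg i) = u * sg (π i)
      rw [map_mul, pm_sg]
      rcases hu with rfl | rfl
      · rw [map_one]
      · rfl
  · obtain ⟨a, haA, h⟩ := (hO (u * sg 0)).mpr (Or.inr ⟨0, rfl⟩)
    obtain ⟨σ, hσ⟩ := hperm a haA
    refine ⟨σ, ⟨a, haA, hσ⟩, fun hσn => ?_⟩
    have h1 := hσ none
    rw [hσn, hptn, h] at h1
    exact hne 0 h1

/-- `17` is impossible. -/
theorem not_17' (A : Subgroup (MulAut Sg)) (z : Sg) (hz1 : z ≠ 1)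
    (h17 : {y : Sg | ∃ a ∈ A, a z = y}.ncard = 17)
    (hmul : ∀ y, (∃ a ∈ A, a z = y) → y ≠ z → ∃ a ∈ A, a z = z * y) : False := by
  classical
  set Om : Set Sg := {y | ∃ a ∈ A, a z = y} with hOm
  have hne : ∀ x ∈ Om, x ≠ 1 := by
    rintro x ⟨a, ha, rfl⟩ h
    exact hz1 (a.injective (h.trans (map_one a).symm))
  have hM : ∀ x ∈ Om, ∀ y ∈ Om, y ≠ x → y * x ∈ Om := by
    rintro x ⟨a, ha, rfl⟩ y ⟨b, hb, rfl⟩ hne
    obtain ⟨c, hc, h1⟩ := hmul (a⁻¹ (b z)) ⟨a⁻¹ * b, A.mul_mem (A.inv_mem ha) hb, rfl⟩ (by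
      intro h
      apply hne
      have h' : a (a⁻¹ (b z)) = a z := by rw [h]
      rwa [MulAut.apply_inv_self] at h')
    refine ⟨a * c, A.mul_mem ha hc, ?_⟩
    rw [MulAut.mul_apply, h1, map_mul, MulAut.apply_inv_self, mul_comm]
  have h3 : 3 ∣ Nat.card {p : Om × Om // p.1 ≠ p.2} := by
    refine Count.three_dvd (fun p : {p : Om × Om // p.1 ≠ p.2} =>
      (⟨(p.1.2, ⟨p.1.2 * p.1.1, hM p.1.1 p.1.1.2 p.1.2 p.1.2.2
        (fun h => p.2 (Subtype.ext h.symm))⟩), fun h => hne p.1.1 p.1.1.2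
          (mul_eq_left.mp (congrArg Subtype.val h).symm)⟩ : {p : Om × Om // p.1 ≠ p.2})) ?_ ?_
    · rintro ⟨⟨x, y⟩, hxy⟩
      refine Subtype.ext (Prod.ext (Subtype.ext ?_) (Subtype.ext ?_))
      · change (y : Sg) * x * y = x
        rw [mul_comm (y : Sg) x, mul_assoc, sq_one, mul_one]
      · change (y : Sg) * x * y * (y * x) = y
        rw [mul_comm (y : Sg) x, mul_assoc (x : Sg) y y, sq_one, mul_one, ← mul_assoc, sq_one,
          one_mul]
    · rintro ⟨⟨x, y⟩, hxy⟩ h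
      have h1 := congrArg (fun q => q.1.1) h
      exact hxy h1.symm
  have h4 : Nat.card {p : Om × Om // p.1 ≠ p.2} = 17 * 16 := by
    have := Fintype.ofFinite Om
    have h5 : Fintype.card Om = 17 := by
      rw [← Nat.card_eq_fintype_card, Nat.card_coe_set_eq]
      exact h17
    have h6 := Fintype.card_subtype_compl (fun p : Om × Om => p.1 = p.2)
    have h7 : Fintype.card {p : Om × Om // p.1 = p.2} = 17 := by
      rw [← h5]
      exact Fintype.card_congr ⟨fun p => p.1.1, fun x => ⟨(x, x), rfl⟩,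
        fun p => Subtype.ext (Prod.ext rfl p.2), fun x => rfl⟩
    rw [Nat.card_eq_fintype_card]
    rw [h7, Fintype.card_prod, h5] at h6
    exact h6
  rw [h4] at h3
  revert h3
  norm_num

end Counts

/-- The frame with a reflection: `-1` is fixed. -/
theorem count_D (A : Subgroup (MulAut Sg)) (ha : ∀ s, AutCode s → pm s ∈ A)
    (hb : ∀ a ∈ A, a (-1) = -1 → ∃ s, AutCode s ∧ ∀ e ∈ Ev, a e = pm s e)
    (hc : ∀ a ∈ A, wt (a (-1)) ≠ 2 ∧ wt (a (-1)) ≠ 6 ∧ (IsCode (a (-1)) → a (-1) = -1)) :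
    ∀ a ∈ A, a (-1) = -1 := by
  have h0 := dvd_Sg A (-1)
  set O : Set Sg := {y | ∃ a ∈ A, a (-1) = y} with hO
  have hne1 : (-1 : Sg) ≠ 1 := by decide +kernel
  have h3 : ∀ e e', cls e = cls e' → e ∈ O → e' ∈ O := by
    rintro e e' hee ⟨b, hb, h4⟩
    obtain ⟨σ, hσ, hσ1, h5⟩ := cls_trans hee
    exact ⟨pm σ * b, A.mul_mem (ha σ (autCode_of_aff hσ)) hb, by
      rw [MulAut.mul_apply, h4, h5]⟩
  obtain ⟨a, h1, h2, h4⟩ := ncard_cls O h3
  have hcls : ∀ e : Sg, (cls e = 2 → wt e = 2) ∧ (cls e = 6 → wt e = 6) ∧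
      (cls e = 9 → IsCode e ∧ e ≠ -1) := by decide +kernel
  have a0 : a 0 = 0 := by
    refine h2 0 (by norm_num) fun e he heO => ?_
    rw [cls_zero e he] at heO
    obtain ⟨b, hb, h7⟩ := heO
    exact hne1 (b.injective (h7.trans (map_one b).symm))
  have a2 : a 2 = 0 := h2 2 (by norm_num) fun e he heO => by
    obtain ⟨b, hb, rfl⟩ := heO
    exact (hc b hb).1 ((hcls _).1 he)
  have a6 : a 6 = 0 := h2 6 (by norm_num) fun e he heO => by
    obtain ⟨b, hb, rfl⟩ := heO
    exact (hc b hb).2.1 ((hcls _).2.1 he)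
  have a9 : a 9 = 0 := h2 9 (by norm_num) fun e he heO => by
    obtain ⟨b, hb, rfl⟩ := heO
    have h5 := (hcls _).2.2 he
    exact h5.2 ((hc b hb).2.2 h5.1)
  have a8 : a 8 = 1 := by
    rcases h1 8 with h | h
    · exfalso
      exact h.2 (-1) cls_neg ⟨1, A.one_mem, rfl⟩
    · exact h.1
  rw [h4, a0, a2, a6, a9, a8] at h0
  have hcase : a 3 = 0 ∧ a 4 = 0 ∧ a 5 = 0 := by
    rcases h1 1 with ⟨b1, -⟩ | ⟨b1, -⟩ <;> rcases h1 3 with ⟨b3, -⟩ | ⟨b3, -⟩ <;>
      rcases h1 4 with ⟨b4, -⟩ | ⟨b4, -⟩ <;> rcases h1 5 with ⟨b5, -⟩ | ⟨b5, -⟩ <;>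
      rcases h1 7 with ⟨b7, -⟩ | ⟨b7, -⟩ <;> rw [b1, b3, b4, b5, b7] at h0 <;>
      rw [b3, b4, b5] <;> revert h0 <;> norm_num
  obtain ⟨a3, a4, a5⟩ := hcase
  have hmem : ∀ e, e ∈ O ↔ e = -1 ∨ (a 1 = 1 ∧ ∃ i, e = sg i) ∨ (a 7 = 1 ∧ ∃ i, e = -sg i) := by
    intro e
    constructor
    · intro he
      have h5 : ∀ k, cls e = k → a k = 1 := by
        intro k hk
        rcases h1 k with h | h
        · exact absurd he (h.2 e hk)
        · exact h.1
      have h6 := cls_lt e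
      have n0 : cls e ≠ 0 := fun h => by have := h5 0 h; omega
      have n2 : cls e ≠ 2 := fun h => by have := h5 2 h; omega
      have n3 : cls e ≠ 3 := fun h => by have := h5 3 h; omega
      have n4 : cls e ≠ 4 := fun h => by have := h5 4 h; omega
      have n5 : cls e ≠ 5 := fun h => by have := h5 5 h; omega
      have n6 : cls e ≠ 6 := fun h => by have := h5 6 h; omega
      have n9 : cls e ≠ 9 := fun h => by have := h5 9 h; omega
      have h7 : cls e = 1 ∨ cls e = 7 ∨ cls e = 8 := by omega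
      rcases h7 with h | h | h
      · exact Or.inr (Or.inl ⟨h5 1 h, (cls_one e).mp h⟩)
      · exact Or.inr (Or.inr ⟨h5 7 h, (cls_seven e).mp h⟩)
      · exact Or.inl (cls_eight e h)
    · rintro (rfl | ⟨h, hi⟩ | ⟨h, hi⟩)
      · exact ⟨1, A.one_mem, rfl⟩
      · rcases h1 1 with h' | h'
        · rw [h'.1] at h; exact absurd h (by norm_num)
        · exact h'.2 e ((cls_one e).mpr hi)
      · rcases h1 7 with h' | h'
        · rw [h'.1] at h; exact absurd h (by norm_num)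
        · exact h'.2 e ((cls_seven e).mpr hi)
  rw [a3, a4, a5] at h4
  rcases h1 1 with ⟨b1, -⟩ | ⟨b1, -⟩ <;> rcases h1 7 with ⟨b7, -⟩ | ⟨b7, -⟩
  · intro b hb
    rcases (hmem (b (-1))).mp ⟨b, hb, rfl⟩ with h | ⟨h, -⟩ | ⟨h, -⟩
    · exact h
    · rw [b1] at h; exact absurd h (by norm_num)
    · rw [b7] at h; exact absurd h (by norm_num)
  · exfalso
    refine nine_false A ha hb (-1) (Or.inr rfl) fun y => ?_
    change y ∈ O ↔ _
    rw [hmem, b1, b7]
    simp
  · exfalso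
    refine nine_false A ha hb 1 (Or.inl rfl) fun y => ?_
    change y ∈ O ↔ _
    rw [hmem, b1, b7]
    simp
  · exfalso
    rw [a0, a2, a6, a9, a8, b1, b7] at h4
    refine not_17' A (-1) hne1 (by rw [← hO, h4]) fun y hy hyn => ?_
    change -1 * y ∈ O
    have hy' : y ∈ O := hy
    rw [hmem, b1, b7] at hy' ⊢
    simp only [true_and] at hy' ⊢
    rcases hy' with h | ⟨i, h⟩ | ⟨i, h⟩
    · exact absurd h hyn
    · exact Or.inr (Or.inr ⟨i, by rw [h, neg_one_mul]⟩)
    · exact Or.inr (Or.inl ⟨i, by rw [h, neg_one_mul, neg_neg]⟩)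

end Cfsg.Agent.OddHalf.D9.EEight
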