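import Cfsg.Agent.OddHalf.D9.EEight.FrameHom

/-!
# Every frame can be labelled (helper528)

`exists_lab`: the code of a frame of 8 orthogonal roots is, after a permutation of the roots, the Hamming code `IsCode`.
-/

set_option autoImplicit false

namespace Cfsg.Agent.OddHalf.D9.EEight.FrameCode

open Matrix Cfsg.Agent.OddHalf.D9.EEight Cfsg.Agent.OddHalf.D9.EEight.FrameBase
  Cfsg.Agent.OddHalf.D9.EEight.FrameHom

variable {a : Fin 8 → Lat}

/-- the places where the product is odd -/
def od (a : Fin 8 → Lat) (x : Lat) : Finset (Fin 8) := Finset.univ.filter fun i => Odd (form x (a i))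

theorem mem_od {x : Lat} {i : Fin 8} : i ∈ od a x ↔ Odd (form x (a i)) := by
  unfold od
  rw [Finset.mem_filter]
  exact ⟨fun h => h.2, fun h => ⟨Finset.mem_univ _, h⟩⟩

theorem sq_mod (c : ℤ) : c * c % 4 = if Odd c then 1 else 0 := by
  rcases Int.even_or_odd c with h | h
  · rw [if_neg (Int.not_odd_iff_even.2 h)]
    obtain ⟨k, rfl⟩ := h
    have : (k + k) * (k + k) = 4 * (k * k) := by ring
    omega
  · rw [if_pos h]
    obtain ⟨k, rfl⟩ := h
    have : (2 * k + 1) * (2 * k + 1) = 4 * (k * k + k) + 1 := by ring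
    omega

theorem card_od (ha : Frame a) (x : Lat) : 4 ∣ (od a x).card := by
  have h1 := ha.sum_form x x
  obtain ⟨m, hm⟩ := even_form x
  have h2 : (∑ i, form x (a i) * form x (a i)) % 4 = ((od a x).card : ℤ) % 4 := by
    rw [Finset.sum_int_mod]
    rw [Finset.sum_congr rfl fun i _ => sq_mod (form x (a i))]
    rw [od, Finset.card_filter]
    push_cast; rfl
  rw [h1, hm] at h2
  omega

theorem even_inter (ha : Frame a) (x y : Lat) : Even (od a x ∩ od a y).card := by
  have h1 := ha.sum_form x y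
  have h2 : (∑ i, form x (a i) * form y (a i)) % 2 = ((od a x ∩ od a y).card : ℤ) % 2 := by
    rw [Finset.sum_int_mod]
    have h3 : ∀ i, form x (a i) * form y (a i) % 2 = if i ∈ od a x ∩ od a y then 1 else 0 := by
      intro i
      split_ifs with h
      · rw [Finset.mem_inter, mem_od, mem_od] at h
        exact Int.odd_iff.1 (h.1.mul h.2)
      · rw [Finset.mem_inter, mem_od, mem_od, ← Int.odd_mul] at h
        exact Int.even_iff.1 (Int.not_odd_iff_even.1 h)
    rw [Finset.sum_congr rfl fun i _ => h3 i, Finset.sum_ite_mem, Finset.univ_inter, Finset.sum_const,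
      nsmul_eq_mul, mul_one]
  rw [h1] at h2
  rw [Nat.even_iff]
  omega

/-- the completion of a triple -/
theorem exists_block (ha : Frame a) {i j k m : Fin 8} (hij : i ≠ j) (hik : i ≠ k) (him : i ≠ m)
    (hjk : j ≠ k) (hjm : j ≠ m) (hkm : k ≠ m) :
    ∃ x, i ∈ od a x ∧ j ∈ od a x ∧ k ∈ od a x ∧ (od a x).card = 4 := by
  let t : Fin 4 → Fin 8 := ![i, j, k, m]
  have ht : Function.Injective t := by
    intro p q hpq
    fin_cases p <;> fin_cases q <;> simp_all [t]
  let φ : Lat →+ (Fin 4 → ZMod 2) :=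
    { toFun := fun x s => ((form x (a (t s)) : ℤ) : ZMod 2)
      map_zero' := by
        funext s
        have : form 0 (a (t s)) = 0 := by simp [form]
        rw [this]; simp
      map_add' := fun x y => by
        funext s
        rw [form_add_left]; push_cast; rfl }
  let H : Submodule (ZMod 2) (Fin 4 → ZMod 2) := AddSubgroup.toZModSubmodule 2 φ.range
  have hH : ∀ v, v ∈ H ↔ ∃ x, φ x = v := fun v => Iff.rfl
  have hcast : ∀ n : ℤ, ((n : ℤ) : ZMod 2) = 1 ↔ Odd n := by
    intro n
    rw [← Int.not_even_iff_odd, ← ZMod.intCast_eq_zero_iff_even]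
    generalize ((n : ℤ) : ZMod 2) = z
    revert z; decide
  by_cases htop : H = ⊤
  · obtain ⟨x, hx⟩ := (hH ![1, 1, 1, 0]).1 (by rw [htop]; trivial)
    have h0 : i ∈ od a x := mem_od.2 ((hcast _).1 (congrFun hx 0))
    have h1 : j ∈ od a x := mem_od.2 ((hcast _).1 (congrFun hx 1))
    have h2 : k ∈ od a x := mem_od.2 ((hcast _).1 (congrFun hx 2))
    have h3 : m ∉ od a x := by
      intro h
      have h4 := (hcast _).2 (mem_od.1 h)
      have h5 : ((form x (a m) : ℤ) : ZMod 2) = 0 := congrFun hx 3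
      rw [h5] at h4
      exact absurd h4 (by decide)
    refine ⟨x, h0, h1, h2, ?_⟩
    have h4 : (od a x).card < 8 := by
      have h5 : od a x ⊂ Finset.univ := by
        rw [Finset.ssubset_univ_iff]
        intro h6
        exact h3 (by rw [h6]; exact Finset.mem_univ _)
      have := Finset.card_lt_card h5
      simpa using this
    have h5 : 0 < (od a x).card := Finset.card_pos.2 ⟨i, h0⟩
    have := card_od ha x
    omega
  · obtain ⟨f, hf, hle⟩ := Submodule.exists_le_ker_of_lt_top H (lt_top_iff_ne_top.2 htop)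
    let c : Fin 4 → ℤ := fun s => if f (Pi.single s 1) = 1 then 1 else 0
    have hc : ∀ s, ((c s : ℤ) : ZMod 2) = f (Pi.single s 1) := by
      intro s
      simp only [c]
      generalize f (Pi.single s 1) = z
      revert z; decide
    have heven : ∀ x, Even (∑ s, c s * form x (a (t s))) := by
      intro x
      rw [← ZMod.intCast_eq_zero_iff_even]
      have h1 : f (φ x) = 0 := hle ((hH _).2 ⟨x, rfl⟩)
      rw [LinearMap.pi_apply_eq_sum_univ] at h1
      rw [← h1]
      push_cast
      refine Finset.sum_congr rfl fun s _ => ?_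
      rw [hc, mul_comm, smul_eq_mul]
      congr 2
      funext j
      rw [Pi.single_apply]
      simp only [eq_comm]
    obtain ⟨y, hy⟩ := exists_half (u := ∑ s, c s • a (t s)) (by
      intro x
      rw [form_sum_left]
      have e : ∑ s, form (c s • a (t s)) x = ∑ s, c s * form x (a (t s)) :=
        Finset.sum_congr rfl fun s _ => by rw [form_smul_left, form_comm x]
      rw [e]; exact heven x)
    have hval : ∀ s, form y (a (t s)) = c s := by
      intro s
      have h1 : form (∑ s, c s • a (t s)) (a (t s)) = 2 * c s := by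
        rw [form_sum_left, Finset.sum_eq_single s]
        · rw [form_smul_left, ha.root]; ring
        · intro p _ hp
          rw [form_smul_left, ha.orth _ _ fun h => hp (ht h), mul_zero]
        · intro h; exact absurd (Finset.mem_univ s) h
      rw [hy, form_smul_left] at h1
      omega
    have hnorm : 2 * form y y = ∑ s, c s * c s := by
      have h1 : form (∑ s, c s • a (t s)) y = ∑ s, c s * c s := by
        rw [form_sum_left]
        exact Finset.sum_congr rfl fun s _ => by rw [form_smul_left, form_comm, hval]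
      rw [hy, form_smul_left] at h1
      exact h1
    obtain ⟨q, hq⟩ := even_form y
    have hc01 : ∀ s, c s = 0 ∨ c s = 1 := by
      intro s
      simp only [c]
      split_ifs
      · right; rfl
      · left; rfl
    have hex : ∃ s, c s = 1 := by
      by_contra hcon
      push Not at hcon
      apply hf
      apply LinearMap.pi_ext'
      intro s
      apply LinearMap.ext_ring
      rcases hc01 s with h | h
      · have h1 := hc s
        rw [h] at h1
        rw [LinearMap.comp_apply, LinearMap.zero_comp, LinearMap.zero_apply]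
        show f (Pi.single s 1) = 0
        rw [← h1]; simp
      · exact absurd h (hcon s)
    have hsum : ∑ s, c s * c s = c 0 + c 1 + c 2 + c 3 := by
      have h1 : ∀ s, c s * c s = c s := by
        intro s
        rcases hc01 s with h | h <;> rw [h] <;> rfl
      rw [Finset.sum_congr rfl fun s _ => h1 s, Fin.sum_univ_four]
    have hall : c 0 = 1 ∧ c 1 = 1 ∧ c 2 = 1 ∧ c 3 = 1 := by
      have h0 := hc01 0
      have h1 := hc01 1
      have h2 := hc01 2
      have h3 := hc01 3
      obtain ⟨s, hs⟩ := hex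
      have h4 : c 0 = 1 ∨ c 1 = 1 ∨ c 2 = 1 ∨ c 3 = 1 := by
        fin_cases s
        · exact Or.inl hs
        · exact Or.inr (Or.inl hs)
        · exact Or.inr (Or.inr (Or.inl hs))
        · exact Or.inr (Or.inr (Or.inr hs))
      omega
    have hmem : ∀ s, t s ∈ od a y := by
      intro s
      rw [mem_od, hval]
      have : c s = 1 := by
        fin_cases s
        · exact hall.1
        · exact hall.2.1
        · exact hall.2.2.1
        · exact hall.2.2.2
      rw [this]; decide
    refine ⟨y, hmem 0, hmem 1, hmem 2, ?_⟩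
    have h1 : od a y ⊆ Finset.image t Finset.univ := by
      intro l hl
      by_contra hcon
      have h2 : form y (a l) = 0 := by
        have h3 : form (∑ s, c s • a (t s)) (a l) = 0 := by
          rw [form_sum_left]
          refine Finset.sum_eq_zero fun s _ => ?_
          rw [form_smul_left, ha.orth _ _ fun h => hcon (by
            rw [← h]; exact Finset.mem_image_of_mem t (Finset.mem_univ s)), mul_zero]
        rw [hy, form_smul_left] at h3
        omega
      rw [mem_od, h2] at hl
      exact absurd hl (by decide)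
    have h2 : Finset.image t Finset.univ ⊆ od a y := by
      intro l hl
      obtain ⟨s, _, rfl⟩ := Finset.mem_image.1 hl
      exact hmem s
    rw [Finset.Subset.antisymm h1 h2, Finset.card_image_of_injective _ ht]
    rfl

/-- the fourth point -/
theorem exists_fourth (ha : Frame a) {i j k m : Fin 8} (hij : i ≠ j) (hik : i ≠ k) (him : i ≠ m)
    (hjk : j ≠ k) (hjm : j ≠ m) (hkm : k ≠ m) :
    ∃ x l, l ≠ i ∧ l ≠ j ∧ l ≠ k ∧ od a x = {i, j, k, l} := by
  obtain ⟨x, hi, hj, hk, hc⟩ := exists_block ha hij hik him hjk hjm hkm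
  obtain ⟨l, hl, he⟩ := Finset.exists_eq_insert_iff.2
    (⟨by
      intro y hy
      simp only [Finset.mem_insert, Finset.mem_singleton] at hy
      rcases hy with rfl | rfl | rfl
      · exact hi
      · exact hj
      · exact hk, by
      rw [hc, Finset.card_insert_of_notMem (by simp [hij, hik]), Finset.card_insert_of_notMem (by simp [hjk]),
        Finset.card_singleton]⟩ : ({i, j, k} : Finset (Fin 8)) ⊆ od a x ∧ ({i, j, k} : Finset (Fin 8)).card + 1 = (od a x).card)
  simp only [Finset.mem_insert, Finset.mem_singleton, not_or] at hl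
  refine ⟨x, l, hl.1, hl.2.1, hl.2.2, ?_⟩
  rw [← he]
  ext y
  simp only [Finset.mem_insert, Finset.mem_singleton]
  tauto

theorem notMem_of_even {S T : Finset (Fin 8)} {i j m n : Fin 8} (hT : T = {i, j, m, n})
    (h : Even (S ∩ T).card) (hi : i ∈ S) (hj : j ∈ S) (hm : m ∉ S) (hij : i ≠ j) (hni : n ≠ i)
    (hnj : n ≠ j) : n ∉ S := by
  intro hn
  have e : S ∩ T = {i, j, n} := by
    ext y
    rw [hT]
    simp only [Finset.mem_inter, Finset.mem_insert, Finset.mem_singleton]
    constructor
    · rintro ⟨h1, rfl | rfl | rfl | rfl⟩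
      · left; rfl
      · right; left; rfl
      · exact absurd h1 hm
      · right; right; rfl
    · rintro (rfl | rfl | rfl)
      · exact ⟨hi, Or.inl rfl⟩
      · exact ⟨hj, Or.inr (Or.inl rfl)⟩
      · exact ⟨hn, Or.inr (Or.inr (Or.inr rfl))⟩
  rw [e, Finset.card_insert_of_notMem (by simp [hij, Ne.symm hni]),
    Finset.card_insert_of_notMem (by simp [Ne.symm hnj]), Finset.card_singleton] at h
  revert h; decide

theorem swap_mid (i j k l : Fin 8) : ({i, j, k, l} : Finset (Fin 8)) = {i, k, j, l} := by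
  ext y
  simp only [Finset.mem_insert, Finset.mem_singleton]
  tauto

theorem rot_three (i j k l : Fin 8) : ({i, j, k, l} : Finset (Fin 8)) = {j, k, i, l} := by
  ext y
  simp only [Finset.mem_insert, Finset.mem_singleton]
  tauto

theorem od_comp (x : Lat) (π : Equiv.Perm (Fin 8)) (i : Fin 8) :
    i ∈ od (fun i => a (π i)) x ↔ π i ∈ od a x := by
  rw [mem_od, mem_od]

theorem sgn_eq (x : Lat) (i : Fin 8) : sgn a x i = if i ∈ od a x then -1 else 1 := by
  rw [sgn_apply]
  split_ifs with h
  · exact Int.negOnePow_odd _ (mem_od.1 h)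
  · rw [mem_od, Int.not_odd_iff_even] at h
    exact Int.negOnePow_even _ h

theorem prod_od (ha : Frame a) (x y : Lat) : ∏ i ∈ od a y, sgn a x i = 1 := by
  rw [Finset.prod_congr rfl fun i _ => sgn_eq x i, Finset.prod_ite_mem, Finset.prod_const]
  have := even_inter ha y x
  exact this.neg_one_pow

theorem code_alg : ∀ e0 e1 e2 e3 e4 e5 e6 e7 : ℤˣ, e0 * e1 * e2 * e3 = 1 → e0 * e1 * e4 * e5 = 1 →
    e0 * e2 * e4 * e6 = 1 → e1 * e2 * e4 * e7 = 1 →
    e0 * e1 * e2 * e3 * e4 * e5 * e6 * e7 = 1 ∧ e1 * e3 * e5 * e7 = 1 ∧ e2 * e3 * e6 * e7 = 1 ∧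
      e4 * e5 * e6 * e7 = 1 := by
  decide +kernel

theorem code_alg' : ∀ e0 e1 e2 e3 e4 e5 e6 e7 : ℤˣ,
    e0 * e1 * e2 * e3 * e4 * e5 * e6 * e7 = 1 → e1 * e3 * e5 * e7 = 1 → e2 * e3 * e6 * e7 = 1 →
      e4 * e5 * e6 * e7 = 1 → e0 = e3 * e5 * e6 ∧ e1 = e3 * e5 * e7 ∧ e2 = e3 * e6 * e7 ∧ e4 = e5 * e6 * e7 := by
  decide +kernel

/-- a criterion for a labelled frame -/
theorem lab_of (ha : Frame a) {x1 x2 x3 x4 : Lat} (h1 : od a x1 = {0, 1, 2, 3}) (h2 : od a x2 = {0, 1, 4, 5})
    (h3 : od a x3 = {0, 2, 4, 6}) (h4 : od a x4 = {1, 2, 4, 7}) : Lab a := by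
  intro ε
  constructor
  · rintro ⟨c1, c2, c3, c4⟩
    rw [prd_apply, Fin.prod_univ_eight] at c1
    obtain ⟨e0, e1, e2, e4⟩ := code_alg' _ _ _ _ _ _ _ _ c1 c2 c3 c4
    let g : ℤˣ → Lat → Lat := fun s x => if s = -1 then x else 0
    have hg : ∀ (s : ℤˣ) (x : Lat) (i : Fin 8), sgn a (g s x) i = if i ∈ od a x then s else 1 := by
      intro s x i
      rcases Int.units_eq_one_or s with h | h
      · have : g s x = 0 := by simp only [g]; rw [h, if_neg (by decide)]
        rw [this, h, sgn_apply]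
        have h0 : form 0 (a i) = 0 := by simp [form]
        rw [h0]; split_ifs <;> rfl
      · have : g s x = x := by simp only [g]; rw [h, if_pos rfl]
        rw [this, h, sgn_eq]
    refine ⟨g (ε 3) x1 + g (ε 5) x2 + g (ε 6) x3 + g (ε 7) x4, ?_⟩
    funext i
    rw [sgn_add, sgn_add, sgn_add, Pi.mul_apply, Pi.mul_apply, Pi.mul_apply, hg, hg, hg, hg, h1, h2, h3, h4]
    fin_cases i
    · show ε 3 * ε 5 * ε 6 * 1 = ε 0
      rw [e0, mul_one]
    · show ε 3 * ε 5 * 1 * ε 7 = ε 1
      rw [e1, mul_one]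
    · show ε 3 * 1 * ε 6 * ε 7 = ε 2
      rw [e2, mul_one]
    · show ε 3 * 1 * 1 * 1 = ε 3
      simp
    · show 1 * ε 5 * ε 6 * ε 7 = ε 4
      rw [e4, one_mul]
    · show 1 * ε 5 * 1 * 1 = ε 5
      simp
    · show 1 * 1 * ε 6 * 1 = ε 6
      simp
    · show 1 * 1 * 1 * ε 7 = ε 7
      simp
  · rintro ⟨x, rfl⟩
    have p1 := prod_od ha x x1
    have p2 := prod_od ha x x2
    have p3 := prod_od ha x x3
    have p4 := prod_od ha x x4
    rw [h1] at p1
    rw [h2] at p2
    rw [h3] at p3
    rw [h4] at p4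
    have q1 : sgn a x 0 * sgn a x 1 * sgn a x 2 * sgn a x 3 = 1 := by
      rw [← p1]
      rw [Finset.prod_insert (by decide), Finset.prod_insert (by decide), Finset.prod_insert (by decide),
        Finset.prod_singleton]
      simp only [mul_assoc]
    have q2 : sgn a x 0 * sgn a x 1 * sgn a x 4 * sgn a x 5 = 1 := by
      rw [← p2]
      rw [Finset.prod_insert (by decide), Finset.prod_insert (by decide), Finset.prod_insert (by decide),
        Finset.prod_singleton]
      simp only [mul_assoc]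
    have q3 : sgn a x 0 * sgn a x 2 * sgn a x 4 * sgn a x 6 = 1 := by
      rw [← p3]
      rw [Finset.prod_insert (by decide), Finset.prod_insert (by decide), Finset.prod_insert (by decide),
        Finset.prod_singleton]
      simp only [mul_assoc]
    have q4 : sgn a x 1 * sgn a x 2 * sgn a x 4 * sgn a x 7 = 1 := by
      rw [← p4]
      rw [Finset.prod_insert (by decide), Finset.prod_insert (by decide), Finset.prod_insert (by decide),
        Finset.prod_singleton]
      simp only [mul_assoc]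
    obtain ⟨c1, c2, c3, c4⟩ := code_alg _ _ _ _ _ _ _ _ q1 q2 q3 q4
    refine ⟨?_, c2, c3, c4⟩
    rw [prd_apply, Fin.prod_univ_eight]
    exact c1

/-- **Every frame has a labelling.** -/
theorem exists_lab (ha : Frame a) : ∃ π : Equiv.Perm (Fin 8), Lab (fun i => a (π i)) := by
  obtain ⟨x1, p3, n1, n2, n3, o1⟩ := exists_fourth ha (i := 0) (j := 1) (k := 2) (m := 3) (by decide) (by decide)
    (by decide) (by decide) (by decide) (by decide)
  obtain ⟨p4, hp4⟩ : ∃ p4 : Fin 8, p4 ∉ od a x1 := by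
    by_contra hcon
    push Not at hcon
    have : (Finset.univ : Finset (Fin 8)).card ≤ (od a x1).card := Finset.card_le_card fun i _ => hcon i
    rw [o1] at this
    have h4 := Finset.card_le_four (a := (0 : Fin 8)) (b := 1) (c := 2) (d := p3)
    rw [Finset.card_univ, Fintype.card_fin] at this
    omega
  have m0 : (0 : Fin 8) ∈ od a x1 := by rw [o1]; simp
  have m1' : (1 : Fin 8) ∈ od a x1 := by rw [o1]; simp
  have m2 : (2 : Fin 8) ∈ od a x1 := by rw [o1]; simp
  have m3 : p3 ∈ od a x1 := by rw [o1]; simp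
  have n40 : p4 ≠ 0 := fun h => hp4 (h ▸ m0)
  have n41 : p4 ≠ 1 := fun h => hp4 (h ▸ m1')
  have n42 : p4 ≠ 2 := fun h => hp4 (h ▸ m2)
  have n43 : p4 ≠ p3 := fun h => hp4 (h ▸ m3)
  obtain ⟨x2, p5, q1, q2, q3, o2⟩ := exists_fourth ha (i := 0) (j := 1) (k := p4) (m := 2) (by decide)
    (Ne.symm n40) (by decide) (Ne.symm n41) (by decide) n42
  have r5 : p5 ∉ od a x1 := notMem_of_even o2 (even_inter ha x1 x2) m0 m1' hp4 (by decide) q1 q2
  obtain ⟨x3, p6, s1, s2, s3, o3⟩ := exists_fourth ha (i := 0) (j := 2) (k := p4) (m := 1) (by decide)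
    (Ne.symm n40) (by decide) (Ne.symm n42) (by decide) n41
  have r6 : p6 ∉ od a x1 := notMem_of_even o3 (even_inter ha x1 x3) m0 m2 hp4 (by decide) s1 s2
  have k20 : (0 : Fin 8) ∈ od a x2 := by rw [o2]; simp
  have k21 : (1 : Fin 8) ∈ od a x2 := by rw [o2]; simp
  have k24 : p4 ∈ od a x2 := by rw [o2]; simp
  have k25 : p5 ∈ od a x2 := by rw [o2]; simp
  have k22 : (2 : Fin 8) ∉ od a x2 := by
    rw [o2]
    simp only [Finset.mem_insert, Finset.mem_singleton, not_or]
    exact ⟨by decide, by decide, Ne.symm n42, fun h => r5 (h ▸ m2)⟩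
  have r6' : p6 ∉ od a x2 := by
    refine notMem_of_even (i := 0) (j := p4) (m := 2) ?_ (even_inter ha x2 x3) k20 k24 k22 (Ne.symm n40) s1 s3
    rw [o3]; exact swap_mid _ _ _ _
  obtain ⟨x4, p7, t1, t2, t3, o4⟩ := exists_fourth ha (i := 1) (j := 2) (k := p4) (m := 0) (by decide)
    (Ne.symm n41) (by decide) (Ne.symm n42) (by decide) n40
  have r7 : p7 ∉ od a x1 := notMem_of_even o4 (even_inter ha x1 x4) m1' m2 hp4 (by decide) t1 t2
  have r7' : p7 ∉ od a x2 := by
    refine notMem_of_even (i := 1) (j := p4) (m := 2) ?_ (even_inter ha x2 x4) k21 k24 k22 (Ne.symm n41) t1 t3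
    rw [o4]; exact swap_mid _ _ _ _
  have k32 : (2 : Fin 8) ∈ od a x3 := by rw [o3]; simp
  have k34 : p4 ∈ od a x3 := by rw [o3]; simp
  have k36 : p6 ∈ od a x3 := by rw [o3]; simp
  have k31 : (1 : Fin 8) ∉ od a x3 := by
    rw [o3]
    simp only [Finset.mem_insert, Finset.mem_singleton, not_or]
    exact ⟨by decide, by decide, Ne.symm n41, fun h => r6 (h ▸ m1')⟩
  have r7'' : p7 ∉ od a x3 := by
    refine notMem_of_even (i := 2) (j := p4) (m := 1) ?_ (even_inter ha x3 x4) k32 k34 k31 (Ne.symm n42) t2 t3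
    rw [o4]; exact rot_three _ _ _ _
  -- all the points are distinct
  have d50 : p5 ≠ 0 := q1
  have d51 : p5 ≠ 1 := q2
  have d54 : p5 ≠ p4 := q3
  have d52 : p5 ≠ 2 := fun h => r5 (h ▸ m2)
  have d53 : p5 ≠ p3 := fun h => r5 (h ▸ m3)
  have d60 : p6 ≠ 0 := s1
  have d62 : p6 ≠ 2 := s2
  have d64 : p6 ≠ p4 := s3
  have d61 : p6 ≠ 1 := fun h => r6 (h ▸ m1')
  have d63 : p6 ≠ p3 := fun h => r6 (h ▸ m3)
  have d65 : p6 ≠ p5 := fun h => r6' (h ▸ k25)
  have d71 : p7 ≠ 1 := t1
  have d72 : p7 ≠ 2 := t2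
  have d74 : p7 ≠ p4 := t3
  have d70 : p7 ≠ 0 := fun h => r7 (h ▸ m0)
  have d73 : p7 ≠ p3 := fun h => r7 (h ▸ m3)
  have d75 : p7 ≠ p5 := fun h => r7' (h ▸ k25)
  have d76 : p7 ≠ p6 := fun h => r7'' (h ▸ k36)
  let f : Fin 8 → Fin 8 := ![0, 1, 2, p3, p4, p5, p6, p7]
  have hf : Function.Injective f := by
    have hnd : ([0, 1, 2, p3, p4, p5, p6, p7] : List (Fin 8)).Nodup := by
      simp only [List.nodup_cons, List.mem_cons, List.not_mem_nil, or_false, not_or, List.nodup_nil,
        not_false_iff, and_true]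
      exact ⟨⟨by decide, by decide, Ne.symm n1, Ne.symm n40, Ne.symm d50, Ne.symm d60, Ne.symm d70⟩,
        ⟨by decide, Ne.symm n2, Ne.symm n41, Ne.symm d51, Ne.symm d61, Ne.symm d71⟩,
        ⟨Ne.symm n3, Ne.symm n42, Ne.symm d52, Ne.symm d62, Ne.symm d72⟩,
        ⟨Ne.symm n43, Ne.symm d53, Ne.symm d63, Ne.symm d73⟩,
        ⟨Ne.symm d54, Ne.symm d64, Ne.symm d74⟩, ⟨Ne.symm d65, Ne.symm d75⟩, Ne.symm d76⟩
    exact List.nodup_ofFn.1 (show (List.ofFn f).Nodup from hnd)
  let π : Equiv.Perm (Fin 8) := Equiv.ofBijective f (Finite.injective_iff_bijective.1 hf)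
  have hb := ha.comp π
  have hod : ∀ (x : Lat) (T : Finset (Fin 8)), od a x = T.map ⟨f, hf⟩ → od (fun i => a (π i)) x = T := by
    intro x T h
    ext i
    rw [od_comp, h]
    exact Finset.mem_map' ⟨f, hf⟩
  refine ⟨π, lab_of hb (x1 := x1) (x2 := x2) (x3 := x3) (x4 := x4) (hod _ _ ?_) (hod _ _ ?_) (hod _ _ ?_)
    (hod _ _ ?_)⟩
  · rw [o1, Finset.map_insert, Finset.map_insert, Finset.map_insert, Finset.map_singleton]; rfl
  · rw [o2, Finset.map_insert, Finset.map_insert, Finset.map_insert, Finset.map_singleton]; rfl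
  · rw [o3, Finset.map_insert, Finset.map_insert, Finset.map_insert, Finset.map_singleton]; rfl
  · rw [o4, Finset.map_insert, Finset.map_insert, Finset.map_insert, Finset.map_singleton]; rfl

end Cfsg.Agent.OddHalf.D9.EEight.FrameCode
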