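import Cfsg.Agent.OddHalf.D9.EEight.FtHom
import Cfsg.Agent.OddHalf.D9.EEight.FrameCode
import Cfsg.Agent.OddHalf.D9.EEight.Counts

/-!
# Frames and `D₈` groups (helper912)

`exists_frame`: a homomorphism with `IsFr det neg IsRefl d` is `dh ha` for a labelled frame `a`.
`fr_ft`: the elements of type `2`, `6`, block of a frame group lie in a `D₈` group.
-/

set_option autoImplicit false
set_option Elab.async false

namespace Cfsg.Agent.OddHalf.D9.EEight.FrFt

open Matrix Cfsg.Agent.OddHalf.D9.EEight Cfsg.Agent.OddHalf.D9.EEight.FrameBase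
  Cfsg.Agent.OddHalf.D9.EEight.FrameHom Cfsg.Agent.OddHalf.D9.EEight.FtHom
  Cfsg.Agent.OddHalf.D9.EEight.CountD Cfsg.Agent.OddHalf.D9.EEight.Counts
  Cfsg.Agent.OddHalf.D9.EEight.FrameCode

variable {a : Fin 8 → Lat}

/-- Commuting reflections have orthogonal or proportional roots. -/
theorem orth_of_comm {r s : Lat} (hr : IsRoot r) (hs : IsRoot s)
    (h : refl hr * refl hs = refl hs * refl hr) : form r s = 0 ∨ refl hr = refl hs := by
  have h1 := congrArg (fun w => ap w s) h
  simp only [ap_mul, ap_refl] at h1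
  have hs2 : form s s = 2 := hs
  have hr2 : form r r = 2 := hr
  rw [hs2] at h1
  have h3 : s - (2 : ℤ) • s = -s := by
    rw [two_smul ℤ]; abel
  rw [h3, form_neg_left, form_sub_left, form_smul_left, hs2, form_comm s r] at h1
  -- `(r, s) r = ... `
  have h4 : (2 : ℤ) • (form r s • r) = (form r s * form r s) • s := by
    have h5 : (-s - -form r s • r) - (s - form r s • r - (2 - form r s * form r s) • s) = 0 := by
      rw [h1, sub_self]
    have h6 : (-s - -form r s • r) - (s - form r s • r - (2 - form r s * form r s) • s) =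
        (2 : ℤ) • (form r s • r) - (form r s * form r s) • s := by
      module
    rw [h6] at h5
    exact sub_eq_zero.1 h5
  by_cases h0 : form r s = 0
  · exact Or.inl h0
  right
  have h5 : (2 : ℤ) • r = form r s • s := by
    have h6 : form r s • ((2 : ℤ) • r) = form r s • (form r s • s) := by
      rw [smul_comm, h4, smul_smul]
    exact smul_right_injective _ h0 h6
  have h6 := congrArg (fun y => form y r) h5
  simp only [form_smul_left] at h6
  rw [hr2, form_comm s r] at h6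
  have h7 : (form r s - 2) * (form r s + 2) = 0 := by linear_combination -h6
  rcases mul_eq_zero.1 h7 with h8 | h8
  · have h9 : r = s := two_smul_inj (by rw [h5, show form r s = 2 by omega])
    apply ext_ap
    intro x
    rw [ap_refl, ap_refl, h9]
  · have h9 : r = -s := two_smul_inj (by
      rw [h5, show form r s = -2 by omega, smul_neg, neg_smul])
    apply ext_ap
    intro x
    rw [ap_refl, ap_refl, h9, form_neg_right, neg_smul_neg]

/-- Agreement on the single sign changes. -/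
theorem ext_sg {A : Type*} [Group A] {f g : Sg →* A} (h : ∀ i, f (sg i) = g (sg i)) : f = g := by
  have h1 : f.eqLocus g = ⊤ := by
    rw [eq_top_iff]
    intro ε _
    rw [← Finset.univ_prod_mulSingle ε]
    refine Subgroup.prod_mem _ fun i _ => ?_
    rcases Int.units_eq_one_or (ε i) with h2 | h2
    · rw [h2, Pi.mulSingle_one]; exact one_mem _
    · rw [h2, ← sg_eq]
      exact h i
  ext ε
  have h2 : ε ∈ f.eqLocus g := h1 ▸ Subgroup.mem_top ε
  exact h2

/-- The translate of a transvection that fixes exactly the plane through `i, j, k`. -/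
theorem exists_fix {i j k : Fin 8} (hij : i ≠ j) (hik : i ≠ k) (hjk : j ≠ k) :
    ∃ g, Aff g ∧ ∀ x, g x = x ↔ (x = i ∨ x = j ∨ x = k ∨ x = i ^^^ j ^^^ k) := by
  have hdec : ∀ i j k : Fin 8, i ≠ j → i ≠ k → j ≠ k → (i ^^^ j ≠ 0 ∧ i ^^^ k ≠ 0 ∧
      i ^^^ j ≠ i ^^^ k) ∧ ∀ x, tvf (i ^^^ j) (i ^^^ k) (x ^^^ i) ^^^ i = x ↔
        (x = i ∨ x = j ∨ x = k ∨ x = i ^^^ j ^^^ k) := by decide +kernel
  obtain ⟨⟨h1, h2, h3⟩, h4⟩ := hdec i j k hij hik hjk
  exact ⟨tr i * tv (i ^^^ j) (i ^^^ k) * tr i,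
    aff_mul (aff_mul (aff_tr i) (aff_tv _ _ h1 h2 h3)) (aff_tr i), h4⟩

/-- Permutations that preserve the code are affine. -/
theorem aff_of_autCode {σ : Equiv.Perm (Fin 8)} (h : AutCode σ) : Aff σ := by
  intro i j k
  have h1 := h _ (sg_code (σ i) (σ j) (σ k))
  rw [map_mul, map_mul, map_mul] at h1
  have h2 : ∀ m, pm σ (sg m) = sg (σ⁻¹ m) := fun m => by
    have := pm_sg σ⁻¹ m
    rwa [inv_inv] at this
  have h3 : ∀ m, σ⁻¹ (σ m) = m := σ.symm_apply_apply
  rw [h2, h2, h2, h2, h3, h3, h3] at h1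
  have h4 := sg_code_iff h1
  rw [← h4]
  exact σ.apply_symm_apply _

theorem autCode_iff {σ : Equiv.Perm (Fin 8)} : AutCode σ ↔ Aff σ :=
  ⟨aff_of_autCode, autCode_of_aff⟩

/-- A frame with the property `IsFr` is labelled. -/
theorem lab_of_isFr (ha : Frame a) (hd : IsFr det neg IsRefl (dh ha)) : Lab a := by
  obtain ⟨π, hl⟩ := exists_lab ha
  have hb : Frame (fun i => a (π i)) := ha.comp π
  -- conjugates by `π` of affine maps are affine
  have key : ∀ g, Aff g → Aff (π * g * π⁻¹) := by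
    intro g hg
    obtain ⟨w, hw⟩ := exists_perm hb hl (autCode_of_aff hg)
    have h1 : ∀ i, ap w⁻¹ (a i) = (((1 : Sg) i : ℤˣ) : ℤ) • a ((π * g * π⁻¹) i) := by
      intro i
      have h2 : a i = a (π (π⁻¹ i)) := by rw [show π (π⁻¹ i) = i from π.apply_symm_apply i]
      have h3 : ap w (a (π (g (π⁻¹ i)))) = a (π (π⁻¹ i)) := hw (π⁻¹ i)
      rw [← h2] at h3
      rw [← h3, ap_inv_ap, Pi.one_apply, Units.val_one, one_smul]
      rfl
    have h2 := conj_eq ha h1
    obtain ⟨σ, hσ, h3⟩ := hd.nrm w (fun ε hε => ⟨pm (π * g * π⁻¹) ε, by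
      rw [mem_Ev, prd_pm]; exact hε, h2 ε⟩)
    have h4 : σ = π * g * π⁻¹ := by
      ext1 i
      have h5 : ∀ ε : Sg, ε (σ i) = ε ((π * g * π⁻¹) i) := by
        intro ε
        have h6 := inj ha ((h3 ε).symm.trans (h2 ε))
        exact congrFun h6 i
      by_contra hne
      have h6 := h5 (sg (σ i))
      simp only [sg, if_pos] at h6
      rw [if_neg (Ne.symm hne)] at h6
      exact absurd h6 (by decide)
    rw [← h4]
    exact aff_of_autCode hσ
  have hπ : Aff π := by
    intro i j k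
    have htriv : ∀ x y : Fin 8, x ^^^ x ^^^ y = y ∧ x ^^^ y ^^^ x = y ∧ y ^^^ x ^^^ x = y := by
      decide +kernel
    by_cases hij : i = j
    · rw [hij, (htriv _ _).1, (htriv _ _).1]
    by_cases hik : i = k
    · rw [hik, (htriv _ _).2.1, (htriv _ _).2.1]
    by_cases hjk : j = k
    · rw [hjk, (htriv _ _).2.2, (htriv _ _).2.2]
    obtain ⟨g, hg, hfix⟩ := exists_fix hij hik hjk
    have h1 := key g hg
    have hπi : ∀ x, (π * g * π⁻¹) x = x ↔ g (π⁻¹ x) = π⁻¹ x := by
      intro x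
      rw [Equiv.Perm.mul_apply, Equiv.Perm.mul_apply]
      constructor
      · intro h
        have h' : π⁻¹ (π (g (π⁻¹ x))) = π⁻¹ x := congrArg (fun y => π⁻¹ y) h
        rwa [show π⁻¹ (π (g (π⁻¹ x))) = g (π⁻¹ x) from π.symm_apply_apply _] at h'
      · intro h
        rw [h]
        exact π.apply_symm_apply x
    have hs : ∀ m, π⁻¹ (π m) = m := π.symm_apply_apply
    have fi : (π * g * π⁻¹) (π i) = π i := (hπi _).2 (by rw [hs]; exact (hfix i).2 (Or.inl rfl))
    have fj : (π * g * π⁻¹) (π j) = π j :=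
      (hπi _).2 (by rw [hs]; exact (hfix j).2 (Or.inr (Or.inl rfl)))
    have fk : (π * g * π⁻¹) (π k) = π k :=
      (hπi _).2 (by rw [hs]; exact (hfix k).2 (Or.inr (Or.inr (Or.inl rfl))))
    have h2 := h1 (π i) (π j) (π k)
    rw [fi, fj, fk] at h2
    have h3 := (hfix _).1 ((hπi _).1 h2)
    have hne : ∀ x y z : Fin 8, x ≠ y → x ≠ z → y ≠ z → x ^^^ y ^^^ z ≠ x ∧ x ^^^ y ^^^ z ≠ y ∧
        x ^^^ y ^^^ z ≠ z := by decide +kernel
    have h4 := hne (π i) (π j) (π k) (fun h => hij (π.injective h)) (fun h => hik (π.injective h))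
      (fun h => hjk (π.injective h))
    have h5 : ∀ m, π⁻¹ (π i ^^^ π j ^^^ π k) = m → π i ^^^ π j ^^^ π k = π m := by
      intro m hm
      rw [← hm]
      exact (π.apply_symm_apply _).symm
    rcases h3 with h | h | h | h
    · exact absurd (h5 _ h) h4.1
    · exact absurd (h5 _ h) h4.2.1
    · exact absurd (h5 _ h) h4.2.2
    · exact (h5 _ h).symm
  intro ε
  have h1 : ∀ x, sgn (fun i => a (π i)) x = pm π (sgn a x) := fun x => rfl
  constructor
  · intro hε
    obtain ⟨x, hx⟩ := (hl _).1 (autCode_of_aff hπ ε hε)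
    refine ⟨x, ?_⟩
    rw [h1] at hx
    exact (pm π).injective hx
  · rintro ⟨x, rfl⟩
    have h2 : IsCode (pm π (sgn a x)) := (hl _).2 ⟨x, h1 x⟩
    have h3 := autCode_of_aff (aff_inv hπ) _ h2
    rwa [pm_inv_pm] at h3

/-- **A homomorphism with the property `IsFr` comes from a labelled frame.** -/
theorem exists_frame {d : Sg →* W} (hd : IsFr det neg IsRefl d) :
    ∃ (a : Fin 8 → Lat) (ha : Frame a), Lab a ∧ d = dh ha := by
  choose a har had using hd.refl
  have hne : ∀ i j, i ≠ j → sg i ≠ sg j := by decide +kernel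
  have ha : Frame a := by
    refine ⟨har, fun i j hij => ?_⟩
    rcases orth_of_comm (har i) (har j) (by
      rw [← had i, ← had j, ← map_mul, ← map_mul, mul_comm]) with h | h
    · exact h
    · exfalso
      rw [← had i, ← had j] at h
      exact hne i j hij (hd.inj h)
  have h1 : d = dh ha := ext_sg fun i => by rw [had i, dh_sg]
  refine ⟨a, ha, ?_, h1⟩
  subst h1
  exact lab_of_isFr ha hd

/-! ### The `D₈` group of a parallel class of pairs -/

/-- Coordinates of the norm `4` vectors. -/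
def cf (t m i : Fin 8) : ℤ :=
  if m < m ^^^ t then (if i = m ∨ i = m ^^^ t then 1 else 0)
  else (if i = m ^^^ t then 1 else if i = m then -1 else 0)

theorem cf_gram : ∀ t : Fin 8, t ≠ 0 → ∀ m m' : Fin 8,
    ∑ i, cf t m i * cf t m' i = if m = m' then 2 else 0 := by decide +kernel

/-- Parity of the coordinates. -/
def par (c : ℤ) : ℤˣ := if c % 2 = 0 then 1 else -1

theorem cf_code : ∀ t : Fin 8, t ≠ 0 → ∀ m m' : Fin 8,
    IsCode (fun i => par (cf t m i - cf t m' i)) := by decide +kernel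

theorem cf_supp : ∀ t m i : Fin 8, cf t m i ≠ 0 → i = m ∨ i = m ^^^ t := by decide +kernel

theorem form_lin (ha : Frame a) (c e : Fin 8 → ℤ) :
    form (∑ i, c i • a i) (∑ i, e i • a i) = 2 * ∑ i, c i * e i := by
  rw [form_sum_right, Finset.mul_sum]
  refine Finset.sum_congr rfl fun j _ => ?_
  rw [form_smul_right, ha.form_sum]; ring

theorem exists_two (ha : Frame a) (hl : Lab a) (e : Fin 8 → ℤ) (he : IsCode (fun i => par (e i))) :
    ∃ y, ∑ i, e i • a i = (2 : ℤ) • y := by
  obtain ⟨x, hx⟩ := (hl _).1 he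
  have h1 : ∀ i, ∃ k, e i - form x (a i) = 2 * k := by
    intro i
    have h2 := congrFun hx i
    rw [sgn_apply] at h2
    unfold par at h2
    split_ifs at h2 with h3
    · rw [Int.negOnePow_eq_one_iff] at h2
      obtain ⟨k, hk⟩ := h2
      exact ⟨e i / 2 - k, by omega⟩
    · rw [Int.negOnePow_eq_neg_one_iff] at h2
      obtain ⟨k, hk⟩ := h2
      exact ⟨e i / 2 - k, by omega⟩
  choose k hk using h1
  refine ⟨x + ∑ i, k i • a i, ?_⟩
  rw [smul_add, ha.two_smul x, Finset.smul_sum, ← Finset.sum_add_distrib]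
  refine Finset.sum_congr rfl fun i _ => ?_
  rw [smul_smul, ← add_smul]
  congr 1
  linarith [hk i]

theorem fr4 (ha : Frame a) (hl : Lab a) {t : Fin 8} (ht : t ≠ 0) :
    Fr4 (fun m => ∑ i, cf t m i • a i) where
  gram m m' := by
    rw [form_lin ha, cf_gram t ht]
    split_ifs <;> norm_num
  cong m m' := by
    obtain ⟨y, hy⟩ := exists_two ha hl (fun i => cf t m i - cf t m' i) (cf_code t ht m m')
    refine ⟨y, ?_⟩
    rw [← hy, ← Finset.sum_sub_distrib]
    exact Finset.sum_congr rfl fun i _ => by rw [sub_smul]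

theorem ap_sum (w : W) (f : Fin 8 → Lat) : ap w (∑ i, f i) = ∑ i, ap w (f i) := by
  rw [Fin.sum_univ_eight, Fin.sum_univ_eight]
  simp only [ap_add]

theorem dh_eq_fh (ha : Frame a) (hl : Lab a) {t : Fin 8} (ht : t ≠ 0) {ε : Sg} (hε : ε ∈ Ev)
    (h : ∀ k, ε (k ^^^ t) = ε k) : dh ha ε = fh (fr4 ha hl ht) ⟨ε, hε⟩ := by
  apply eq_fh
  intro j
  rw [ap_sum, Finset.smul_sum]
  refine Finset.sum_congr rfl fun i _ => ?_
  rw [ap_smul, ap_dh]
  by_cases hc : cf t j i = 0
  · rw [hc, zero_smul, zero_smul, smul_zero]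
  · have h1 : ε i = ε j := by
      rcases cf_supp t j i hc with h2 | h2
      · rw [h2]
      · rw [h2, h]
    rw [h1, smul_comm]

theorem exists_t : ∀ ε : Sg, ε ∈ Ev → (wt ε = 2 ∨ wt ε = 6 ∨ IsCode ε) →
    ∃ t : Fin 8, t ≠ 0 ∧ ∀ k, ε (k ^^^ t) = ε k := by decide +kernel

/-- The elements of type `2`, `6`, block of a frame lie in a `D₈` group. -/
theorem fr_ft (d : Sg →* W) (hd : IsFr det neg IsRefl d) (ε : Sg) (hε : ε ∈ Ev)
    (h : wt ε = 2 ∨ wt ε = 6 ∨ IsCode ε) :
    ∃ f : Ev →* W, IsFt det neg f ∧ d ε ∈ f.range := by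
  obtain ⟨a, ha, hl, rfl⟩ := exists_frame hd
  obtain ⟨t, ht, h1⟩ := exists_t ε hε h
  exact ⟨fh (fr4 ha hl ht), isFt _, ⟨ε, hε⟩, (dh_eq_fh ha hl ht hε h1).symm⟩

end Cfsg.Agent.OddHalf.D9.EEight.FrFt
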