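import Cfsg.Agent.OddHalf.D9.EEight.Extend

/-!
# No element of `W(E₈)` permutes 5 orthogonal root lines in a 5-cycle (helper528)

`rf_five` = field (W9) of `EF`. Five members of a labelled frame contain a block; its half sum `s` satisfies
`2 (s, w s) = ∑ (s, b t) (w s, b t)` = sum of three signs, odd.
-/

set_option autoImplicit false

namespace Cfsg.Agent.OddHalf.D9.EEight.RfFive

open Matrix Cfsg.Agent.OddHalf.D9.EEight Cfsg.Agent.OddHalf.D9.EEight.FrameBase
  Cfsg.Agent.OddHalf.D9.EEight.FrameHom Cfsg.Agent.OddHalf.D9.EEight.FrameCode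
  Cfsg.Agent.OddHalf.D9.EEight.Move Cfsg.Agent.OddHalf.D9.EEight.InvRoot
  Cfsg.Agent.OddHalf.D9.EEight.Extend

theorem conj_refl {r : Lat} (hr : IsRoot r) (w : W) : w * refl hr * w⁻¹ = refl (isRoot_ap hr w) := by
  apply ext_ap
  intro x
  rw [ap_mul, ap_mul, ap_refl, ap_refl, ap_sub, ap_ap_inv, ap_smul, ap_form_comp]

theorem refl_congr {r s : Lat} (hr : IsRoot r) (hs : IsRoot s) (h : s = r ∨ s = -r) : refl hs = refl hr := by
  apply ext_ap
  intro x
  rw [ap_refl, ap_refl]
  rcases h with h | h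
  · rw [h]
  · rw [h, form_neg_right, smul_neg, neg_smul, neg_neg]

theorem comm_refl {r s : Lat} (hr : IsRoot r) (hs : IsRoot s)
    (h : refl hs * refl hr = refl hr * refl hs) : form r s = 0 ∨ s = r ∨ s = -r := by
  have h1 : ap (refl hs * refl hr) r = ap (refl hr * refl hs) r := by rw [h]
  rw [ap_mul, ap_mul, ap_refl_self, ap_refl hs (-r), ap_refl hs r, ap_refl hr] at h1
  have h2 := congrArg (fun x => form x s) h1
  have hss : form s s = 2 := hs
  have hrr : form r r = 2 := hr
  simp only [form_sub_left, form_smul_left, form_neg_left, hss, hrr, form_comm s r] at h2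
  set c := form r s with hc
  have h3 : c * (c * c - 4) = 0 := by linear_combination -h2
  rcases mul_eq_zero.1 h3 with h4 | h4
  · exact Or.inl h4
  · right
    have h5 : (c - 2) * (c + 2) = 0 := by linear_combination h4
    rcases mul_eq_zero.1 h5 with h6 | h6
    · left
      exact (eq_of_form hr hs (by rw [← hc]; omega)).symm
    · right
      exact eq_neg_of_form hr hs (by rw [← hc]; omega)

theorem isCode_neg {ε : Sg} (h : IsCode ε) : IsCode (-ε) := by
  obtain ⟨h1, h2, h3, h4⟩ := h
  refine ⟨?_, ?_, ?_, ?_⟩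
  · rw [prd_apply, Fin.prod_univ_eight] at h1 ⊢
    simpa using h1
  · simpa using h2
  · simpa using h3
  · simpa using h4

/-- five members of a labelled frame contain a block -/
theorem exists_five {a : Fin 8 → Lat} (ha : Frame a) (hl : Lab a) {p : Fin 5 → Fin 8} (hp : Function.Injective p) :
    ∃ m : Fin 5, ∃ y : Lat, (∀ t, form y (a (p t)) = if t = m then 0 else 1) ∧
      ∀ i, i ∉ Finset.univ.image p → form y (a i) = 0 := by
  classical
  have hc : (Finset.univ.image p)ᶜ.card = 3 := by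
    rw [Finset.card_compl, Finset.card_image_of_injective _ hp]
    simp
  obtain ⟨q0, q1, q2, h01, h02, h12, hq⟩ := Finset.card_eq_three.1 hc
  have hpq : ∀ t, p t ≠ q0 ∧ p t ≠ q1 ∧ p t ≠ q2 := by
    intro t
    have h1 : p t ∉ (Finset.univ.image p)ᶜ := by
      rw [Finset.mem_compl, not_not]
      exact Finset.mem_image_of_mem p (Finset.mem_univ t)
    rw [hq] at h1
    simp only [Finset.mem_insert, Finset.mem_singleton, not_or] at h1
    exact h1
  obtain ⟨x, l, n0, n1, n2, hx⟩ := exists_fourth ha (m := p 0) h01 h02 (Ne.symm (hpq 0).1) h12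
    (Ne.symm (hpq 0).2.1) (Ne.symm (hpq 0).2.2)
  obtain ⟨m, hm⟩ : ∃ m, p m = l := by
    have h1 : l ∉ (Finset.univ.image p)ᶜ := by
      rw [hq]
      simp [n0, n1, n2]
    rw [Finset.mem_compl, not_not] at h1
    obtain ⟨m, _, hm⟩ := Finset.mem_image.1 h1
    exact ⟨m, hm⟩
  obtain ⟨y, hy⟩ := exists_code ha hl (isCode_neg ((hl _).2 ⟨x, rfl⟩))
  have hy' : ∀ i, form y (a i) = if i ∈ od a x then 0 else 1 := by
    intro i
    rw [hy i, Pi.neg_apply, sgn_eq]
    by_cases h : i ∈ od a x
    · rw [if_pos h, if_pos h, if_neg (by decide)]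
    · rw [if_neg h, if_neg h, if_pos rfl]
  refine ⟨m, y, fun t => ?_, fun i hi => ?_⟩
  · rw [hy', hx]
    by_cases h : t = m
    · rw [h, hm, if_pos (by simp), if_pos rfl]
    · rw [if_neg, if_neg h]
      simp only [Finset.mem_insert, Finset.mem_singleton, not_or]
      exact ⟨(hpq t).1, (hpq t).2.1, (hpq t).2.2, fun h' => h (hp (by rw [h', hm]))⟩
  · rw [hy', if_pos]
    rw [hx]
    rw [← Finset.mem_compl, hq] at hi
    simp only [Finset.mem_insert, Finset.mem_singleton] at hi ⊢
    tauto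

/-- **(W9)** -/
theorem rf_five (ρ w : W) (hρ : IsRefl ρ)
    (hj : ∀ j : ℕ, (w ^ j * ρ * (w ^ j)⁻¹) * ρ = ρ * (w ^ j * ρ * (w ^ j)⁻¹))
    (h5 : w ^ 5 * ρ = ρ * w ^ 5) : w * ρ = ρ * w := by
  obtain ⟨r, hr, rfl⟩ := hρ
  let E : ℕ → Prop := fun j => ap (w ^ j) r = r ∨ ap (w ^ j) r = -r
  have hE : ∀ j, form r (ap (w ^ j) r) = 0 ∨ E j := by
    intro j
    have h1 := hj j
    rw [conj_refl] at h1
    exact comm_refl hr (isRoot_ap hr _) h1
  have hE5 : E 5 := by
    rcases hE 5 with h | h
    · exfalso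
      have h1 : w ^ 5 * refl hr * (w ^ 5)⁻¹ = refl hr := by rw [h5, mul_inv_cancel_right]
      rw [conj_refl] at h1
      have h2 : ap (refl (isRoot_ap hr (w ^ 5))) r = ap (refl hr) r := by rw [h1]
      rw [ap_refl_self, ap_refl_orth (isRoot_ap hr _) h] at h2
      have h3 := congrArg (fun x => form x r) h2
      have hrr : form r r = 2 := hr
      simp only [form_neg_left, hrr] at h3
      omega
    · exact h
  have hadd : ∀ i j, E i → E j → E (i + j) := by
    intro i j hi hj
    show ap (w ^ (i + j)) r = r ∨ ap (w ^ (i + j)) r = -r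
    rw [pow_add, ap_mul]
    rcases hj with h | h <;> rw [h]
    · exact hi
    · rw [ap_neg]
      rcases hi with h' | h' <;> rw [h']
      · right; rfl
      · left; rw [neg_neg]
  have hsub : ∀ i j, E (i + j) → E j → E i := by
    intro i j hi hj
    have h1 : ap (w ^ (i + j)) r = r ∨ ap (w ^ (i + j)) r = -r := hi
    rw [pow_add, ap_mul] at h1
    rcases hj with h | h <;> rw [h] at h1
    · exact h1
    · rw [ap_neg, neg_inj] at h1
      rcases h1 with h' | h'
      · right; exact neg_eq_iff_eq_neg.1 h'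
      · left; exact h'
  have hfin : E 1 → w * refl hr = refl hr * w := by
    intro h
    have h1 := conj_refl hr w
    rw [refl_congr hr (isRoot_ap hr w) (by
      have h2 : ap (w ^ 1) r = r ∨ ap (w ^ 1) r = -r := h
      rwa [pow_one] at h2)] at h1
    rw [mul_inv_eq_iff_eq_mul] at h1
    exact h1
  by_cases h1 : E 1
  · exact hfin h1
  exfalso
  have h2 : ¬ E 2 := fun h => h1 (hsub 1 5 (hadd 2 4 h (hadd 2 2 h h)) hE5)
  have h3 : ¬ E 3 := fun h => h1 (hsub 1 5 (hadd 3 3 h h) hE5)
  have h4 : ¬ E 4 := fun h => h1 (by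
    have h8 := hadd 4 4 h h
    have h16 : E 16 := hadd 8 8 h8 h8
    exact hsub 1 5 (hsub 6 5 (hsub 11 5 h16 hE5) hE5) hE5)
  have hz : ∀ j, 1 ≤ j → j ≤ 4 → form r (ap (w ^ j) r) = 0 := by
    intro j hj1 hj4
    rcases hE j with h | h
    · exact h
    · exfalso
      rcases (show j = 1 ∨ j = 2 ∨ j = 3 ∨ j = 4 by omega) with rfl | rfl | rfl | rfl
      · exact h1 h
      · exact h2 h
      · exact h3 h
      · exact h4 h
  let b : Fin 5 → Lat := fun t => ap (w ^ (t : ℕ)) r
  have hb : Orth b := by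
    refine ⟨fun i => isRoot_ap hr _, ?_⟩
    have key : ∀ i j : Fin 5, i < j → form (b i) (b j) = 0 := by
      intro i j hij
      have e : (j : ℕ) = i + (j - i : ℕ) := by
        have : (i : ℕ) < j := hij
        omega
      show form (ap (w ^ (i : ℕ)) r) (ap (w ^ (j : ℕ)) r) = 0
      rw [e, pow_add, ap_mul, form_ap]
      have h6 : (i : ℕ) < j := hij
      have h7 := j.isLt
      exact hz _ (by omega) (by omega)
    intro i j hij
    rcases lt_or_gt_of_ne hij with h | h
    · exact key i j h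
    · rw [form_comm]; exact key j i h
  obtain ⟨a', ha', -, hext⟩ := extend (w := 1) (one_mul 1) 3 5 rfl b hb (fun i => Or.inl (ap_one _))
  obtain ⟨π, hπ⟩ := exists_lab ha'
  have ha := ha'.comp π
  set a : Fin 8 → Lat := fun i => a' (π i) with hadef
  have hp : ∀ t, ∃ i, a i = b t := by
    intro t
    obtain ⟨j, hj⟩ := hext t
    exact ⟨π.symm j, by rw [hadef]; simp [hj]⟩
  choose p hp using hp
  have hpinj : Function.Injective p := by
    intro s t hst
    by_contra hne
    have h6 := hb.orth s t hne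
    rw [← hp s, ← hp t, hst, ha.root] at h6
    omega
  obtain ⟨m, y, hy, hy0⟩ := exists_five ha hπ hpinj
  -- products of `w y`
  have hw : ∀ t : Fin 5, ∀ t' : Fin 5, (t' : ℕ) = t + 1 → form (ap w y) (b t') = form y (b t) := by
    intro t t' htt
    show form (ap w y) (ap (w ^ (t' : ℕ)) r) = form y (ap (w ^ (t : ℕ)) r)
    rw [htt, pow_succ', ap_mul, form_ap]
  have hw0 : form (ap w y) (b 0) = form y (b 4) ∨ form (ap w y) (b 0) = -form y (b 4) := by
    have h6 : b 0 = r := by
      show ap (w ^ 0) r = r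
      rw [pow_zero, ap_one]
    have h7 : ap w (b 4) = ap (w ^ 5) r := by
      show ap w (ap (w ^ 4) r) = _
      rw [← ap_mul, ← pow_succ']
    have h8 : form (ap w y) (ap w (b 4)) = form y (b 4) := form_ap w y (b 4)
    have h9 : ap (w ^ 5) r = r ∨ ap (w ^ 5) r = -r := hE5
    rw [h7] at h8
    rcases h9 with h | h
    · left; rw [h6, ← h8, h]
    · right; rw [h6, ← h8, h, form_neg_right, neg_neg]
  have hsum : ∑ t, form y (b t) * form (ap w y) (b t) = 2 * form y (ap w y) := by
    rw [← ha.sum_form]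
    have e1 : ∑ i, form y (a i) * form (ap w y) (a i) =
        ∑ i ∈ Finset.univ.image p, form y (a i) * form (ap w y) (a i) := by
      symm
      apply Finset.sum_subset (Finset.subset_univ _)
      intro i _ hi
      rw [hy0 i hi, zero_mul]
    rw [e1, Finset.sum_image (fun s _ t _ h => hpinj h)]
    exact Finset.sum_congr rfl fun t _ => by rw [hp t]
  have hv : ∀ t, form y (b t) = if t = m then 0 else 1 := fun t => by rw [← hp t]; exact hy t
  rw [Fin.sum_univ_five, hw 0 1 rfl, hw 1 2 rfl, hw 2 3 rfl, hw 3 4 rfl] at hsum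
  have hv4 := hv 4
  rw [hv 0, hv 1, hv 2, hv 3, hv 4] at hsum
  rw [hv4] at hw0
  generalize form (ap w y) (b 0) = v0 at hsum hw0
  fin_cases m
  · simp at hsum hw0; omega
  · simp at hsum hw0; omega
  · simp at hsum hw0; omega
  · simp at hsum hw0; omega
  · simp at hsum hw0; omega

end Cfsg.Agent.OddHalf.D9.EEight.RfFive
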