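import Cfsg.Agent.OddHalf.D9.EEight.AutC
import Cfsg.Agent.OddHalf.D9.EEight.FrFt
import Cfsg.Agent.OddHalf.D9.EEight.RfFive

/-!
# Automorphisms of `K₀ = det.ker`: frames and pairs of orthogonal roots
-/

set_option autoImplicit false

namespace Cfsg.Agent.OddHalf.D9.EEight.AutD

open Equiv Subgroup Cfsg.Agent.OddHalf.D9.EEight.Counts Cfsg.Agent.OddHalf.D9.EEight.FrameBase
  Cfsg.Agent.OddHalf.D9.EEight.FrameHom Cfsg.Agent.OddHalf.D9.EEight.FrameCode
  Cfsg.Agent.OddHalf.D9.EEight.Move

/-- the roots of a frame are roots -/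
theorem fr {a : Fin 8 → Lat} (ha : Frame a) (i : Fin 8) : IsRoot (a i) := ha.root i

theorem conj_dh {a b : Fin 8 → Lat} (ha : Frame a) (hb : Frame b) {w : W}
    (h : ∀ i, ap w (a i) = b i) (ε : Sg) : w * dh ha ε * w⁻¹ = dh hb ε := by
  apply eq_dh
  intro j
  rw [ap_mul, ap_mul, ← h j, ap_inv_ap, ap_dh, ap_smul]

/-- labelled frames are conjugate -/
theorem exists_frame_conj {a b : Fin 8 → Lat} (ha : Frame a) (hla : Lab a) (hb : Frame b)
    (hlb : Lab b) : ∃ w : W, ∀ i, ap w (a i) = b i := by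
  apply exists_map ha hb
  intro x
  obtain ⟨y, hy⟩ := (hlb _).1 ((hla _).2 ⟨x, rfl⟩)
  refine ⟨y, fun i => ?_⟩
  rw [even_sub_iff]
  exact (congrFun hy i).symm

theorem det_ev {a : Fin 8 → Lat} (ha : Frame a) {ε : Sg} (hε : ε ∈ Ev) : dh ha ε ∈ det.ker := by
  rw [MonoidHom.mem_ker, det_dh]
  exact hε

theorem det_two {r s : Lat} (hr : IsRoot r) (hs : IsRoot s) : refl hr * refl hs ∈ det.ker := by
  rw [MonoidHom.mem_ker, map_mul, det_refl, det_refl]
  decide

/-- **Step D** -/
theorem exists_conj (E : EF det neg IsRefl) (α : MulAut det.ker) {a : Fin 8 → Lat} (ha : Frame a)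
    (hl : Lab a) : ∃ w : W, ∀ ε (hε : ε ∈ Ev), (α ⟨dh ha ε, det_ev ha hε⟩ : W) = w * dh ha ε * w⁻¹ := by
  obtain ⟨d', hd', k, hk, h⟩ := frame_map E α (isFr ha hl)
  obtain ⟨b, hb, hlb, rfl⟩ := FrFt.exists_frame hd'
  obtain ⟨w, hw⟩ := exists_frame_conj ha hl hb hlb
  refine ⟨k * w, fun ε hε => ?_⟩
  have h1 := h ⟨ε, hε⟩
  refine h1.trans ?_
  have h2 := conj_dh ha hb hw ε
  show k * dh hb ε * k⁻¹ = _
  rw [← h2]
  group

/-- the image of a product of two orthogonal reflections -/
theorem pair_map (E : EF det neg IsRefl) (α : MulAut det.ker) {r s : Lat} (hr : IsRoot r)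
    (hs : IsRoot s) (hrs : form r s = 0) :
    ∃ (r' s' : Lat) (hr' : IsRoot r') (hs' : IsRoot s'), form r' s' = 0 ∧
      (α ⟨refl hr * refl hs, det_two hr hs⟩ : W) = refl hr' * refl hs' := by
  obtain ⟨a, ha, hl, rfl, rfl⟩ := InvRoot.exists_frame_pair hr hs hrs
  obtain ⟨w, hw⟩ := exists_conj E α ha hl
  have hε : (sg 0 * sg 1 : Sg) ∈ Ev := by decide
  have h1 := hw _ hε
  have e1 : dh ha (sg 0 * sg 1) = refl hr * refl hs := by
    rw [map_mul, dh_sg, dh_sg]
  have e2 : (⟨dh ha (sg 0 * sg 1), det_ev ha hε⟩ : det.ker) = ⟨refl hr * refl hs, det_two hr hs⟩ :=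
    Subtype.ext e1
  rw [e2, e1] at h1
  refine ⟨ap w (a 0), ap w (a 1), isRoot_ap hr w, isRoot_ap hs w, ?_, ?_⟩
  · rw [form_ap, hrs]
  · rw [h1, ← RfFive.conj_refl hr w, ← RfFive.conj_refl hs w]
    group

/-- the roots inverted by a product of two orthogonal reflections -/
theorem neg_pair {r s v : Lat} (hr : IsRoot r) (hs : IsRoot s) (hrs : form r s = 0) (hv : IsRoot v)
    (h : ap (refl hr * refl hs) v = -v) : (v = r ∨ v = -r) ∨ (v = s ∨ v = -s) := by
  have hr2 : form r r = 2 := hr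
  have hs2 : form s s = 2 := hs
  have hv2 : form v v = 2 := hv
  rw [ap_mul, ap_refl, ap_refl, form_sub_left, form_smul_left, form_comm s r, hrs, mul_zero,
    sub_zero] at h
  have h1 := congrArg (fun x => form x v) h
  simp only [form_sub_left, form_smul_left, form_neg_left, form_comm s v, form_comm r v, hv2] at h1
  obtain ⟨b1, b2⟩ := root_bound hv hr
  obtain ⟨b3, b4⟩ := root_bound hv hs
  have h2 : form v r * form v r + form v s * form v s = 4 := by linarith
  have h3 : form v r = 2 ∨ form v r = -2 ∨ form v s = 2 ∨ form v s = -2 := by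
    generalize form v r = x at *
    generalize form v s = y at *
    clear h h1
    interval_cases x <;> interval_cases y <;> simp_all
  rcases h3 with h3 | h3 | h3 | h3
  · left; left; exact eq_of_form hv hr h3
  · left; right
    rw [eq_neg_of_form hv hr h3, neg_neg]
  · right; left; exact eq_of_form hv hs h3
  · right; right
    rw [eq_neg_of_form hv hs h3, neg_neg]

/-! ### Roots outside a frame -/

/-- A root that is not in the frame. -/
structure NF (a : Fin 8 → Lat) (b : Lat) : Prop where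
  root : IsRoot b
  ne : ∀ i, form b (a i) ≠ 2 ∧ form b (a i) ≠ -2

variable {a : Fin 8 → Lat}

theorem root_cases (ha : Frame a) {b : Lat} (hb : IsRoot b) : NF a b ∨ ∃ i, b = a i ∨ b = -a i := by
  by_cases h : ∀ i, form b (a i) ≠ 2 ∧ form b (a i) ≠ -2
  · exact Or.inl ⟨hb, h⟩
  · right
    push Not at h
    obtain ⟨i, hi⟩ := h
    refine ⟨i, ?_⟩
    by_cases h2 : form b (a i) = 2
    · left; exact eq_of_form hb (ha.root i) h2
    · right
      rw [eq_neg_of_form hb (ha.root i) (hi h2), neg_neg]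

theorem NF.val (ha : Frame a) {b : Lat} (hb : NF a b) (i : Fin 8) :
    form b (a i) = 0 ∨ form b (a i) = 1 ∨ form b (a i) = -1 := by
  obtain ⟨h1, h2⟩ := root_bound hb.root (ha.root i)
  obtain ⟨h3, h4⟩ := hb.ne i
  omega

theorem NF.card (ha : Frame a) {b : Lat} (hb : NF a b) :
    (Finset.univ.filter (fun i => form b (a i) ≠ 0)).card = 4 := by
  have h1 := ha.sum_form b b
  have h2 : form b b = 2 := hb.root
  rw [h2] at h1
  have h3 : (((Finset.univ.filter (fun i => form b (a i) ≠ 0)).card : ℕ) : ℤ) =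
      ∑ i, form b (a i) * form b (a i) := by
    rw [Finset.card_filter, Nat.cast_sum]
    apply Finset.sum_congr rfl
    intro i _
    rcases hb.val ha i with h | h | h <;> rw [h] <;> simp
  rw [h1] at h3
  exact_mod_cast h3

theorem NF.card' (ha : Frame a) {b : Lat} (hb : NF a b) :
    (Finset.univ.filter (fun i => form b (a i) = 0)).card = 4 := by
  have h1 := hb.card ha
  have h2 := Finset.card_filter_add_card_filter_not (s := (Finset.univ : Finset (Fin 8)))
    (fun i => form b (a i) = 0)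
  simp only [Finset.card_univ, Fintype.card_fin] at h2
  have h3 : (Finset.univ.filter (fun i => ¬ form b (a i) = 0)).card = 4 := h1
  omega

/-- three other indices -/
theorem exists_others {S : Finset (Fin 8)} (hS : S.card = 4) {j : Fin 8} (hj : j ∈ S) :
    ∃ k l, k ∈ S ∧ l ∈ S ∧ k ≠ j ∧ l ≠ j ∧ k ≠ l := by
  have h1 : (S.erase j).card = 3 := by rw [Finset.card_erase_of_mem hj, hS]
  obtain ⟨k, l, m, hkl, -, -, h⟩ := Finset.card_eq_three.1 h1
  have hk : k ∈ S.erase j := by rw [h]; simp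
  have hl : l ∈ S.erase j := by rw [h]; simp
  rw [Finset.mem_erase] at hk hl
  exact ⟨k, l, hk.2, hl.2, hk.1, hl.1, hkl⟩

theorem mem_zero {b : Lat} {j : Fin 8} :
    j ∈ Finset.univ.filter (fun i => form b (a i) = 0) ↔ form b (a j) = 0 := by
  rw [Finset.mem_filter]
  exact ⟨fun h => h.2, fun h => ⟨Finset.mem_univ _, h⟩⟩

theorem dh_pr (ha : Frame a) (j k : Fin 8) :
    dh ha (pr j k) = refl (fr ha j) * refl (fr ha k) := by
  unfold pr
  rw [map_mul, dh_sg, dh_sg]

theorem pr_val {j k : Fin 8} (hjk : j ≠ k) : pr j k j = -1 ∧ pr j k k = -1 ∧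
    ∀ i, i ≠ j → i ≠ k → pr j k i = 1 := by
  revert j k
  decide

/-- a vector is fixed by the sign changes outside its support -/
theorem dh_fix (ha : Frame a) {ε : Sg} {b : Lat} (h : ∀ i, form b (a i) ≠ 0 → ε i = 1) :
    ap (dh ha ε) b = b := by
  apply ha.ext
  intro i
  rw [form_dh]
  by_cases h1 : form b (a i) = 0
  · rw [h1, mul_zero]
  · rw [h i h1, Units.val_one, one_mul]

theorem refl_conj_eq {r : Lat} (hr : IsRoot r) {w : W} (h : ap w r = r ∨ ap w r = -r) :
    w * refl hr * w⁻¹ = refl hr := by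
  rw [RfFive.conj_refl hr w]
  exact RfFive.refl_congr hr _ h

theorem comm_of_conj {x w : W} (h : w * x * w⁻¹ = x) : x * w = w * x := by
  rw [mul_inv_eq_iff_eq_mul] at h
  exact h.symm

/-- two inverted frame roots -/
theorem eq_dh_of_two (ha : Frame a) {r s : Lat} (hr : IsRoot r) (hs : IsRoot s) (hrs : form r s = 0)
    {j k : Fin 8} (hjk : j ≠ k) (hj : ap (refl hr * refl hs) (a j) = -a j)
    (hk : ap (refl hr * refl hs) (a k) = -a k) : refl hr * refl hs = dh ha (pr j k) := by
  rw [dh_pr]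
  have ho := ha.orth j k hjk
  have hj2 : form (a j) (a j) = 2 := ha.root j
  have comm : refl (fr ha j) * refl (fr ha k) =
      refl (fr ha k) * refl (fr ha j) := by
    rw [← dh_pr ha j k, ← dh_pr ha k j]
    unfold pr
    rw [mul_comm]
  -- `a j`, `a k` cannot be the same up to sign
  have hno : ∀ x : Lat, (a j = x ∨ a j = -x) → (a k = x ∨ a k = -x) → False := by
    intro x h1 h2
    have h3 : form (a j) (a k) = 2 ∨ form (a j) (a k) = -2 := by
      have hx : form x x = 2 := by
        rcases h1 with h1 | h1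
        · rw [← h1]; exact hj2
        · have : x = -a j := by rw [h1, neg_neg]
          rw [this, form_neg_left, form_neg_right, neg_neg]; exact hj2
      rcases h1 with h1 | h1 <;> rcases h2 with h2 | h2 <;> rw [h1, h2] <;>
        simp only [form_neg_left, form_neg_right, hx, neg_neg] <;> tauto
    rw [ho] at h3
    omega
  rcases neg_pair hr hs hrs (ha.root j) hj with h1 | h1
  · rcases neg_pair hr hs hrs (ha.root k) hk with h2 | h2
    · exact absurd h2 (fun h2 => hno r h1 h2)
    · rw [RfFive.refl_congr hr (fr ha j) h1, RfFive.refl_congr hs (fr ha k) h2]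
  · rcases neg_pair hr hs hrs (ha.root k) hk with h2 | h2
    · rw [comm, RfFive.refl_congr hs (fr ha j) h1, RfFive.refl_congr hr (fr ha k) h2]
    · exact absurd h2 (fun h2 => hno s h1 h2)

end Cfsg.Agent.OddHalf.D9.EEight.AutD
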