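import Cfsg.Agent.OddHalf.D9.EEight.AutD

/-!
# Automorphisms of `K₀` that fix the even sign changes of a frame
-/

set_option autoImplicit false

namespace Cfsg.Agent.OddHalf.D9.EEight.AutD

open Equiv Subgroup Cfsg.Agent.OddHalf.D9.EEight.Counts Cfsg.Agent.OddHalf.D9.EEight.FrameBase
  Cfsg.Agent.OddHalf.D9.EEight.FrameHom Cfsg.Agent.OddHalf.D9.EEight.FrameCode
  Cfsg.Agent.OddHalf.D9.EEight.Move

variable {a : Fin 8 → Lat}

/-- `refl b * refl (a m)` as an element of the kernel -/
noncomputable def rr (ha : Frame a) {b : Lat} (hb : IsRoot b) (m : Fin 8) : det.ker :=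
  ⟨refl hb * refl (fr ha m), det_two _ _⟩

/-- sign changes as elements of the kernel -/
noncomputable def dk (ha : Frame a) (ε : Ev) : det.ker := ⟨dh ha ε, det_ev ha ε.2⟩

theorem refl_sq {r : Lat} (hr : IsRoot r) : refl hr * refl hr = 1 := by
  apply ext_ap
  intro x
  have h : form r r = 2 := hr
  rw [ap_mul, ap_one, ap_refl, ap_refl, form_sub_left, form_smul_left, h]
  rw [show form x r - form x r * 2 = - form x r by ring, neg_smul]
  abel

theorem rr_mul (ha : Frame a) {b : Lat} (hb : IsRoot b) (m n : Fin 8) :
    rr ha hb m * dk ha ⟨pr m n, pr_mem m n⟩ = rr ha hb n := by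
  apply Subtype.ext
  show refl hb * refl (fr ha m) * dh ha (pr m n) = _
  rw [dh_pr]
  have : ∀ x y z : W, y * y = 1 → x * y * (y * z) = x * z := by
    intro x y z h
    rw [mul_assoc, ← mul_assoc y, h, one_mul]
  rw [this _ _ _ (refl_sq _)]
  rfl

variable (α : MulAut det.ker)

/-- `α` fixes the even sign changes of the frame -/
def Fixes (ha : Frame a) : Prop := ∀ ε : Ev, α (dk ha ε) = dk ha ε

variable {α}

/-- **Step E1** -/
theorem exists_image (E : EF det neg IsRefl) (ha : Frame a) (hα : Fixes α ha) {b : Lat}
    (hb : NF a b) {m : Fin 8} (hm : form b (a m) = 0) :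
    ∃ (b' : Lat) (hb' : NF a b'), (∀ j, form b (a j) = 0 → form b' (a j) = 0) ∧
      α (rr ha hb.root m) = rr ha hb'.root m := by
  have hab : form (a m) b = 0 := by rw [form_comm]; exact hm
  -- the images
  have himg : ∀ i, form b (a i) = 0 → ∃ (r s : Lat) (hr : IsRoot r) (hs : IsRoot s), form r s = 0 ∧
      (α (rr ha hb.root i) : W) = refl hr * refl hs :=
    fun i hi => pair_map E α hb.root (fr ha i) hi
  -- `b` is not fixed
  have hbb : b ≠ 0 := by
    intro h
    have h2 : form b b = 2 := hb.root
    rw [h] at h2
    simp [form] at h2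
  -- the relation between the images
  have hrel : ∀ i, α (rr ha hb.root i) = α (rr ha hb.root m) * dk ha ⟨pr m i, pr_mem m i⟩ := by
    intro i
    rw [← rr_mul ha hb.root m i, map_mul, hα]
  -- (L2)
  have L2 : ∀ i, form b (a i) = 0 → ∀ j k, j ≠ k → form b (a j) = 0 → form b (a k) = 0 →
      ap (α (rr ha hb.root i) : W) (a j) = -a j → ap (α (rr ha hb.root i) : W) (a k) = -a k →
      False := by
    intro i hi j k hjk hj hk h1 h2
    obtain ⟨r, s, hr, hs, hrs, he⟩ := himg i hi
    rw [he] at h1 h2
    have h3 := eq_dh_of_two ha hr hs hrs hjk h1 h2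
    rw [← he] at h3
    have h4 : α (rr ha hb.root i) = α (dk ha ⟨pr j k, pr_mem j k⟩) := by
      rw [hα]
      exact Subtype.ext h3
    have h5 := congrArg Subtype.val (α.injective h4)
    have h6 : ap (refl hb.root * refl (fr ha i)) b = ap (dh ha (pr j k)) b := by
      have : refl hb.root * refl (fr ha i) = dh ha (pr j k) := h5
      rw [this]
    rw [ap_mul, ap_refl_orth _ hi, ap_refl_self, dh_fix ha] at h6
    · apply hbb
      have h7 : (2 : ℤ) • b = 0 := by
        rw [two_smul]
        nth_rewrite 1 [← h6]
        exact neg_add_cancel b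
      exact two_smul_inj (by rw [h7, smul_zero])
    · intro l hl
      apply (pr_val hjk).2.2
      · rintro rfl; exact hl hj
      · rintro rfl; exact hl hk
  -- (S) frame roots outside the support are mapped to `±`
  have S : ∀ j, form b (a j) = 0 → ap (α (rr ha hb.root m) : W) (a j) = a j ∨
      ap (α (rr ha hb.root m) : W) (a j) = -a j := by
    intro j hj
    obtain ⟨k, l, hk, hl, hkj, hlj, hkl⟩ := exists_others (hb.card' ha) (mem_zero.2 hj)
    rw [mem_zero] at hk hl
    -- commuting with the pairs
    have hcomm : ∀ k, form b (a k) = 0 → k ≠ j →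
        (α (rr ha hb.root m) : W) * dh ha (pr j k) = dh ha (pr j k) * (α (rr ha hb.root m) : W) := by
      intro k hk hkj
      have h1 : rr ha hb.root m * dk ha ⟨pr j k, pr_mem j k⟩ =
          dk ha ⟨pr j k, pr_mem j k⟩ * rr ha hb.root m := by
        apply Subtype.ext
        show refl hb.root * refl (fr ha m) * dh ha (pr j k) =
          dh ha (pr j k) * (refl hb.root * refl (fr ha m))
        have c1 : refl hb.root * dh ha (pr j k) = dh ha (pr j k) * refl hb.root := by
          apply comm_of_conj
          apply refl_conj_eq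
          left
          apply dh_fix ha
          intro i hi
          apply (pr_val hkj.symm).2.2
          · rintro rfl; exact hi hj
          · rintro rfl; exact hi hk
        have c2 : refl (fr ha m) * dh ha (pr j k) =
            dh ha (pr j k) * refl (fr ha m) := by
          rw [← dh_sg, ← map_mul, ← map_mul, mul_comm]
        rw [mul_assoc, c2, ← mul_assoc, c1, mul_assoc]
      have h2 := congrArg α h1
      rw [map_mul, map_mul, hα] at h2
      exact congrArg Subtype.val h2
    have hv : ∀ k, form b (a k) = 0 → k ≠ j → ∀ i, i ≠ j → i ≠ k →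
        form (ap (α (rr ha hb.root m) : W) (a j)) (a i) = 0 := by
      intro k hk hkj i hij hik
      have h1 := congrArg (fun w => form (ap w (a j)) (a i)) (hcomm k hk hkj)
      simp only [ap_mul] at h1
      rw [form_dh, ap_dh, (pr_val hkj.symm).1, (pr_val hkj.symm).2.2 i hij hik] at h1
      rw [ap_smul, form_smul_left] at h1
      simp only [Units.val_neg, Units.val_one] at h1
      omega
    have h0 : ∀ i, i ≠ j → form (ap (α (rr ha hb.root m) : W) (a j)) (a i) = 0 := by
      intro i hij
      by_cases hik : i = k
      · subst hik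
        exact hv l hl hlj i hij hkl
      · exact hv k hk hkj i hij hik
    have hvr : IsRoot (ap (α (rr ha hb.root m) : W) (a j)) := isRoot_ap (ha.root j) _
    rcases root_cases ha hvr with h1 | ⟨i, h1⟩
    · exfalso
      have h2 := h1.card ha
      have h3 : (Finset.univ.filter (fun i =>
          form (ap (α (rr ha hb.root m) : W) (a j)) (a i) ≠ 0)) ⊆ {j} := by
        intro i hi
        rw [Finset.mem_filter] at hi
        rw [Finset.mem_singleton]
        by_contra hij
        exact hi.2 (h0 i hij)
      have := Finset.card_le_card h3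
      rw [h2, Finset.card_singleton] at this
      omega
    · have hij : i = j := by
        by_contra hij
        have h2 := h0 i hij
        have h3 : form (a i) (a i) = 2 := ha.root i
        rcases h1 with h1 | h1
        · rw [h1, h3] at h2; omega
        · rw [h1, form_neg_left, h3] at h2; omega
      subst hij
      exact h1
  -- signs of the images
  have hy : ∀ i j, form b (a j) = 0 → i ≠ m → ((j = m ∨ j = i) →
      ap (α (rr ha hb.root i) : W) (a j) = -ap (α (rr ha hb.root m) : W) (a j)) := by
    intro i j hj him hj'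
    rw [hrel i]
    show ap ((α (rr ha hb.root m) : W) * dh ha (pr m i)) (a j) = _
    rw [ap_mul, ap_dh]
    have : pr m i j = -1 := by
      rcases hj' with rfl | rfl
      · exact (pr_val him.symm).1
      · exact (pr_val him.symm).2.1
    rw [this, Units.val_neg, Units.val_one, neg_smul, one_smul, ap_neg]
  -- `y (a m) = - a m`
  have hmm : ap (α (rr ha hb.root m) : W) (a m) = -a m := by
    rcases S m hm with h1 | h1
    · exfalso
      obtain ⟨k, l, hk, hl, hkm, hlm, hkl⟩ := exists_others (hb.card' ha) (mem_zero.2 hm)
      rw [mem_zero] at hk hl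
      have key : ∀ k, form b (a k) = 0 → k ≠ m → ap (α (rr ha hb.root m) : W) (a k) = -a k := by
        intro k hk hkm
        rcases S k hk with h2 | h2
        · exfalso
          apply L2 k hk m k hkm.symm hm hk
          · rw [hy k m hm hkm (Or.inl rfl), h1]
          · rw [hy k k hk hkm (Or.inr rfl), h2]
        · exact h2
      exact L2 m hm k l hkl hk hl (key k hk hkm) (key l hl hlm)
    · exact h1
  have hmk : ∀ k, form b (a k) = 0 → k ≠ m → ap (α (rr ha hb.root m) : W) (a k) = a k := by
    intro k hk hkm
    rcases S k hk with h2 | h2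
    · exact h2
    · exact (L2 m hm m k hkm.symm hm hk hmm h2).elim
  -- the second root
  obtain ⟨r, s, hr, hs, hrs, he⟩ := himg m hm
  have hcommrs : refl hr * refl hs = refl hs * refl hr := by
    have h1 : refl hs * refl hr * (refl hs)⁻¹ = refl hr :=
      refl_conj_eq hr (Or.inl (ap_refl_orth hs hrs))
    exact comm_of_conj h1
  obtain ⟨b', hb', hb'm, he'⟩ : ∃ (b' : Lat) (hb' : IsRoot b'), form b' (a m) = 0 ∧
      (α (rr ha hb.root m) : W) = refl hb' * refl (fr ha m) := by
    rw [he] at hmm
    rcases neg_pair hr hs hrs (ha.root m) hmm with h1 | h1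
    · refine ⟨s, hs, ?_, ?_⟩
      · rw [form_comm]
        rcases h1 with h1 | h1 <;> rw [h1]
        · exact hrs
        · rw [form_neg_left, hrs, neg_zero]
      · rw [he, hcommrs, RfFive.refl_congr hr (fr ha m) h1]
    · refine ⟨r, hr, ?_, ?_⟩
      · rcases h1 with h1 | h1 <;> rw [h1]
        · exact hrs
        · rw [form_neg_right, hrs, neg_zero]
      · rw [he, RfFive.refl_congr hs (fr ha m) h1]
  have hb'k : ∀ k, form b (a k) = 0 → form b' (a k) = 0 := by
    intro k hk
    by_cases hkm : k = m
    · rw [hkm]; exact hb'm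
    · have h1 := hmk k hk hkm
      rw [he', ap_mul, ap_refl_orth _ (ha.orth k m hkm), ap_refl] at h1
      have h2 : form (a k) b' • b' = 0 := by
        rw [sub_eq_self] at h1
        exact h1
      have h3 := congrArg (fun x => form x b') h2
      have h4 : form b' b' = 2 := hb'
      simp only [form_smul_left, h4] at h3
      have h5 : form (0 : Lat) b' = 0 := by simp [form]
      rw [h5] at h3
      rw [form_comm]
      omega
  have hnf : NF a b' := by
    rcases root_cases ha hb' with h1 | ⟨i, h1⟩
    · exact h1
    · exfalso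
      have hi2 : form (a i) (a i) = 2 := ha.root i
      have him : i ≠ m := by
        rintro rfl
        rcases h1 with h1 | h1
        · rw [h1, hi2] at hb'm; omega
        · rw [h1, form_neg_left, hi2] at hb'm; omega
      have h2 : α (rr ha hb.root m) = α (dk ha ⟨pr i m, pr_mem i m⟩) := by
        rw [hα]
        apply Subtype.ext
        rw [he']
        show _ = dh ha (pr i m)
        rw [dh_pr, RfFive.refl_congr (fr ha i) hb' h1]
      have h3 := congrArg Subtype.val (α.injective h2)
      have h4 : refl hb.root * refl (fr ha m) = dh ha (pr i m) := h3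
      rw [dh_pr, mul_left_inj] at h4
      have h5 := congrArg (fun w => form (ap w b) b) h4
      have hb2 : form b b = 2 := hb.root
      simp only [ap_refl, form_sub_left, form_smul_left, hb2, form_comm (a i) b] at h5
      rcases hb.val ha i with h6 | h6 | h6 <;> rw [h6] at h5 <;> omega
  exact ⟨b', hnf, hb'k, Subtype.ext he'⟩

end Cfsg.Agent.OddHalf.D9.EEight.AutD
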