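import Cfsg.Agent.OddHalf.D9.EEight.AutE

/-!
# The images of the roots outside the frame
-/

set_option autoImplicit false

namespace Cfsg.Agent.OddHalf.D9.EEight.AutD

open Equiv Subgroup Cfsg.Agent.OddHalf.D9.EEight.Counts Cfsg.Agent.OddHalf.D9.EEight.FrameBase
  Cfsg.Agent.OddHalf.D9.EEight.FrameHom Cfsg.Agent.OddHalf.D9.EEight.FrameCode
  Cfsg.Agent.OddHalf.D9.EEight.Move

variable {a : Fin 8 → Lat} {α : MulAut det.ker}

/-- `b'` is the image of `b` -/
structure Im (α : MulAut det.ker) (ha : Frame a) (b b' : Lat) : Prop where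
  nf : NF a b
  nf' : NF a b'
  zero : ∀ j, form b (a j) = 0 → form b' (a j) = 0
  im : ∀ m, form b (a m) = 0 → α (rr ha nf.root m) = rr ha nf'.root m

theorem exists_im (E : EF det neg IsRefl) (ha : Frame a) (hα : Fixes α ha) {b : Lat}
    (hb : NF a b) : ∃ b', Im α ha b b' := by
  have h1 : (Finset.univ.filter (fun i => form b (a i) = 0)).Nonempty := by
    rw [← Finset.card_pos, hb.card' ha]
    norm_num
  obtain ⟨m, hm⟩ := h1
  rw [mem_zero] at hm
  obtain ⟨b', hb', h0, h⟩ := exists_image E ha hα hb hm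
  refine ⟨b', hb, hb', h0, fun n hn => ?_⟩
  rw [← rr_mul ha hb.root m n, map_mul, hα, h, rr_mul]

theorem Im.zero_iff (ha : Frame a) {b b' : Lat} (h : Im α ha b b') (j : Fin 8) :
    form b' (a j) = 0 ↔ form b (a j) = 0 := by
  refine ⟨fun h1 => ?_, h.zero j⟩
  have hsub : Finset.univ.filter (fun i => form b (a i) = 0) ⊆
      Finset.univ.filter (fun i => form b' (a i) = 0) := by
    intro i hi
    rw [mem_zero] at hi ⊢
    exact h.zero i hi
  have heq := Finset.eq_of_subset_of_card_le hsub (by rw [h.nf.card' ha, h.nf'.card' ha])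
  rw [← mem_zero, heq, mem_zero]
  exact h1

theorem refl_inj {r s : Lat} (hr : IsRoot r) (hs : IsRoot s) (h : refl hr = refl hs) :
    s = r ∨ s = -r := by
  rcases RfFive.comm_refl hr hs (by rw [h]) with h1 | h1
  · exfalso
    have h2 := congrArg (fun w => form (ap w s) s) h
    have hs2 : form s s = 2 := hs
    simp only [ap_refl, form_sub_left, form_smul_left, form_comm s r, h1, hs2] at h2
    omega
  · exact h1

theorem mul_conj {w x y : W} : w * (x * y) * w⁻¹ = (w * x * w⁻¹) * (w * y * w⁻¹) := by group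

/-- even sign changes -/
theorem Im.dh (ha : Frame a) (hα : Fixes α ha) {b b' : Lat} (h : Im α ha b b') (ε : Ev) :
    Im α ha (ap (dh ha ε) b) (ap (dh ha ε) b') := by
  have hform : ∀ x : Lat, ∀ j, form (ap (FrameHom.dh ha ε) x) (a j) = ((ε : Sg) j : ℤ) * form x (a j) :=
    fun x j => form_dh ha _ x j
  have hu : ∀ j, (((ε : Sg) j : ℤ) = 1 ∨ ((ε : Sg) j : ℤ) = -1) := by
    intro j
    rcases Int.units_eq_one_or ((ε : Sg) j) with h | h <;> rw [h] <;> simp
  have hnf : ∀ x : Lat, NF a x → NF a (ap (FrameHom.dh ha ε) x) := by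
    intro x hx
    refine ⟨isRoot_ap hx.root _, fun i => ?_⟩
    rw [hform]
    obtain ⟨h1, h2⟩ := hx.ne i
    rcases hu i with h | h <;> rw [h] <;> constructor <;> omega
  have hz : ∀ x : Lat, ∀ j, form (ap (FrameHom.dh ha ε) x) (a j) = 0 ↔ form x (a j) = 0 := by
    intro x j
    rw [hform]
    rcases hu j with h | h <;> rw [h] <;> omega
  have hconj : ∀ (x : Lat) (hx : NF a x) (m : Fin 8),
      rr ha (hnf x hx).root m = dk ha ε * rr ha hx.root m * (dk ha ε)⁻¹ := by
    intro x hx m
    apply Subtype.ext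
    show refl _ * refl (fr ha m) = FrameHom.dh ha ε * (refl hx.root * refl (fr ha m)) * (FrameHom.dh ha ε)⁻¹
    rw [mul_conj, RfFive.conj_refl hx.root, refl_conj_eq (fr ha m)]
    rw [ap_dh]
    rcases hu m with h | h <;> rw [h] <;> simp
  refine ⟨hnf b h.nf, hnf b' h.nf', fun j hj => ?_, fun m hm => ?_⟩
  · rw [hz] at hj ⊢
    exact h.zero j hj
  · rw [hz] at hm
    rw [hconj b h.nf, hconj b' h.nf', map_mul, map_mul, map_inv, hα, h.im m hm]

theorem Im.uniq {b b' b'' : Lat} (ha : Frame a) (h : Im α ha b b') (h2 : Im α ha b b'') :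
    b'' = b' ∨ b'' = -b' := by
  have h1 : (Finset.univ.filter (fun i => form b (a i) = 0)).Nonempty := by
    rw [← Finset.card_pos, h.nf.card' ha]
    norm_num
  obtain ⟨m, hm⟩ := h1
  rw [mem_zero] at hm
  have h3 := h.im m hm
  rw [h2.im m hm] at h3
  have h4 : refl h2.nf'.root * refl (fr ha m) = refl h.nf'.root * refl (fr ha m) :=
    congrArg Subtype.val h3
  rw [mul_left_inj] at h4
  exact refl_inj h.nf'.root h2.nf'.root h4.symm

/-- orthogonal roots with different supports have orthogonal images -/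
theorem Im.orth (ha : Frame a) {b b' c c' : Lat} (h : Im α ha b b') (k : Im α ha c c')
    (hbc : form b c = 0) {m n : Fin 8} (hm : form b (a m) = 0) (hm' : form c (a m) = 0)
    (hn : form b (a n) ≠ 0) (hn' : form c (a n) = 0) : form b' c' = 0 := by
  have hcomm : refl h.nf.root * refl k.nf.root = refl k.nf.root * refl h.nf.root := by
    have h1 : refl k.nf.root * refl h.nf.root * (refl k.nf.root)⁻¹ = refl h.nf.root :=
      refl_conj_eq h.nf.root (Or.inl (ap_refl_orth k.nf.root hbc))
    exact comm_of_conj h1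
  have hm_b : refl (fr ha m) * refl h.nf.root = refl h.nf.root * refl (fr ha m) := by
    have h1 : refl h.nf.root * refl (fr ha m) * (refl h.nf.root)⁻¹ = refl (fr ha m) :=
      refl_conj_eq (fr ha m) (Or.inl (ap_refl_orth h.nf.root (by rw [form_comm]; exact hm)))
    exact comm_of_conj h1
  have hm_c : refl (fr ha m) * refl k.nf.root = refl k.nf.root * refl (fr ha m) := by
    have h1 : refl k.nf.root * refl (fr ha m) * (refl k.nf.root)⁻¹ = refl (fr ha m) :=
      refl_conj_eq (fr ha m) (Or.inl (ap_refl_orth k.nf.root (by rw [form_comm]; exact hm')))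
    exact comm_of_conj h1
  have hm_b' : refl (fr ha m) * refl h.nf'.root = refl h.nf'.root * refl (fr ha m) := by
    have h1 : refl h.nf'.root * refl (fr ha m) * (refl h.nf'.root)⁻¹ = refl (fr ha m) :=
      refl_conj_eq (fr ha m) (Or.inl (ap_refl_orth h.nf'.root
        (by rw [form_comm]; exact h.zero m hm)))
    exact comm_of_conj h1
  have hm_c' : refl (fr ha m) * refl k.nf'.root = refl k.nf'.root * refl (fr ha m) := by
    have h1 : refl k.nf'.root * refl (fr ha m) * (refl k.nf'.root)⁻¹ = refl (fr ha m) :=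
      refl_conj_eq (fr ha m) (Or.inl (ap_refl_orth k.nf'.root
        (by rw [form_comm]; exact k.zero m hm')))
    exact comm_of_conj h1
  have e1 : rr ha h.nf.root m * rr ha k.nf.root m = rr ha k.nf.root m * rr ha h.nf.root m := by
    apply Subtype.ext
    show refl h.nf.root * refl (fr ha m) * (refl k.nf.root * refl (fr ha m)) =
      refl k.nf.root * refl (fr ha m) * (refl h.nf.root * refl (fr ha m))
    rw [mul_assoc, ← mul_assoc (refl (fr ha m)), hm_c, mul_assoc (refl k.nf.root),
      ← mul_assoc (refl h.nf.root), hcomm, mul_assoc (refl k.nf.root) (refl (fr ha m)),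
      ← mul_assoc (refl (fr ha m)) (refl h.nf.root), hm_b]
    simp only [mul_assoc]
  have e2 := congrArg α e1
  rw [map_mul, map_mul, h.im m hm, k.im m hm'] at e2
  have e3 : refl h.nf'.root * refl (fr ha m) * (refl k.nf'.root * refl (fr ha m)) =
      refl k.nf'.root * refl (fr ha m) * (refl h.nf'.root * refl (fr ha m)) :=
    congrArg Subtype.val e2
  have e4 : refl k.nf'.root * refl h.nf'.root = refl h.nf'.root * refl k.nf'.root := by
    rw [mul_assoc, ← mul_assoc (refl (fr ha m)), hm_c', mul_assoc (refl k.nf'.root),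
      refl_sq, mul_one, mul_assoc (refl k.nf'.root) (refl (fr ha m)),
      ← mul_assoc (refl (fr ha m)) (refl h.nf'.root), hm_b', mul_assoc (refl h.nf'.root), refl_sq,
      mul_one] at e3
    exact e3.symm
  rcases RfFive.comm_refl h.nf'.root k.nf'.root e4 with h5 | h5
  · exact h5
  · exfalso
    apply hn
    rw [← h.zero_iff ha]
    have h6 := k.zero n hn'
    rcases h5 with h5 | h5
    · rw [h5] at h6; exact h6
    · rw [h5, form_neg_left, neg_eq_zero] at h6; exact h6

end Cfsg.Agent.OddHalf.D9.EEight.AutD
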