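import Cfsg.Agent.OddHalf.D9.EEight.AutF

/-!
# The signs of the images of the roots outside the frame
-/

set_option autoImplicit false

namespace Cfsg.Agent.OddHalf.D9.EEight.AutD

open Equiv Subgroup Cfsg.Agent.OddHalf.D9.EEight.Counts Cfsg.Agent.OddHalf.D9.EEight.FrameBase
  Cfsg.Agent.OddHalf.D9.EEight.FrameHom Cfsg.Agent.OddHalf.D9.EEight.FrameCode
  Cfsg.Agent.OddHalf.D9.EEight.Move

variable {a : Fin 8 → Lat} {α : MulAut det.ker}

theorem code_wt : ∀ ε : Sg, IsCode ε → wt ε = 0 ∨ wt ε = 4 ∨ wt ε = 8 := by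
  decide +kernel

theorem code_inter (ε : Sg) (hε : IsCode ε) (hε4 : wt ε = 4) (η : Sg) (hη : IsCode η)
    (hη4 : wt η = 4) (i j : Fin 8) (hij : i ≠ j) (h1 : ε i = -1) (h2 : ε j = -1) (h3 : η i = -1)
    (h4 : η j = -1) : ε = η ∨ ((∀ k, k ≠ i → k ≠ j → ε k = 1 ∨ η k = 1) ∧ (∃ m, ε m = 1 ∧ η m = 1) ∧
        ∃ n, ε n = -1 ∧ η n = 1) := by
  have c1 : (sp ε).card = 4 := hε4
  have c2 : (sp η).card = 4 := hη4
  have e1 : (symmDiff (sp ε) (sp η)).card = (sp ε \ sp η).card + (sp η \ sp ε).card := by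
    rw [symmDiff_def, Finset.sup_eq_union, Finset.card_union_of_disjoint disjoint_sdiff_sdiff]
  have e2 := Finset.card_sdiff_add_card_inter (sp ε) (sp η)
  have e3 := Finset.card_sdiff_add_card_inter (sp η) (sp ε)
  rw [Finset.inter_comm (sp η) (sp ε)] at e3
  have e4 : wt (ε * η) = (symmDiff (sp ε) (sp η)).card := by rw [← card_sp, sp_mul]
  have hsub : ({i, j} : Finset (Fin 8)) ⊆ sp ε ∩ sp η := by
    intro x hx
    rw [Finset.mem_insert, Finset.mem_singleton] at hx
    rw [Finset.mem_inter, mem_sp, mem_sp]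
    rcases hx with rfl | rfl
    · exact ⟨h1, h3⟩
    · exact ⟨h2, h4⟩
  have e5 := Finset.card_le_card hsub
  rw [Finset.card_pair hij] at e5
  have e6 := code_wt _ (isCode_mul hε hη)
  rcases e6 with e6 | e6 | e6
  · left
    have h := wt_zero e6
    rw [← mul_left_inj η, h, EEight.sq_one]
  · right
    have e7 : (sp ε ∩ sp η).card = 2 := by omega
    have e8 : ({i, j} : Finset (Fin 8)) = sp ε ∩ sp η :=
      Finset.eq_of_subset_of_card_le hsub (by rw [e7, Finset.card_pair hij])
    refine ⟨fun k hki hkj => ?_, ?_, ?_⟩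
    · rcases Int.units_eq_one_or (ε k) with h8 | h8
      · exact Or.inl h8
      · right
        apply not_neg_one
        intro h9
        have : k ∈ ({i, j} : Finset (Fin 8)) := by
          rw [e8, Finset.mem_inter, mem_sp, mem_sp]
          exact ⟨h8, h9⟩
        rw [Finset.mem_insert, Finset.mem_singleton] at this
        rcases this with h | h
        · exact hki h
        · exact hkj h
    · have e9 := Finset.card_union_add_card_inter (sp ε) (sp η)
      have e10 : (sp ε ∪ sp η).card < (Finset.univ : Finset (Fin 8)).card := by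
        rw [Finset.card_univ, Fintype.card_fin]
        omega
      obtain ⟨m, -, hm⟩ := Finset.exists_mem_notMem_of_card_lt_card e10
      rw [Finset.mem_union, not_or, mem_sp, mem_sp] at hm
      exact ⟨m, not_neg_one hm.1, not_neg_one hm.2⟩
    · have e11 : 0 < (sp ε \ sp η).card := by omega
      obtain ⟨n, hn⟩ := Finset.card_pos.1 e11
      rw [Finset.mem_sdiff, mem_sp, mem_sp] at hn
      exact ⟨n, hn.1, not_neg_one hn.2⟩
  · omega

theorem exists_three : ∀ i j k : Fin 8, i ≠ j → i ≠ k → j ≠ k →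
    ∃ l : Fin 8, IsCode (sg i * sg j * sg k * sg l) ∧ wt (sg i * sg j * sg k * sg l) = 4 ∧
      (sg i * sg j * sg k * sg l) i = -1 ∧ (sg i * sg j * sg k * sg l) j = -1 ∧
      (sg i * sg j * sg k * sg l) k = -1 := by
  decide +kernel

theorem third (i j : Fin 8) : ∃ k : Fin 8, i ≠ k ∧ j ≠ k := by
  revert i j
  decide

/-- a root outside the frame with three given coordinates -/
theorem exists_nf (ha : Frame a) (hl : Lab a) {i j k : Fin 8} (hij : i ≠ j) (hik : i ≠ k)
    (hjk : j ≠ k) : ∃ b, NF a b ∧ form b (a i) ≠ 0 ∧ form b (a j) ≠ 0 ∧ form b (a k) ≠ 0 := by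
  obtain ⟨l, hc, hw, h1, h2, h3⟩ := exists_three i j k hij hik hjk
  obtain ⟨y, hy⟩ := InvRoot.exists_code ha hl hc
  have hne : ∀ m, (sg i * sg j * sg k * sg l) m = -1 → form y (a m) ≠ 0 := by
    intro m hm
    rw [hy, if_pos hm]
    norm_num
  refine ⟨y, ⟨?_, fun m => ?_⟩, hne i h1, hne j h2, hne k h3⟩
  · have h4 := ha.sum_form y y
    have h5 : ∑ m, form y (a m) * form y (a m) = 4 := by
      have : ∀ m, form y (a m) * form y (a m) =
          if (sg i * sg j * sg k * sg l) m = -1 then 1 else 0 := by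
        intro m
        rw [hy]
        split_ifs <;> norm_num
      simp only [this]
      rw [← Finset.sum_filter, Finset.sum_const]
      have h6 : (Finset.univ.filter (fun m => (sg i * sg j * sg k * sg l) m = -1)).card = 4 := hw
      rw [h6]
      rfl
    show form y y = 2
    omega
  · rw [hy]
    split_ifs <;> norm_num

theorem sgn_neg_iff (ha : Frame a) {b : Lat} (hb : NF a b) (i : Fin 8) :
    sgn a b i = -1 ↔ form b (a i) ≠ 0 := by
  rw [sgn_apply]
  rcases hb.val ha i with h | h | h <;> rw [h] <;> simp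

theorem sgn_wt (ha : Frame a) {b : Lat} (hb : NF a b) : wt (sgn a b) = 4 := by
  rw [← hb.card ha]
  unfold wt
  congr 1
  ext i
  rw [Finset.mem_filter, Finset.mem_filter, sgn_neg_iff ha hb]

theorem sgn_one_iff (ha : Frame a) {b : Lat} (hb : NF a b) (i : Fin 8) :
    sgn a b i = 1 ↔ form b (a i) = 0 := by
  have h := sgn_neg_iff ha hb i
  constructor
  · intro h1
    by_contra h2
    rw [h.2 h2] at h1
    exact absurd h1 (by decide)
  · intro h1
    apply not_neg_one
    intro h2
    exact (h.1 h2) h1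

/-- the dichotomy for the supports -/
theorem supports (ha : Frame a) (hl : Lab a) {b c : Lat} (hb : NF a b) (hc : NF a c) {i j : Fin 8}
    (hij : i ≠ j) (h1 : form b (a i) ≠ 0) (h2 : form b (a j) ≠ 0) (h3 : form c (a i) ≠ 0)
    (h4 : form c (a j) ≠ 0) : (∀ k, form b (a k) = 0 ↔ form c (a k) = 0) ∨
      ((∀ k, k ≠ i → k ≠ j → form b (a k) = 0 ∨ form c (a k) = 0) ∧
        (∃ m, form b (a m) = 0 ∧ form c (a m) = 0) ∧ ∃ n, form b (a n) ≠ 0 ∧ form c (a n) = 0) := by
  rcases code_inter (sgn a b) ((hl _).2 ⟨b, rfl⟩) (sgn_wt ha hb) (sgn a c) ((hl _).2 ⟨c, rfl⟩)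
    (sgn_wt ha hc) i j hij ((sgn_neg_iff ha hb i).2 h1) ((sgn_neg_iff ha hb j).2 h2)
    ((sgn_neg_iff ha hc i).2 h3) ((sgn_neg_iff ha hc j).2 h4) with h | ⟨h5, ⟨m, hm, hm'⟩, n, hn, hn'⟩
  · left
    intro k
    rw [← sgn_one_iff ha hb, ← sgn_one_iff ha hc, h]
  · right
    refine ⟨fun k hki hkj => ?_, ⟨m, (sgn_one_iff ha hb m).1 hm, (sgn_one_iff ha hc m).1 hm'⟩,
      n, (sgn_neg_iff ha hb n).1 hn, (sgn_one_iff ha hc n).1 hn'⟩
    rcases h5 k hki hkj with h6 | h6
    · exact Or.inl ((sgn_one_iff ha hb k).1 h6)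
    · exact Or.inr ((sgn_one_iff ha hc k).1 h6)

/-- the product of coordinates -/
def tt (a : Fin 8 → Lat) (b b' : Lat) (i : Fin 8) : ℤ := form b (a i) * form b' (a i)

theorem Im.tt_val (ha : Frame a) {b b' : Lat} (h : Im α ha b b') {i : Fin 8}
    (hi : form b (a i) ≠ 0) : tt a b b' i = 1 ∨ tt a b b' i = -1 := by
  have hi' : form b' (a i) ≠ 0 := fun h1 => hi ((h.zero_iff ha i).1 h1)
  unfold tt
  rcases h.nf.val ha i with h1 | h1 | h1 <;> rcases h.nf'.val ha i with h2 | h2 | h2 <;>
    rw [h1, h2] <;> first | (exact absurd h1 hi) | (exact absurd h2 hi') | norm_num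

theorem tt_uniq {b b' b'' : Lat} (h : b'' = b' ∨ b'' = -b') (i j : Fin 8) :
    tt a b b'' i * tt a b b'' j = tt a b b' i * tt a b b' j := by
  unfold tt
  rcases h with h | h
  · rw [h]
  · rw [h, form_neg_left, form_neg_left]; ring

theorem tt_dh (ha : Frame a) (ε : Sg) (b b' : Lat) (i : Fin 8) :
    tt a (ap (dh ha ε) b) (ap (dh ha ε) b') i = tt a b b' i := by
  unfold tt
  rw [form_dh, form_dh]
  rcases Int.units_eq_one_or (ε i) with h | h <;> rw [h] <;> simp

/-- two common coordinates -/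
theorem sum_two (ha : Frame a) {b c : Lat} {i j : Fin 8} (hij : i ≠ j)
    (h : ∀ k, k ≠ i → k ≠ j → form b (a k) = 0 ∨ form c (a k) = 0) :
    form b (a i) * form c (a i) + form b (a j) * form c (a j) = 2 * form b c := by
  rw [← ha.sum_form, ← Finset.sum_pair hij (f := fun k => form b (a k) * form c (a k))]
  apply Finset.sum_subset (Finset.subset_univ _)
  intro k _ hk
  rw [Finset.mem_insert, Finset.mem_singleton, not_or] at hk
  rcases h k hk.1 hk.2 with h1 | h1 <;> rw [h1] <;> simp

/-- the orthogonal case -/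
theorem tt_orth (ha : Frame a) {b b' c c' : Lat} (h : Im α ha b b') (k : Im α ha c c')
    {i j : Fin 8} (hij : i ≠ j) (h1 : form b (a i) ≠ 0) (h2 : form b (a j) ≠ 0)
    (h3 : form c (a i) ≠ 0) (h4 : form c (a j) ≠ 0)
    (h5 : ∀ k, k ≠ i → k ≠ j → form b (a k) = 0 ∨ form c (a k) = 0)
    {m n : Fin 8} (hm : form b (a m) = 0) (hm' : form c (a m) = 0)
    (hn : form b (a n) ≠ 0) (hn' : form c (a n) = 0) (hbc : form b c = 0) :
    tt a b b' i * tt a b b' j = tt a c c' i * tt a c c' j := by
  have ho := h.orth ha k hbc hm hm' hn hn'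
  have s1 := sum_two ha hij h5
  have s2 := sum_two (b := b') (c := c') ha hij (fun l hl hl' => by
    rcases h5 l hl hl' with h6 | h6
    · exact Or.inl (h.zero l h6)
    · exact Or.inr (k.zero l h6))
  rw [hbc, mul_zero] at s1
  rw [ho, mul_zero] at s2
  have v1 : form b' (a i) ≠ 0 := fun h6 => h1 ((h.zero_iff ha i).1 h6)
  have v2 : form b' (a j) ≠ 0 := fun h6 => h2 ((h.zero_iff ha j).1 h6)
  have v3 : form c' (a i) ≠ 0 := fun h6 => h3 ((k.zero_iff ha i).1 h6)
  have v4 : form c' (a j) ≠ 0 := fun h6 => h4 ((k.zero_iff ha j).1 h6)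
  have w1 := (h.nf.val ha i).resolve_left h1
  have w2 := (h.nf.val ha j).resolve_left h2
  have w3 := (k.nf.val ha i).resolve_left h3
  have w4 := (k.nf.val ha j).resolve_left h4
  have w5 := (h.nf'.val ha i).resolve_left v1
  have w6 := (h.nf'.val ha j).resolve_left v2
  have w7 := (k.nf'.val ha i).resolve_left v3
  have w8 := (k.nf'.val ha j).resolve_left v4
  unfold tt
  clear v1 v2 v3 v4 h1 h2 h3 h4 h5 hn hm hm' hn' hbc ho
  generalize form b (a i) = x1 at *
  generalize form b (a j) = x2 at *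
  generalize form c (a i) = x3 at *
  generalize form c (a j) = x4 at *
  generalize form b' (a i) = x5 at *
  generalize form b' (a j) = x6 at *
  generalize form c' (a i) = x7 at *
  generalize form c' (a j) = x8 at *
  have e1 : x1 * x3 = -(x2 * x4) := by linarith
  have e2 : x5 * x7 = -(x6 * x8) := by linarith
  have q2 : x2 * x2 = 1 := by rcases w2 with rfl | rfl <;> norm_num
  have q3 : x3 * x3 = 1 := by rcases w3 with rfl | rfl <;> norm_num
  have q6 : x6 * x6 = 1 := by rcases w6 with rfl | rfl <;> norm_num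
  have q7 : x7 * x7 = 1 := by rcases w7 with rfl | rfl <;> norm_num
  have r1 : x1 = -(x2 * x4) * x3 := by rw [← e1, mul_assoc, q3, mul_one]
  have r5 : x5 = -(x6 * x8) * x7 := by rw [← e2, mul_assoc, q7, mul_one]
  rw [r1, r5]
  linear_combination (x4 * x3 * x8 * x7) * (x6 * x6 * q2 + q6)

/-- **consistency** -/
theorem tt_eq (ha : Frame a) (hl : Lab a) (hα : Fixes α ha) {b b' c c' : Lat} (h : Im α ha b b')
    (k : Im α ha c c') {i j : Fin 8} (hij : i ≠ j) (h1 : form b (a i) ≠ 0) (h2 : form b (a j) ≠ 0)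
    (h3 : form c (a i) ≠ 0) (h4 : form c (a j) ≠ 0) :
    tt a b b' i * tt a b b' j = tt a c c' i * tt a c c' j := by
  rcases supports ha hl h.nf k.nf hij h1 h2 h3 h4 with h5 | ⟨h5, ⟨m, hm, hm'⟩, n, hn, hn'⟩
  · -- the same support
    obtain ⟨m, hm⟩ : ∃ m, form b (a m) = 0 := by
      have h6 : (Finset.univ.filter (fun i => form b (a i) = 0)).Nonempty := by
        rw [← Finset.card_pos, h.nf.card' ha]
        norm_num
      obtain ⟨m, hm⟩ := h6
      exact ⟨m, mem_zero.1 hm⟩
    let u : Sg := fun l => if form b (a l) = form c (a l) then 1 else -1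
    have hu : ∀ l, form c (a l) = (u l : ℤ) * form b (a l) := by
      intro l
      by_cases h6 : form b (a l) = form c (a l)
      · have : u l = 1 := if_pos h6
        rw [this, Units.val_one, one_mul, h6]
      · have : u l = -1 := if_neg h6
        rw [this, Units.val_neg, Units.val_one]
        rcases h.nf.val ha l with h7 | h7 | h7
        · rw [h7, (h5 l).1 h7] at h6
          exact absurd rfl h6
        · have h8 := (k.nf.val ha l).resolve_left (fun h8 => by
            rw [(h5 l).2 h8] at h7; omega)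
          rw [h7] at h6 ⊢
          omega
        · have h8 := (k.nf.val ha l).resolve_left (fun h8 => by
            rw [(h5 l).2 h8] at h7; omega)
          rw [h7] at h6 ⊢
          omega
    obtain ⟨ε, hε, hεu⟩ : ∃ ε : Sg, ε ∈ Ev ∧ ∀ l, l ≠ m → ε l = u l := by
      rcases Int.units_eq_one_or (prd u) with h6 | h6
      · exact ⟨u, h6, fun _ _ => rfl⟩
      · refine ⟨u * sg m, ?_, fun l hl => ?_⟩
        · rw [mem_Ev, map_mul, h6, prd_sg]
          decide
        · rw [Pi.mul_apply]
          have : sg m l = 1 := if_neg hl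
          rw [this, mul_one]
    have hc : ap (dh ha ε) b = c := by
      apply ha.ext
      intro l
      rw [form_dh, hu l]
      by_cases hlm : l = m
      · rw [hlm, hm, mul_zero, mul_zero]
      · rw [hεu l hlm]
    have h6 := h.dh ha hα ⟨ε, hε⟩
    have h7 : Im α ha c (ap (dh ha ε) b') := by
      rw [← hc]
      exact h6
    have h8 := h7.uniq ha k
    rw [tt_uniq h8, ← hc, tt_dh, tt_dh]
  · -- different supports
    by_cases hbc : form b c = 0
    · exact tt_orth ha h k hij h1 h2 h3 h4 h5 hm hm' hn hn' hbc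
    · have hin : i ≠ n := by
        rintro rfl
        exact h3 hn'
      have hpr := pr_val hin
      have k' := k.dh ha hα ⟨pr i n, pr_mem i n⟩
      have hcf : ∀ l, form (ap (dh ha (pr i n)) c) (a l) = (pr i n l : ℤ) * form c (a l) :=
        fun l => form_dh ha _ _ _
      have z : ∀ l, form (ap (dh ha (pr i n)) c) (a l) = 0 ↔ form c (a l) = 0 := by
        intro l
        rw [hcf]
        rcases Int.units_eq_one_or (pr i n l) with h6 | h6 <;> rw [h6] <;> simp
      have hjn : j ≠ n := by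
        rintro rfl
        exact h4 hn'
      have s1 := sum_two ha hij h5
      have h5' : ∀ l, l ≠ i → l ≠ j → form b (a l) = 0 ∨ form (ap (dh ha (pr i n)) c) (a l) = 0 := by
        intro l hl hl'
        rw [z]
        exact h5 l hl hl'
      have s2 := sum_two ha hij h5'
      rw [hcf, hcf, hpr.1, hpr.2.2 j hij.symm hjn] at s2
      simp only [Units.val_neg, Units.val_one] at s2
      have w1 := (h.nf.val ha i).resolve_left h1
      have w2 := (h.nf.val ha j).resolve_left h2
      have w3 := (k.nf.val ha i).resolve_left h3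
      have w4 := (k.nf.val ha j).resolve_left h4
      have hbc' : form b (ap (dh ha (pr i n)) c) = 0 := by
        rcases w1 with w1 | w1 <;> rcases w2 with w2 | w2 <;> rcases w3 with w3 | w3 <;>
          rcases w4 with w4 | w4 <;> rw [w1, w2, w3, w4] at s1 s2 <;> omega
      have h9 := tt_orth ha h k' hij h1 h2 (fun h6 => h3 ((z i).1 h6)) (fun h6 => h4 ((z j).1 h6))
        h5' hm ((z m).2 hm') hn ((z n).2 hn') hbc'
      rw [h9, tt_dh, tt_dh]

end Cfsg.Agent.OddHalf.D9.EEight.AutD
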