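import Cfsg.Agent.OddHalf.D9.EEight.Facts

/-!
# The configuration of the row `2.Ω₈⁺(2)`

`φ` embeds `K₀ = ker δ` into `G`, `z = φ c`, `R = C_G(φ K₀)` is a cyclic `2`-group and the elements of
`C_G(z)` act on `φ K₀` as elements of `W`. `Ac h w` says that `h` acts as `w`.
-/

set_option autoImplicit false

namespace Cfsg.Agent.OddHalf.D9.EEight

open Subgroup

variable {W : Type*} [Group W] {δ : W →* ℤˣ} {c : W} {Rf : W → Prop}
variable {G : Type*} [Group G] {φ : W → G} {R : Subgroup G}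

/-- The configuration. -/
structure Cfg (δ : W →* ℤˣ) (c : W) (φ : W → G) (R : Subgroup G) : Prop where
  mul : ∀ k l : W, δ k = 1 → δ l = 1 → φ (k * l) = φ k * φ l
  inj : ∀ k l : W, δ k = 1 → δ l = 1 → φ k = φ l → k = l
  mem_R : ∀ r : G, r ∈ R ↔ ∀ k : W, δ k = 1 → r * φ k = φ k * r
  cyc : IsCyclic R
  two : IsPGroup 2 R
  act : ∀ h : G, h * φ c = φ c * h → ∃ w : W, ∀ k : W, δ k = 1 → h * φ k * h⁻¹ = φ (w * k * w⁻¹)

/-- `h` acts on `φ K₀` as `w`. -/
def Ac (δ : W →* ℤˣ) (φ : W → G) (h : G) (w : W) : Prop :=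
  ∀ k : W, δ k = 1 → h * φ k * h⁻¹ = φ (w * k * w⁻¹)

theorem det_conj {w k : W} (h : δ k = 1) : δ (w * k * w⁻¹) = 1 := by
  rw [map_mul, map_mul, map_inv, h, mul_one, mul_inv_cancel]

theorem Ac.mul {h h' : G} {w w' : W} (a : Ac δ φ h w) (b : Ac δ φ h' w') :
    Ac δ φ (h * h') (w * w') := by
  intro k hk
  have e1 : h * h' * φ k * (h * h')⁻¹ = h * (h' * φ k * h'⁻¹) * h⁻¹ := by group
  have e2 : w * w' * k * (w * w')⁻¹ = w * (w' * k * w'⁻¹) * w⁻¹ := by group
  rw [e1, e2, b k hk, a _ (det_conj hk)]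

theorem Ac.one : Ac δ φ (1 : G) 1 := by
  intro k _
  simp

theorem Ac.inv {h : G} {w : W} (a : Ac δ φ h w) : Ac δ φ h⁻¹ w⁻¹ := by
  intro k hk
  have hk' : δ (w⁻¹ * k * w⁻¹⁻¹) = 1 := det_conj hk
  have := a _ hk'
  have e1 : w * (w⁻¹ * k * w⁻¹⁻¹) * w⁻¹ = k := by group
  rw [e1] at this
  rw [← this]
  group

theorem Ac.pow {h : G} {w : W} (a : Ac δ φ h w) (n : ℕ) : Ac δ φ (h ^ n) (w ^ n) := by
  induction n with
  | zero => rw [pow_zero, pow_zero]; exact Ac.one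
  | succ n ih => rw [pow_succ, pow_succ]; exact ih.mul a

namespace Cfg

variable (C : Cfg δ c φ R) (E : EF δ c Rf)

include C

theorem one' : φ 1 = 1 := by
  have h := C.mul 1 1 (map_one δ) (map_one δ)
  rw [mul_one] at h
  exact (mul_eq_left.1 h.symm)

theorem inv' {k : W} (hk : δ k = 1) : φ k⁻¹ = (φ k)⁻¹ := by
  have h := C.mul k k⁻¹ hk (by rw [map_inv, hk, inv_one])
  rw [mul_inv_cancel, C.one'] at h
  exact (inv_eq_of_mul_eq_one_right h.symm).symm

theorem conj' {w k : W} (hw : δ w = 1) (hk : δ k = 1) : φ (w * k * w⁻¹) = φ w * φ k * (φ w)⁻¹ := by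
  rw [C.mul _ _ (by rw [map_mul, hw, hk, one_mul]) (by rw [map_inv, hw, inv_one]), C.mul _ _ hw hk,
    C.inv' hw]

theorem ac_phi {w : W} (hw : δ w = 1) : Ac δ φ (φ w) w := by
  intro k hk
  rw [C.conj' hw hk]

theorem ac_one_iff {r : G} : Ac δ φ r 1 ↔ r ∈ R := by
  rw [C.mem_R]
  constructor
  · intro h k hk
    have := h k hk
    rw [one_mul, inv_one, mul_one] at this
    exact mul_inv_eq_iff_eq_mul.1 this
  · intro h k hk
    rw [one_mul, inv_one, mul_one, h k hk, mul_inv_cancel_right]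

include E

theorem ac_c_iff {r : G} : Ac δ φ r c ↔ r ∈ R := by
  rw [← C.ac_one_iff]
  unfold Ac
  have : ∀ k : W, c * k * c⁻¹ = 1 * k * 1⁻¹ := by
    intro k
    rw [E.c_comm, mul_inv_cancel_right, one_mul, inv_one, mul_one]
  simp only [this]

omit C in
/-- elements that act commute with `z` -/
theorem ac_comm {h : G} {w : W} (a : Ac δ φ h w) : h * φ c = φ c * h := by
  have h1 := a c E.c_det
  rw [mul_inv_eq_iff_eq_mul.2 (E.c_comm w).symm] at h1
  exact mul_inv_eq_iff_eq_mul.1 h1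

theorem ac_uniq {h : G} {v w : W} (a : Ac δ φ h v) (b : Ac δ φ h w) : w = v ∨ w = c * v := by
  have h1 : ∀ k : W, δ k = 1 → (v⁻¹ * w) * k = k * (v⁻¹ * w) := by
    intro k hk
    have e1 := a k hk
    rw [b k hk] at e1
    have e2 := C.inj _ _ (det_conj hk) (det_conj hk) e1
    have e3 : (v⁻¹ * w) * k = v⁻¹ * (w * k * w⁻¹) * w := by group
    rw [e3, e2]
    group
  rcases E.cenK _ h1 with h2 | h2
  · left
    rw [inv_mul_eq_one] at h2
    exact h2.symm
  · right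
    rw [inv_mul_eq_iff_eq_mul] at h2
    rw [h2, E.c_comm]

theorem ac_det {h : G} {v w : W} (a : Ac δ φ h v) (b : Ac δ φ h w) : δ v = δ w := by
  rcases C.ac_uniq E a b with h | h
  · rw [h]
  · rw [h, map_mul, E.c_det, one_mul]

omit E in
theorem exists_of_ac {h : G} {w : W} (a : Ac δ φ h w) (hw : δ w = 1) : ∃ r ∈ R, h = φ w * r := by
  refine ⟨(φ w)⁻¹ * h, ?_, by group⟩
  rw [← C.ac_one_iff]
  have h1 := ((C.ac_phi hw).inv).mul a
  rwa [inv_mul_cancel] at h1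

omit E in
theorem r_comm {r : G} (hr : r ∈ R) {k : W} (hk : δ k = 1) : r * φ k = φ k * r :=
  (C.mem_R r).1 hr k hk

theorem zz : φ c * φ c = 1 := by
  rw [← C.mul _ _ E.c_det E.c_det, E.c_sq, C.one']

theorem z_ne : φ c ≠ 1 := by
  intro h
  apply E.c_ne
  apply C.inj _ _ E.c_det (map_one δ)
  rw [h, C.one']

theorem z_mem : φ c ∈ R := by
  rw [C.mem_R]
  intro k hk
  rw [← C.mul _ _ E.c_det hk, ← C.mul _ _ hk E.c_det, E.c_comm]

/-- `φ K₀ ∩ R = {1, z}` -/
theorem phi_mem_R {k : W} (hk : δ k = 1) (h : φ k ∈ R) : k = 1 ∨ k = c := by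
  apply E.cenK
  intro l hl
  apply C.inj _ _ (by rw [map_mul, hk, hl, one_mul]) (by rw [map_mul, hk, hl, one_mul])
  rw [C.mul _ _ hk hl, C.mul _ _ hl hk]
  exact C.r_comm h hl

omit E in
theorem r_ab {r s : G} (hr : r ∈ R) (hs : s ∈ R) : r * s = s * r := by
  have := C.cyc
  have h : (⟨r, hr⟩ : R) * ⟨s, hs⟩ = ⟨s, hs⟩ * ⟨r, hr⟩ := by
    let _ : CommGroup R := IsCyclic.commGroup
    exact mul_comm _ _
  exact congrArg Subtype.val h

/-- `z` is the only involution of `R` -/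
theorem r_inv [Finite G] {r : G} (hr : r ∈ R) (h : r * r = 1) : r = 1 ∨ r = φ c := by
  classical
  have := C.cyc
  have : Fintype R := Fintype.ofFinite _
  by_contra hne
  push Not at hne
  have hcard : (Finset.univ.filter (fun a : R => a ^ 2 = 1)).card ≤ 2 := by
    convert IsCyclic.card_pow_eq_one_le (α := R) (n := 2) (by norm_num)
  have hsub : ({(1 : R), ⟨φ c, C.z_mem E⟩, ⟨r, hr⟩} : Finset R) ⊆
      Finset.univ.filter (fun a : R => a ^ 2 = 1) := by
    intro a ha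
    rw [Finset.mem_filter]
    refine ⟨Finset.mem_univ _, ?_⟩
    simp only [Finset.mem_insert, Finset.mem_singleton] at ha
    rcases ha with ha | ha | ha
    · rw [ha, one_pow]
    · rw [ha, pow_two]
      exact Subtype.ext (C.zz E)
    · rw [ha, pow_two]
      exact Subtype.ext h
  have h3 : ({(1 : R), ⟨φ c, C.z_mem E⟩, ⟨r, hr⟩} : Finset R).card = 3 := by
    rw [Finset.card_insert_of_notMem, Finset.card_insert_of_notMem, Finset.card_singleton]
    · rw [Finset.mem_singleton]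
      intro h4
      exact hne.2 (congrArg Subtype.val h4).symm
    · rw [Finset.mem_insert, Finset.mem_singleton]
      rintro (h4 | h4)
      · exact C.z_ne E (congrArg Subtype.val h4).symm
      · exact hne.1 (congrArg Subtype.val h4).symm
  have := Finset.card_le_card hsub
  omega

/-- The involutions of `K R`. -/
theorem kr_inv [Finite G] {h : G} {w : W} (a : Ac δ φ h w) (hw : δ w = 1) (h2 : h * h = 1) :
    (∃ k : W, δ k = 1 ∧ k * k = 1 ∧ h = φ k) ∨
      ∃ v : W, ∃ r ∈ R, δ v = 1 ∧ v * v = c ∧ r * r = φ c ∧ h = φ v * r := by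
  obtain ⟨r, hr, rfl⟩ := C.exists_of_ac a hw
  have e1 : φ w * r * (φ w * r) = φ (w * w) * (r * r) := by
    rw [C.mul _ _ hw hw, mul_assoc, ← mul_assoc r, C.r_comm hr hw]
    simp only [mul_assoc]
  rw [e1] at h2
  have hww : δ (w * w) = 1 := by rw [map_mul, hw, one_mul]
  have e2 : φ (w * w) = (r * r)⁻¹ := eq_inv_of_mul_eq_one_left h2
  have e3 : φ (w * w) ∈ R := by rw [e2]; exact R.inv_mem (R.mul_mem hr hr)
  rcases C.phi_mem_R E hww e3 with h3 | h3
  · left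
    rw [h3, C.one', one_mul] at h2
    rcases C.r_inv E hr h2 with h4 | h4
    · exact ⟨w, hw, h3, by rw [h4, mul_one]⟩
    · refine ⟨w * c, by rw [map_mul, hw, E.c_det, one_mul], ?_, by rw [h4, C.mul _ _ hw E.c_det]⟩
      have : w * c * (w * c) = w * w * (c * c) := by
        rw [mul_assoc, ← mul_assoc c, E.c_comm w]
        simp only [mul_assoc]
      rw [this, h3, E.c_sq, one_mul]
  · right
    refine ⟨w, r, hr, hw, h3, ?_, rfl⟩
    rw [h3] at h2
    rw [← inv_inj, ← eq_inv_of_mul_eq_one_left h2]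
    exact (inv_eq_of_mul_eq_one_right (C.zz E)).symm

end Cfg

/-- A subgroup of "index at most two". -/
theorem card_le_two_mul {A : Type*} [Group A] [Finite A] (M M₁ : Subgroup A)
    (h : ∀ a ∈ M, a ∉ M₁ → ∀ b ∈ M, b ∉ M₁ → a * b ∈ M₁) : Nat.card M ≤ 2 * Nat.card M₁ := by
  classical
  by_cases hM : M ≤ M₁
  · have := Subgroup.card_le_of_le hM
    omega
  · rw [SetLike.not_le_iff_exists] at hM
    obtain ⟨a, ha, ha1⟩ := hM
    have hb : ∀ b ∈ M, b ∉ M₁ → a * b ∈ M₁ := fun b hb hb1 => h a ha ha1 b hb hb1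
    have : Nat.card (M₁ × Bool) = 2 * Nat.card M₁ := by
      rw [Nat.card_prod]
      simp [mul_comm]
    rw [← this]
    let F : M → M₁ × Bool := fun b =>
      if hb1 : (b : A) ∈ M₁ then (⟨b, hb1⟩, true) else (⟨a * b, hb b b.2 hb1⟩, false)
    apply Nat.card_le_card_of_injective F
    intro x y hxy
    by_cases hx : (x : A) ∈ M₁ <;> by_cases hy : (y : A) ∈ M₁
    · simp only [F, dif_pos hx, dif_pos hy, Prod.mk.injEq, Subtype.mk.injEq, and_true] at hxy
      exact Subtype.ext hxy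
    · simp only [F, dif_pos hx, dif_neg hy, Prod.mk.injEq] at hxy
      exact absurd hxy.2 (by decide)
    · simp only [F, dif_neg hx, dif_pos hy, Prod.mk.injEq] at hxy
      exact absurd hxy.2 (by decide)
    · simp only [F, dif_neg hx, dif_neg hy, Prod.mk.injEq, Subtype.mk.injEq, and_true,
        mul_right_inj] at hxy
      exact Subtype.ext hxy

namespace Cfg

variable (C : Cfg δ c φ R) (E : EF δ c Rf)

include C

/-- The preimage in `K₀` of a subgroup. -/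
def pre (M : Subgroup G) : Subgroup W where
  carrier := {k | δ k = 1 ∧ φ k ∈ M}
  one_mem' := ⟨map_one δ, by rw [C.one']; exact M.one_mem⟩
  mul_mem' {a b} ha hb := ⟨by rw [map_mul, ha.1, hb.1, one_mul], by
    rw [C.mul _ _ ha.1 hb.1]; exact M.mul_mem ha.2 hb.2⟩
  inv_mem' {a} ha := ⟨by rw [map_inv, ha.1, inv_one], by rw [C.inv' ha.1]; exact M.inv_mem ha.2⟩

theorem mem_pre {M : Subgroup G} {k : W} : k ∈ C.pre M ↔ δ k = 1 ∧ φ k ∈ M := Iff.rfl

theorem pre_le (M : Subgroup G) : C.pre M ≤ δ.ker := fun _ h => h.1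

theorem pre_el {M : Subgroup G} (hM : IsEl M) : IsEl (C.pre M) := by
  constructor
  · intro x hx
    apply C.inj _ _ (by rw [map_mul, hx.1, one_mul]) (map_one δ)
    rw [C.mul _ _ hx.1 hx.1, hM.1 _ hx.2, C.one']
  · intro x hx y hy
    apply C.inj _ _ (by rw [map_mul, hx.1, hy.1, one_mul]) (by rw [map_mul, hx.1, hy.1, one_mul])
    rw [C.mul _ _ hx.1 hy.1, C.mul _ _ hy.1 hx.1, hM.2 _ hx.2 _ hy.2]

/-- the elements of `M` in `φ K₀` -/
def kpart (M : Subgroup G) : Subgroup G where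
  carrier := {h | h ∈ M ∧ ∃ k, δ k = 1 ∧ φ k = h}
  one_mem' := ⟨M.one_mem, 1, map_one δ, C.one'⟩
  mul_mem' {a b} ha hb := ⟨M.mul_mem ha.1 hb.1, by
    obtain ⟨k, hk, rfl⟩ := ha.2
    obtain ⟨l, hl, rfl⟩ := hb.2
    exact ⟨k * l, by rw [map_mul, hk, hl, one_mul], C.mul _ _ hk hl⟩⟩
  inv_mem' {a} ha := ⟨M.inv_mem ha.1, by
    obtain ⟨k, hk, rfl⟩ := ha.2
    exact ⟨k⁻¹, by rw [map_inv, hk, inv_one], C.inv' hk⟩⟩

theorem mem_kpart {M : Subgroup G} {h : G} : h ∈ C.kpart M ↔ h ∈ M ∧ ∃ k, δ k = 1 ∧ φ k = h := Iff.rfl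

theorem kpart_le (M : Subgroup G) : C.kpart M ≤ M := fun _ h => h.1

theorem card_pre (M : Subgroup G) : Nat.card (C.pre M) = Nat.card (C.kpart M) := by
  apply Nat.card_eq_of_bijective 
    (fun k : C.pre M => (⟨φ k, k.2.2, k, k.2.1, rfl⟩ : C.kpart M))
  constructor
  · intro x y hxy
    exact Subtype.ext (C.inj _ _ x.2.1 y.2.1 (congrArg Subtype.val hxy))
  · rintro ⟨h, hM, k, hk, rfl⟩
    exact ⟨⟨k, hk, hM⟩, rfl⟩

include E

/-- **(W3)** An elementary abelian subgroup of `K R` of order at least `2⁶` lies in `K`. -/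
theorem el_in_K [Finite G] {M : Subgroup G} (hM : IsEl M)
    (hMK : ∀ h ∈ M, ∃ w, Ac δ φ h w ∧ δ w = 1) (hcard : 2 ^ 5 < Nat.card M) :
    ∀ h ∈ M, ∃ k, δ k = 1 ∧ φ k = h := by
  by_contra hcon
  push Not at hcon
  obtain ⟨h, hhM, hh⟩ := hcon
  have key : ∀ h ∈ M, (∀ k, δ k = 1 → φ k ≠ h) →
      ∃ v : W, ∃ r ∈ R, δ v = 1 ∧ v * v = c ∧ r * r = φ c ∧ h = φ v * r := by
    intro h hhM hh
    obtain ⟨w, a, hw⟩ := hMK h hhM
    rcases C.kr_inv E a hw (hM.1 h hhM) with ⟨k, hk, -, h3⟩ | h3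
    · exact absurd h3.symm (hh k hk)
    · exact h3
  obtain ⟨v, r, hr, hv, hvv, hrr, h3⟩ := key h hhM hh
  -- the part in `K` has order at most 16
  have hc1 : Nat.card (C.pre M) ≤ 2 ^ 4 := by
    apply E.cx_card v hvv _ (C.pre_le M) (C.pre_el hM)
    intro x hx
    have h4 := hM.2 h hhM _ hx.2
    rw [h3, mul_assoc, C.r_comm hr hx.1, ← mul_assoc, ← mul_assoc, mul_left_inj] at h4
    apply C.inj _ _ (by rw [map_mul, hx.1, hv, one_mul]) (by rw [map_mul, hx.1, hv, one_mul])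
    rw [C.mul _ _ hv hx.1, C.mul _ _ hx.1 hv, h4]
  rw [C.card_pre] at hc1
  have hc2 := card_le_two_mul M (C.kpart M) (by
    intro a ha ha1 b hb hb1
    refine ⟨M.mul_mem ha hb, ?_⟩
    obtain ⟨v, r, hr, hv, hvv, hrr, h3⟩ := key a ha (fun k hk h => ha1 ⟨ha, k, hk, h⟩)
    obtain ⟨v', r', hr', hv', hvv', hrr', h3'⟩ := key b hb (fun k hk h => hb1 ⟨hb, k, hk, h⟩)
    have e1 : a * b = φ (v * v') * (r * r') := by
      rw [h3, h3', C.mul _ _ hv hv', mul_assoc, ← mul_assoc r, C.r_comm hr hv']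
      simp only [mul_assoc]
    have hvv1 : δ (v * v') = 1 := by rw [map_mul, hv, hv', one_mul]
    have e2 : (r * r') * (r * r') = 1 := by
      have : (r * r') * (r * r') = (r * r) * (r' * r') := by
        rw [mul_assoc, ← mul_assoc r', C.r_ab hr' hr]
        simp only [mul_assoc]
      rw [this, hrr, hrr', C.zz E]
    rcases C.r_inv E (R.mul_mem hr hr') e2 with h4 | h4
    · exact ⟨v * v', hvv1, by rw [e1, h4, mul_one]⟩
    · exact ⟨v * v' * c, by rw [map_mul, hvv1, E.c_det, one_mul], by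
        rw [e1, h4, C.mul _ _ hvv1 E.c_det]⟩)
  omega

end Cfg

end Cfsg.Agent.OddHalf.D9.EEight
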