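import Cfsg.Agent.OddHalf.D9.EEight.Model

/-!
# The E8 lattice: coordinates (helper109)

`cd x` = twice the Bourbaki coordinates of `∑ xᵢ αᵢ` in `ℝ⁸` (so `4 * form x y = cd x ⬝ᵥ cd y`). `forall_root`: a
decidable property of roots (`form a a = 2`) can be checked on the list `rts` of the 240 roots.
-/

set_option autoImplicit false

namespace Cfsg.Agent.OddHalf.D9.EEight.Coord

open Matrix

/-- Bourbaki coordinates of the simple roots, times two -/
def C : Matrix (Fin 8) (Fin 8) ℤ :=
  !![ 1, 2, -2, 0, 0, 0, 0, 0;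
     -1, 2, 2, -2, 0, 0, 0, 0;
     -1, 0, 0, 2, -2, 0, 0, 0;
     -1, 0, 0, 0, 2, -2, 0, 0;
     -1, 0, 0, 0, 0, 2, -2, 0;
     -1, 0, 0, 0, 0, 0, 2, -2;
     -1, 0, 0, 0, 0, 0, 0, 2;
      1, 0, 0, 0, 0, 0, 0, 0]

theorem C_gram : Cᵀ * C = (4 : ℤ) • CartanMatrix.E₈ := by decide +kernel

/-- `4 C⁻¹` -/
def D : Matrix (Fin 8) (Fin 8) ℤ :=
  !![0, 0, 0, 0, 0, 0, 0, 4;
     1, 1, 1, 1, 1, 1, 1, 5;
     -1, 1, 1, 1, 1, 1, 1, 7;
     0, 0, 2, 2, 2, 2, 2, 10;
     0, 0, 0, 2, 2, 2, 2, 8;
     0, 0, 0, 0, 2, 2, 2, 6;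
     0, 0, 0, 0, 0, 2, 2, 4;
     0, 0, 0, 0, 0, 0, 2, 2]

theorem D_mul_C : D * C = (4 : ℤ) • (1 : Matrix (Fin 8) (Fin 8) ℤ) := by decide +kernel

theorem C_mul_D : C * D = (4 : ℤ) • (1 : Matrix (Fin 8) (Fin 8) ℤ) := by decide +kernel

/-- coordinates -/
def cd (x : Lat) : Lat := C *ᵥ x

theorem four_form (x y : Lat) : 4 * form x y = cd x ⬝ᵥ cd y := by
  have h : cd x ⬝ᵥ cd y = x ⬝ᵥ ((Cᵀ * C) *ᵥ y) := by
    unfold cd
    rw [Matrix.dotProduct_mulVec, Matrix.vecMul_mulVec, ← Matrix.mulVec_mulVec, Matrix.dotProduct_mulVec,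
      Matrix.dotProduct_mulVec]
    congr 1
    rw [← Matrix.vecMul_vecMul]
  rw [h, C_gram, Matrix.smul_mulVec, dotProduct_smul]
  rfl

theorem D_cd (x : Lat) : D *ᵥ cd x = (4 : ℤ) • x := by
  unfold cd
  rw [Matrix.mulVec_mulVec, D_mul_C, Matrix.smul_mulVec, Matrix.one_mulVec]

theorem cd_injective : Function.Injective cd := by
  intro x y h
  have h1 : (4 : ℤ) • x = (4 : ℤ) • y := by rw [← D_cd, ← D_cd, h]
  funext i
  have := congrFun h1 i
  simp only [Pi.smul_apply, smul_eq_mul] at this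
  omega

theorem cd_add (x y : Lat) : cd (x + y) = cd x + cd y := Matrix.mulVec_add _ _ _
theorem cd_sub (x y : Lat) : cd (x - y) = cd x - cd y := Matrix.mulVec_sub _ _ _
theorem cd_smul (n : ℤ) (x : Lat) : cd (n • x) = n • cd x := Matrix.mulVec_smul _ _ _
theorem cd_neg (x : Lat) : cd (-x) = - cd x := by unfold cd; rw [Matrix.mulVec_neg]
theorem cd_zero : cd 0 = 0 := Matrix.mulVec_zero _

section explicit
variable (x : Lat)
theorem cd0 : cd x 0 = x 0 + 2 * x 1 - 2 * x 2 := by
  simp [cd, C, Matrix.mulVec, dotProduct, Fin.sum_univ_eight]; ring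
theorem cd1 : cd x 1 = - x 0 + 2 * x 1 + 2 * x 2 - 2 * x 3 := by
  simp [cd, C, Matrix.mulVec, dotProduct, Fin.sum_univ_eight]; ring
theorem cd2 : cd x 2 = - x 0 + 2 * x 3 - 2 * x 4 := by
  simp [cd, C, Matrix.mulVec, dotProduct, Fin.sum_univ_eight]; ring
theorem cd3 : cd x 3 = - x 0 + 2 * x 4 - 2 * x 5 := by
  simp [cd, C, Matrix.mulVec, dotProduct, Fin.sum_univ_eight]; ring
theorem cd4 : cd x 4 = - x 0 + 2 * x 5 - 2 * x 6 := by
  simp [cd, C, Matrix.mulVec, dotProduct, Fin.sum_univ_eight]; ring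
theorem cd5 : cd x 5 = - x 0 + 2 * x 6 - 2 * x 7 := by
  simp [cd, C, Matrix.mulVec, dotProduct, Fin.sum_univ_eight]; ring
theorem cd6 : cd x 6 = - x 0 + 2 * x 7 := by
  simp [cd, C, Matrix.mulVec, dotProduct, Fin.sum_univ_eight]
theorem cd7 : cd x 7 = x 0 := by
  simp [cd, C, Matrix.mulVec, dotProduct, Fin.sum_univ_eight]
end explicit

attribute [irreducible] cd

/-! ### Enumeration -/

/-- integer lists of length `n` with entries in `vals` and sum of squares `b` -/
def enumV (vals : List ℤ) : ℕ → ℤ → List (List ℤ)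
  | 0, b => if b = 0 then [[]] else []
  | n + 1, b => vals.flatMap fun v => if v * v ≤ b then (enumV vals n (b - v * v)).map (v :: ·) else []

theorem mem_enumV (vals : List ℤ) : ∀ (l : List ℤ), (∀ v ∈ l, v ∈ vals) →
    l ∈ enumV vals l.length ((l.map fun v => v * v).sum) := by
  intro l
  induction l with
  | nil => intro _; simp [enumV]
  | cons v l ih =>
    intro h
    have h1 := ih fun w hw => h w (List.mem_cons_of_mem _ hw)
    have hnn : 0 ≤ (l.map fun v => v * v).sum := List.sum_nonneg fun x hx => by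
      obtain ⟨w, _, rfl⟩ := List.mem_map.1 hx
      exact mul_self_nonneg w
    simp only [List.length_cons, List.map_cons, List.sum_cons, enumV, List.mem_flatMap]
    refine ⟨v, h v List.mem_cons_self, ?_⟩
    rw [if_pos (by linarith)]
    refine List.mem_map.2 ⟨l, ?_, rfl⟩
    have e : v * v + (l.map fun v => v * v).sum - v * v = (l.map fun v => v * v).sum := by ring
    rw [e]
    exact h1

/-- dot product of lists -/
def dotL : List ℤ → List ℤ → ℤ
  | a :: l, b :: m => a * b + dotL l m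
  | _, _ => 0

/-- a vector as a list -/
def toL (y : Lat) : List ℤ := [y 0, y 1, y 2, y 3, y 4, y 5, y 6, y 7]

/-- a list as a vector -/
def ofL (l : List ℤ) : Lat := fun i => l.getD i 0

theorem ofL_toL (y : Lat) : ofL (toL y) = y := by
  funext i
  fin_cases i <;> rfl

/-- the coordinates of the 240 roots -/
def cdL : List (List ℤ) := enumV [-2, 0, 2] 8 8 ++ (enumV [-1, 1] 8 8).filter fun l => l.sum % 4 = 0

/-- back from the coordinates -/
def unL (l : List ℤ) : Lat := fun i => (D *ᵥ ofL l) i / 4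

theorem unL_cd (x : Lat) : unL (toL (cd x)) = x := by
  funext i
  unfold unL
  rw [ofL_toL, D_cd]
  simp

theorem toL_mem {y : Lat} {v : ℤ} (hv : v ∈ toL y) : ∃ i, v = y i := by
  simp only [toL, List.mem_cons, List.not_mem_nil, or_false] at hv
  rcases hv with h | h | h | h | h | h | h | h
  exacts [⟨0, h⟩, ⟨1, h⟩, ⟨2, h⟩, ⟨3, h⟩, ⟨4, h⟩, ⟨5, h⟩, ⟨6, h⟩, ⟨7, h⟩]

theorem m1 (a b c : ℤ) : (a + 2 * b - 2 * c) % 2 = a % 2 := by omega
theorem m2 (a b c : ℤ) : (- a + 2 * b - 2 * c) % 2 = a % 2 := by omega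
theorem m3 (a b : ℤ) : (- a + 2 * b) % 2 = a % 2 := by omega
theorem m4 (a b c d : ℤ) : (- a + 2 * b + 2 * c - 2 * d) % 2 = a % 2 := by omega

theorem cd_mod (x : Lat) (i : Fin 8) : cd x i % 2 = x 0 % 2 := by
  fin_cases i
  · show cd x 0 % 2 = _; rw [cd0, m1]
  · show cd x 1 % 2 = _; rw [cd1, m4]
  · show cd x 2 % 2 = _; rw [cd2, m2]
  · show cd x 3 % 2 = _; rw [cd3, m2]
  · show cd x 4 % 2 = _; rw [cd4, m2]
  · show cd x 5 % 2 = _; rw [cd5, m2]
  · show cd x 6 % 2 = _; rw [cd6, m3]
  · show cd x 7 % 2 = _; rw [cd7]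

theorem sum_cd (x : Lat) : (toL (cd x)).sum = 4 * (x 1 - x 0) := by
  simp only [toL, List.sum_cons, List.sum_nil, cd0, cd1, cd2, cd3, cd4, cd5, cd6, cd7]
  ring

theorem sum_sq (y : Lat) : ((toL y).map fun v => v * v).sum = y ⬝ᵥ y := by
  simp only [toL, List.map_cons, List.map_nil, List.sum_cons, List.sum_nil, dotProduct, Fin.sum_univ_eight]
  ring

theorem sq_le (y : Lat) (i : Fin 8) : y i * y i ≤ y ⬝ᵥ y := by
  unfold dotProduct
  exact Finset.single_le_sum (f := fun i => y i * y i) (fun j _ => mul_self_nonneg (y j)) (Finset.mem_univ i)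

theorem cd_mem (x : Lat) (h : form x x = 2) : toL (cd x) ∈ cdL := by
  have h4 : cd x ⬝ᵥ cd x = 8 := by rw [← four_form, h]; norm_num
  have hsum : ((toL (cd x)).map fun v => v * v).sum = 8 := by rw [sum_sq, h4]
  have hb : ∀ i, cd x i * cd x i ≤ 8 := fun i => h4 ▸ sq_le (cd x) i
  have hb' : ∀ i, -2 ≤ cd x i ∧ cd x i ≤ 2 := fun i => by
    have := hb i
    constructor <;> nlinarith
  have hpar := cd_mod x
  have hlen : (toL (cd x)).length = 8 := rfl
  unfold cdL
  rw [List.mem_append]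
  rcases Int.emod_two_eq_zero_or_one (x 0) with hx | hx
  · left
    have := mem_enumV [-2, 0, 2] (toL (cd x)) (fun v hv => by
      obtain ⟨i, rfl⟩ := toL_mem hv
      have h1 := hb' i
      have h2 := hpar i
      have : cd x i = -2 ∨ cd x i = 0 ∨ cd x i = 2 := by omega
      simpa using this)
    rw [hsum, hlen] at this
    exact this
  · right
    rw [List.mem_filter]
    have := mem_enumV [-1, 1] (toL (cd x)) (fun v hv => by
      obtain ⟨i, rfl⟩ := toL_mem hv
      have h1 := hb' i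
      have h2 := hpar i
      have : cd x i = -1 ∨ cd x i = 1 := by omega
      simpa using this)
    rw [hsum, hlen] at this
    refine ⟨this, ?_⟩
    rw [sum_cd]
    simp

/-- decoding: octal digits minus two -/
def dec (n : ℕ) : List ℤ :=
  [(n % 8 : ℕ) - 2, (n / 8 % 8 : ℕ) - 2, (n / 64 % 8 : ℕ) - 2, (n / 512 % 8 : ℕ) - 2, (n / 4096 % 8 : ℕ) - 2,
    (n / 32768 % 8 : ℕ) - 2, (n / 262144 % 8 : ℕ) - 2, (n / 2097152 % 8 : ℕ) - 2]

/-- the coordinates of the 240 roots, coded -/
def RN : List ℕ := [4793508, 4793476, 4793504, 4793472, 4793620, 4793364, 4793616, 4793360, 4794516, 4792468, 4794512, 4792464,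
  4801684, 4785300, 4801680, 4785296, 4859028, 4727956, 4859024, 4727952, 5317780, 4269204, 5317776, 4269200,
  8987796, 599188, 8987792, 599184, 4793634, 4793378, 4793602, 4793346, 4794530, 4792482, 4794498, 4792450,
  4801698, 4785314, 4801666, 4785282, 4859042, 4727970, 4859010, 4727938, 5317794, 4269218, 5317762, 4269186,
  8987810, 599202, 8987778, 599170, 4794642, 4792594, 4794386, 4792338, 4801810, 4785426, 4801554, 4785170,
  4859154, 4728082, 4858898, 4727826, 5317906, 4269330, 5317650, 4269074, 8987922, 599314, 8987666, 599058,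
  4802706, 4786322, 4800658, 4784274, 4860050, 4728978, 4858002, 4726930, 5318802, 4270226, 5316754, 4268178,
  8988818, 600210, 8986770, 598162, 4867218, 4736146, 4850834, 4719762, 5325970, 4277394, 5309586, 4261010,
  8995986, 607378, 8979602, 590994, 5383314, 4334738, 5252242, 4203666, 9053330, 664722, 8922258, 533650,
  9512082, 1123474, 8463506, 74898, 7190235, 2471643, 2930395, 6600411, 2987739, 6657755, 7116507, 2397915,
  2994907, 6664923, 7123675, 2405083, 7181019, 2462427, 2921179, 6591195, 2995803, 6665819, 7124571, 2405979,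
  7181915, 2463323, 2922075, 6592091, 7189083, 2470491, 2929243, 6599259, 2986587, 6656603, 7115355, 2396763,
  2995915, 6665931, 7124683, 2406091, 7182027, 2463435, 2922187, 6592203, 7189195, 2470603, 2929355, 6599371,
  2986699, 6656715, 7115467, 2396875, 7190091, 2471499, 2930251, 6600267, 2987595, 6657611, 7116363, 2397771,
  2994763, 6664779, 7123531, 2404939, 7180875, 2462283, 2921035, 6591051, 2995929, 6665945, 7124697, 2406105,
  7182041, 2463449, 2922201, 6592217, 7189209, 2470617, 2929369, 6599385, 2986713, 6656729, 7115481, 2396889,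
  7190105, 2471513, 2930265, 6600281, 2987609, 6657625, 7116377, 2397785, 2994777, 6664793, 7123545, 2404953,
  7180889, 2462297, 2921049, 6591065, 7190217, 2471625, 2930377, 6600393, 2987721, 6657737, 7116489, 2397897,
  2994889, 6664905, 7123657, 2405065, 7181001, 2462409, 2921161, 6591177, 2995785, 6665801, 7124553, 2405961,
  7181897, 2463305, 2922057, 6592073, 7189065, 2470473, 2929225, 6599241, 2986569, 6656585, 7115337, 2396745]

/-- coding -/
def enc : List ℤ → ℕ
  | [] => 0
  | a :: l => (a + 2).toNat + 8 * enc l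

/-- the coordinates of the 240 roots -/
def RL : List (List ℤ) := RN.map dec

theorem RL_complete : ∀ l ∈ cdL, l ∈ RL := by
  have : cdL.all (fun l => RN.contains (enc l) && decide (dec (enc l) = l)) = true := by decide +kernel
  intro l hl
  have h := List.all_eq_true.1 this l hl
  simp only [Bool.and_eq_true, decide_eq_true_eq, List.contains_iff_mem] at h
  exact List.mem_map.2 ⟨_, h.1, h.2⟩

theorem RL_check : RL.all (fun l => decide (l.length = 8) && decide (dotL l l = 8) &&
    (toL (D *ᵥ ofL l)).all (fun v => decide (v % 4 = 0))) = true := by decide +kernel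

theorem RL_length {l : List ℤ} (hl : l ∈ RL) : l.length = 8 := by
  have := List.all_eq_true.1 RL_check l hl
  simp only [Bool.and_eq_true, decide_eq_true_eq] at this
  exact this.1.1

theorem toL_ofL {l : List ℤ} (hl : l.length = 8) : toL (ofL l) = l := by
  match l, hl with
  | [a, b, c, d, e, f, g, h], _ => rfl

theorem mem_toL (y : Lat) (i : Fin 8) : y i ∈ toL y := by
  fin_cases i <;> simp [toL]

theorem cd_unL {l : List ℤ} (hl : l ∈ RL) : cd (unL l) = ofL l := by
  have := List.all_eq_true.1 RL_check l hl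
  simp only [Bool.and_eq_true, List.all_eq_true, decide_eq_true_eq] at this
  have h1 : (4 : ℤ) • unL l = D *ᵥ ofL l := by
    funext i
    show 4 * unL l i = _
    unfold unL
    have h2 := this.2 _ (mem_toL (D *ᵥ ofL l) i)
    generalize (D *ᵥ ofL l) i = t at h2
    omega
  have h3 : (4 : ℤ) • cd (unL l) = (4 : ℤ) • ofL l := by
    rw [← cd_smul, h1]
    unfold cd
    rw [Matrix.mulVec_mulVec, C_mul_D, Matrix.smul_mulVec, Matrix.one_mulVec]
  funext i
  have := congrFun h3 i
  simp only [Pi.smul_apply, smul_eq_mul] at this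
  omega

theorem toL_cd_unL {l : List ℤ} (hl : l ∈ RL) : toL (cd (unL l)) = l := by
  rw [cd_unL hl, toL_ofL (RL_length hl)]

theorem dotL_toL (x y : Lat) : dotL (toL x) (toL y) = x ⬝ᵥ y := by
  simp only [toL, dotL, dotProduct, Fin.sum_univ_eight]
  ring

theorem form_dotL (x y : Lat) : 4 * form x y = dotL (toL (cd x)) (toL (cd y)) := by
  rw [four_form, dotL_toL]

theorem exists_rep {a : Lat} (ha : form a a = 2) : ∃ l ∈ RL, a = unL l ∧ toL (cd a) = l :=
  ⟨_, RL_complete _ (cd_mem a ha), (unL_cd a).symm, rfl⟩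

theorem form_unL {l m : List ℤ} (hl : l ∈ RL) (hm : m ∈ RL) : 4 * form (unL l) (unL m) = dotL l m := by
  rw [form_dotL, toL_cd_unL hl, toL_cd_unL hm]

theorem isRoot_unL {l : List ℤ} (hl : l ∈ RL) : IsRoot (unL l) := by
  have h1 := List.all_eq_true.1 RL_check l hl
  have h2 := form_unL hl hl
  simp only [Bool.and_eq_true, decide_eq_true_eq] at h1
  have h3 := h1.1.2
  unfold IsRoot
  omega

theorem card_RN : RN.length = 240 ∧ RN.Nodup := by decide +kernel

end Cfsg.Agent.OddHalf.D9.EEight.Coord
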