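import Mathlib
import Cfsg.Agent.OddHalf.D9.EEight.Count

/-!
# Row `2.O8+(2)`: the cases of 127, 17 conjugates
-/

set_option autoImplicit false

namespace Cfsg.Agent.OddHalf.D9.EEight.Count

open Subgroup

variable {G : Type*} [Group G]

/-- (B) `127` conjugates is impossible. -/
theorem not_127 [Finite G] (M : Subgroup G) (hM : Nat.card M = 2 ^ 7)
    (hsq : ∀ x ∈ M, x * x = 1) (z : G) (hzM : z ∈ M) (hz1 : z ≠ 1) (N : Subgroup G)
    (htr : ∀ y ∈ M, y ≠ 1 → ∃ n ∈ N, n * z * n⁻¹ = y)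
    (hN : ∀ n ∈ N, ∀ m ∈ M, n * m * n⁻¹ ∈ M)
    (S : Set G) (hSM : ∀ y ∈ S, y ∈ M) (hS : Nat.card S = 70)
    (hSinv : ∀ n ∈ N, n * z * n⁻¹ = z → ∀ y ∈ S, n * y * n⁻¹ ∈ S)
    (hStr : ∀ x ∈ S, ∀ y ∈ S, ∃ n ∈ N, n * z * n⁻¹ = z ∧ n * x * n⁻¹ = y)
    (hSz : ∀ y ∈ S, y * z ∈ S) (h1S : (1 : G) ∉ S) (hzS : z ∉ S)
    (hsmall : ∀ y ∈ M, y ≠ 1 → y ≠ z → y ∉ S →
      Nat.card {x : G // ∃ n ∈ N ⊓ centralizer {z}, n * y * n⁻¹ = x} < 70) : False := by
  classical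
  have hinv : ∀ w ∈ M, w⁻¹ = w := fun w hw => inv_eq_of_mul_eq_one_left (hsq w hw)
  have hc : ∀ x ∈ M, ∀ y ∈ M, x * y = y * x := fun x hx y hy => by
    calc x * y = (x * y)⁻¹ := (hinv _ (M.mul_mem hx hy)).symm
      _ = y⁻¹ * x⁻¹ := mul_inv_rev _ _
      _ = y * x := by rw [hinv x hx, hinv y hy]
  have hcomp : ∀ n m x : G, n * m * x * (n * m)⁻¹ = n * (m * x * m⁻¹) * n⁻¹ := by
    intro n m x; group
  -- the relation
  set P : Set (G × G) := {p | ∃ n ∈ N, ∃ s ∈ S, n * z * n⁻¹ = p.1 ∧ n * s * n⁻¹ = p.2} with hP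
  have hmemS : ∀ n ∈ N, n * z * n⁻¹ = z → ∀ y, n * y * n⁻¹ ∈ S → y ∈ S := by
    intro n hn hnz y hy
    have h1 : n⁻¹ * z * n⁻¹⁻¹ = z := by
      calc n⁻¹ * z * n⁻¹⁻¹ = n⁻¹ * (n * z * n⁻¹) * n⁻¹⁻¹ := by rw [hnz]
        _ = z := by group
    have h2 := hSinv n⁻¹ (N.inv_mem hn) h1 _ hy
    have h3 : n⁻¹ * (n * y * n⁻¹) * n⁻¹⁻¹ = y := by group
    rwa [h3] at h2
  have hPz : ∀ y, (z, y) ∈ P ↔ y ∈ S := by
    intro y
    constructor
    · rintro ⟨n, hn, s, hs, h1, h2⟩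
      have := hSinv n hn h1 s hs
      rwa [h2] at this
    · intro hy
      exact ⟨1, N.one_mem, y, hy, by simp, by simp⟩
  have hPconj : ∀ n ∈ N, ∀ x y, (x, y) ∈ P → (n * x * n⁻¹, n * y * n⁻¹) ∈ P := by
    rintro n hn x y ⟨m, hm, s, hs, h1, h2⟩
    refine ⟨n * m, N.mul_mem hn hm, s, hs, ?_, ?_⟩
    · change n * m * z * (n * m)⁻¹ = n * x * n⁻¹
      have h1' : m * z * m⁻¹ = x := h1
      rw [← h1']; group
    · change n * m * s * (n * m)⁻¹ = n * y * n⁻¹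
      have h2' : m * s * m⁻¹ = y := h2
      rw [← h2']; group
  obtain ⟨s0, hs0⟩ : S.Nonempty := by
    rw [Set.nonempty_iff_ne_empty]
    intro h
    rw [h] at hS
    simp at hS
  have hs01 : s0 ≠ 1 := fun h => h1S (h ▸ hs0)
  -- all pairs of `P` are conjugate to `(z, s0)`
  have hPtr : ∀ x y, (x, y) ∈ P → ∃ n ∈ N, n * z * n⁻¹ = x ∧ n * s0 * n⁻¹ = y := by
    rintro x y ⟨n, hn, s, hs, h1, h2⟩
    obtain ⟨m, hm, h3, h4⟩ := hStr s0 hs0 s hs
    have h1' : n * z * n⁻¹ = x := h1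
    have h2' : n * s * n⁻¹ = y := h2
    exact ⟨n * m, N.mul_mem hn hm, by rw [hcomp, h3, h1'], by rw [hcomp, h4, h2']⟩
  -- `P` is symmetric
  obtain ⟨n0, hn0, hn0s⟩ : ∃ n ∈ N, n * s0 * n⁻¹ = z := by
    obtain ⟨n, hn, h1⟩ := htr s0 (hSM _ hs0) hs01
    exact ⟨n⁻¹, N.inv_mem hn, by rw [← h1]; group⟩
  have hy0 : n0 * z * n0⁻¹ ∈ S := by
    by_contra hcon
    have hyM : n0 * z * n0⁻¹ ∈ M := hN n0 hn0 z hzM
    have hy1 : n0 * z * n0⁻¹ ≠ 1 := fun h => hz1 (by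
      calc z = n0⁻¹ * (n0 * z * n0⁻¹) * n0 := by group
        _ = 1 := by rw [h]; group)
    have hyz : n0 * z * n0⁻¹ ≠ z := fun h => hzS (by
      have h1 : n0 * z * n0⁻¹ = n0 * s0 * n0⁻¹ := h.trans hn0s.symm
      have h2 : z = s0 := by
        calc z = n0⁻¹ * (n0 * z * n0⁻¹) * n0 := by group
          _ = s0 := by rw [h1]; group
      rw [h2]; exact hs0)
    have h1 := hsmall _ hyM hy1 hyz hcon
    have h2 := orb_mul_stab (N ⊓ centralizer {z}) (n0 * z * n0⁻¹)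
    have h3 := orb_mul_stab (N ⊓ centralizer {z}) s0
    have h4 : Nat.card {y : G // ∃ n ∈ N ⊓ centralizer {z}, n * s0 * n⁻¹ = y} = 70 := by
      rw [← hS]
      refine Nat.card_congr (Equiv.subtypeEquivRight ?_)
      intro y
      constructor
      · rintro ⟨n, hn, rfl⟩
        refine hSinv n hn.1 ?_ s0 hs0
        rw [mem_centralizer_singleton_iff.mp hn.2]; group
      · intro hy
        obtain ⟨n, hn, h5, h6⟩ := hStr s0 hs0 y hy
        refine ⟨n, mem_inf.mpr ⟨hn, ?_⟩, h6⟩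
        rw [mem_centralizer_singleton_iff]
        calc n * z = (n * z * n⁻¹) * n := by group
          _ = z * n := by rw [h5]
    have h5 : Nat.card ((N ⊓ centralizer {z} ⊓ centralizer {s0} : Subgroup G)) =
        Nat.card ((N ⊓ centralizer {z} ⊓ centralizer {n0 * z * n0⁻¹} : Subgroup G)) := by
      have hcen : ∀ (g x : G), g ∈ centralizer {x} ↔ g * x * g⁻¹ = x := by
        intro g x
        rw [mem_centralizer_singleton_iff]
        constructor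
        · intro h; rw [h]; group
        · intro h
          calc g * x = (g * x * g⁻¹) * g := by group
            _ = x * g := by rw [h]
      refine Nat.card_congr ((MulAut.conj n0).toEquiv.subtypeEquiv ?_)
      intro g
      change g ∈ N ⊓ centralizer {z} ⊓ centralizer {s0} ↔
        n0 * g * n0⁻¹ ∈ N ⊓ centralizer {z} ⊓ centralizer {n0 * z * n0⁻¹}
      rw [mem_inf, mem_inf, mem_inf, mem_inf, hcen, hcen, hcen, hcen]
      have e1 : n0 * g * n0⁻¹ ∈ N ↔ g ∈ N := by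
        constructor
        · intro h
          have := N.mul_mem (N.mul_mem (N.inv_mem hn0) h) hn0
          have e : n0⁻¹ * (n0 * g * n0⁻¹) * n0 = g := by group
          rwa [e] at this
        · intro h
          exact N.mul_mem (N.mul_mem hn0 h) (N.inv_mem hn0)
      have e2 : n0 * g * n0⁻¹ * z * (n0 * g * n0⁻¹)⁻¹ = z ↔ g * s0 * g⁻¹ = s0 := by
        rw [← hn0s]
        constructor
        · intro h
          have : n0 * (g * s0 * g⁻¹) * n0⁻¹ = n0 * s0 * n0⁻¹ := by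
            rw [← h]; group
          exact mul_left_cancel (mul_right_cancel this)
        · intro h
          calc n0 * g * n0⁻¹ * (n0 * s0 * n0⁻¹) * (n0 * g * n0⁻¹)⁻¹
              = n0 * (g * s0 * g⁻¹) * n0⁻¹ := by group
            _ = n0 * s0 * n0⁻¹ := by rw [h]
      have e3 : n0 * g * n0⁻¹ * (n0 * z * n0⁻¹) * (n0 * g * n0⁻¹)⁻¹ = n0 * z * n0⁻¹ ↔
          g * z * g⁻¹ = z := by
        constructor
        · intro h
          have : n0 * (g * z * g⁻¹) * n0⁻¹ = n0 * z * n0⁻¹ := by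
            rw [← h]; group
          exact mul_left_cancel (mul_right_cancel this)
        · intro h
          calc n0 * g * n0⁻¹ * (n0 * z * n0⁻¹) * (n0 * g * n0⁻¹)⁻¹
              = n0 * (g * z * g⁻¹) * n0⁻¹ := by group
            _ = n0 * z * n0⁻¹ := by rw [h]
      rw [e1, e2, e3]
      tauto
    rw [h4, h5] at h3
    have h6 : 0 < Nat.card ((N ⊓ centralizer {z} ⊓ centralizer {n0 * z * n0⁻¹} : Subgroup G)) :=
      Nat.card_pos
    have h7 := Nat.eq_of_mul_eq_mul_right h6 (h2.trans h3.symm)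
    omega
  have hPsymm : ∀ x y, (x, y) ∈ P → (y, x) ∈ P := by
    intro x y hxy
    obtain ⟨n, hn, h1, h2⟩ := hPtr x y hxy
    -- `(z, n0 z n0⁻¹) ∈ P` is conjugate to `(s0, z)`
    have h3 : (z, n0 * z * n0⁻¹) ∈ P := (hPz _).mpr hy0
    have h4 := hPconj (n * n0⁻¹) (N.mul_mem hn (N.inv_mem hn0)) _ _ h3
    have e1 : n * n0⁻¹ * z * (n * n0⁻¹)⁻¹ = y := by
      rw [← h2]
      calc n * n0⁻¹ * z * (n * n0⁻¹)⁻¹ = n * n0⁻¹ * (n0 * s0 * n0⁻¹) * (n * n0⁻¹)⁻¹ := by rw [hn0s]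
        _ = n * s0 * n⁻¹ := by group
    have e2 : n * n0⁻¹ * (n0 * z * n0⁻¹) * (n * n0⁻¹)⁻¹ = x := by
      rw [← h1]; group
    rwa [e1, e2] at h4
  have hPM : ∀ x y, (x, y) ∈ P → x ∈ M ∧ y ∈ M ∧ x ≠ 1 := by
    rintro x y ⟨n, hn, s, hs, h1, h2⟩
    have h1' : n * z * n⁻¹ = x := h1
    have h2' : n * s * n⁻¹ = y := h2
    refine ⟨h1' ▸ hN n hn z hzM, h2' ▸ hN n hn s (hSM s hs), fun h => hz1 ?_⟩
    rw [h] at h1'
    calc z = n⁻¹ * (n * z * n⁻¹) * n := by group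
      _ = 1 := by rw [h1']; group
  have hPmul : ∀ x y, (x, y) ∈ P → (y, y * x) ∈ P := by
    intro x y hxy
    obtain ⟨n, hn, s, hs, h1, h2⟩ := hPsymm x y hxy
    have h1' : n * z * n⁻¹ = y := h1
    have h2' : n * s * n⁻¹ = x := h2
    refine ⟨n, hn, s * z, hSz s hs, h1, ?_⟩
    change n * (s * z) * n⁻¹ = y * x
    obtain ⟨hx, hy, -⟩ := hPM x y hxy
    rw [hc y hy x hx, ← h1', ← h2']; group
  -- the number of pairs
  have hcard : Nat.card P = 127 * 70 := by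
    have hch : ∀ y : {y : M // y ≠ 1}, ∃ n ∈ N, n * z * n⁻¹ = (y.1 : G) := fun y =>
      htr y.1 y.1.2 (fun h => y.2 (Subtype.ext h))
    choose c hcN hcz using hch
    have e : {y : M // y ≠ 1} × S ≃ P := by
      refine Equiv.ofBijective (fun q => ⟨((q.1.1 : G), c q.1 * q.2 * (c q.1)⁻¹), c q.1, hcN q.1,
        q.2, q.2.2, hcz q.1, rfl⟩) ⟨?_, ?_⟩
      · rintro ⟨a, s⟩ ⟨b, t⟩ hab
        have h1 := congrArg Subtype.val hab
        have h2 : ((a.1 : G), c a * s * (c a)⁻¹) = ((b.1 : G), c b * t * (c b)⁻¹) := h1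
        rw [Prod.mk.injEq] at h2
        have h3 : a = b := Subtype.ext (Subtype.ext h2.1)
        subst h3
        have h4 : (s : G) = t := mul_left_cancel (mul_right_cancel h2.2)
        rw [Subtype.ext h4]
      · rintro ⟨⟨x, y⟩, hxy⟩
        obtain ⟨hx, hy, hx1⟩ := hPM x y hxy
        obtain ⟨n, hn, s, hs, h1, h2⟩ := hxy
        have h1' : n * z * n⁻¹ = x := h1
        have h2' : n * s * n⁻¹ = y := h2
        let a : {y : M // y ≠ 1} := ⟨⟨x, hx⟩, fun h => hx1 (congrArg Subtype.val h)⟩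
        have ha : c a * z * (c a)⁻¹ = x := hcz a
        have h3 : (c a)⁻¹ * n * z * ((c a)⁻¹ * n)⁻¹ = z := by
          rw [hcomp, h1', ← ha]; group
        have h4 := hSinv _ (N.mul_mem (N.inv_mem (hcN a)) hn) h3 s hs
        refine ⟨(a, ⟨_, h4⟩), Subtype.ext (Prod.ext rfl ?_)⟩
        change c a * ((c a)⁻¹ * n * s * ((c a)⁻¹ * n)⁻¹) * (c a)⁻¹ = y
        rw [← h2']; group
    rw [← Nat.card_congr e, Nat.card_prod, hS]
    have h5 : Nat.card {y : M // y ≠ 1} = 127 := by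
      have := Fintype.ofFinite M
      rw [Nat.card_eq_fintype_card, Fintype.card_subtype_compl, Fintype.card_subtype_eq,
        ← Nat.card_eq_fintype_card, hM]
      norm_num
    rw [h5]
  have h3 : 3 ∣ Nat.card P := by
    refine three_dvd (fun p : P => (⟨(p.1.2, p.1.2 * p.1.1), hPmul p.1.1 p.1.2 p.2⟩ : P)) ?_ ?_
    · rintro ⟨⟨x, y⟩, hxy⟩
      obtain ⟨hx, hy, hx1⟩ := hPM x y hxy
      refine Subtype.ext (Prod.ext ?_ ?_)
      · change y * x * y = x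
        rw [hc y hy x hx, mul_assoc, hsq y hy, mul_one]
      · change y * x * y * (y * x) = y
        rw [hc y hy x hx, mul_assoc x y y, hsq y hy, mul_one, ← mul_assoc, hsq x hx, one_mul]
    · rintro ⟨⟨x, y⟩, hxy⟩ h
      have h1 : (y, y * x) = (x, y) := congrArg Subtype.val h
      rw [Prod.mk.injEq] at h1
      obtain ⟨hx, hy, hx1⟩ := hPM x y hxy
      exact hx1 (mul_eq_left.mp h1.2)
  rw [hcard] at h3
  revert h3
  norm_num

/-- (C) `17` conjugates, closed under the product with `z`, is impossible. -/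
theorem not_17 [Finite G] (z : G) (hz1 : z ≠ 1) (hz2 : z * z = 1) (N : Subgroup G)
    (hcomm : ∀ n ∈ N, ∀ m ∈ N, Commute (n * z * n⁻¹) (m * z * m⁻¹))
    (h17 : Nat.card {y : G // ∃ n ∈ N, n * z * n⁻¹ = y} = 17)
    (hmul : ∀ n ∈ N, n * z * n⁻¹ ≠ z → ∃ m ∈ N, m * z * m⁻¹ = n * z * n⁻¹ * z) : False := by
  classical
  set Om : Set G := {y | ∃ n ∈ N, n * z * n⁻¹ = y} with hOm
  have hsq : ∀ x ∈ Om, x * x = 1 := by
    rintro x ⟨n, hn, rfl⟩
    calc n * z * n⁻¹ * (n * z * n⁻¹) = n * (z * z) * n⁻¹ := by group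
      _ = 1 := by rw [hz2]; group
  have hne : ∀ x ∈ Om, x ≠ 1 := by
    rintro x ⟨n, hn, rfl⟩ h
    apply hz1
    calc z = n⁻¹ * (n * z * n⁻¹) * n := by group
      _ = 1 := by rw [h]; group
  have hc : ∀ x ∈ Om, ∀ y ∈ Om, x * y = y * x := by
    rintro x ⟨n, hn, rfl⟩ y ⟨m, hm, rfl⟩
    exact hcomm n hn m hm
  have hM : ∀ x ∈ Om, ∀ y ∈ Om, y ≠ x → y * x ∈ Om := by
    rintro x ⟨n, hn, rfl⟩ y ⟨m, hm, rfl⟩ hne
    obtain ⟨k, hk, h1⟩ := hmul (n⁻¹ * m) (N.mul_mem (N.inv_mem hn) hm) (by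
      intro h
      apply hne
      calc m * z * m⁻¹ = n * (n⁻¹ * m * z * (n⁻¹ * m)⁻¹) * n⁻¹ := by group
        _ = n * z * n⁻¹ := by rw [h])
    refine ⟨n * k, N.mul_mem hn hk, ?_⟩
    calc n * k * z * (n * k)⁻¹ = n * (k * z * k⁻¹) * n⁻¹ := by group
      _ = m * z * m⁻¹ * (n * z * n⁻¹) := by rw [h1]; group
  have h3 : 3 ∣ Nat.card {p : Om × Om // p.1 ≠ p.2} := by
    refine three_dvd (fun p : {p : Om × Om // p.1 ≠ p.2} =>
      (⟨(p.1.2, ⟨p.1.2 * p.1.1, hM p.1.1 p.1.1.2 p.1.2 p.1.2.2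
        (fun h => p.2 (Subtype.ext h.symm))⟩), fun h => hne p.1.1 p.1.1.2
          (mul_eq_left.mp (congrArg Subtype.val h).symm)⟩ : {p : Om × Om // p.1 ≠ p.2})) ?_ ?_
    · rintro ⟨⟨x, y⟩, hxy⟩
      refine Subtype.ext (Prod.ext (Subtype.ext ?_) (Subtype.ext ?_))
      · change (y : G) * x * y = x
        rw [hc y y.2 x x.2, mul_assoc, hsq y y.2, mul_one]
      · change (y : G) * x * y * (y * x) = y
        rw [hc y y.2 x x.2, mul_assoc (x : G) y y, hsq y y.2, mul_one, ← mul_assoc, hsq x x.2,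
          one_mul]
    · rintro ⟨⟨x, y⟩, hxy⟩ h
      have h1 := congrArg (fun q => q.1.1) h
      exact hxy h1.symm
  have h4 : Nat.card {p : Om × Om // p.1 ≠ p.2} = 17 * 16 := by
    have := Fintype.ofFinite Om
    have h5 : Fintype.card Om = 17 := by rw [← Nat.card_eq_fintype_card]; exact h17
    have h6 := Fintype.card_subtype_compl (fun p : Om × Om => p.1 = p.2)
    have h7 : Fintype.card {p : Om × Om // p.1 = p.2} = 17 := by
      rw [← h5]
      exact Fintype.card_congr ⟨fun p => p.1.1, fun x => ⟨(x, x), rfl⟩,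
        fun p => Subtype.ext (Prod.ext rfl p.2), fun x => rfl⟩
    rw [Nat.card_eq_fintype_card]
    rw [h7, Fintype.card_prod, h5] at h6
    exact h6
  rw [h4] at h3
  revert h3
  norm_num

end Cfsg.Agent.OddHalf.D9.EEight.Count
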