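import Cfsg.Agent.OddHalf.D9.EEight.Move
import Cfsg.Agent.OddHalf.D9.EEight.Facts

/-!
# The easy fields of `EF det neg IsRefl` (helper109)

`c_ne`, `c_sq`, `c_comm`, `c_det`, `cenK`, `rf_det`, `rf_neg`, `rf_conj`, `rf_trans`.
-/

set_option autoImplicit false

namespace Cfsg.Agent.OddHalf.D9.EEight.Fields

open Coord Move

theorem single_ne : (Pi.single 0 1 : Lat) ≠ 0 := by
  intro h
  have := congrFun h 0
  simp at this

theorem c_ne : (neg : W) ≠ 1 := by
  intro h
  have h1 : ap neg (Pi.single 0 1) = ap 1 (Pi.single 0 1) := by rw [h]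
  rw [ap_neg_one, ap_one] at h1
  have := congrFun h1 0
  simp at this

theorem c_sq : (neg : W) * neg = 1 := ext_ap fun x => by rw [ap_mul, ap_neg_one, ap_neg_one, neg_neg, ap_one]

theorem c_comm (w : W) : neg * w = w * neg := ext_ap fun x => by
  rw [ap_mul, ap_mul, ap_neg_one, ap_neg_one, ap_neg]

theorem coe_det (w : W) :
    ((det w : ℤˣ) : ℤ) = ((w : (Matrix (Fin 8) (Fin 8) ℤ)ˣ) : Matrix (Fin 8) (Fin 8) ℤ).det := by
  unfold det
  rw [MonoidHom.comp_apply, Units.coe_map, Matrix.coe_detMonoidHom]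
  rfl

theorem c_det : det (neg : W) = 1 := by
  apply Units.ext
  rw [coe_det]
  show (-1 : Matrix (Fin 8) (Fin 8) ℤ).det = 1
  rw [Matrix.det_neg, Matrix.det_one]
  simp

theorem refl_coe {a : Lat} (ha : IsRoot a) :
    (((refl ha : W) : (Matrix (Fin 8) (Fin 8) ℤ)ˣ) : Matrix (Fin 8) (Fin 8) ℤ) =
      1 + Matrix.replicateCol (Fin 1) (-a) * Matrix.replicateRow (Fin 1) (Matrix.mulVec GM a) := by
  apply Matrix.ext_of_mulVec_single
  intro i
  have h := ap_refl ha (Pi.single i 1)
  unfold ap at h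
  rw [h, Matrix.add_mulVec, Matrix.one_mulVec, ← Matrix.mulVec_mulVec, sub_eq_add_neg]
  congr 1
  have e : form (Pi.single i 1) a = Matrix.mulVec GM a i := by
    unfold form
    rw [single_dotProduct, one_mul]
  rw [e]
  funext j
  rw [Matrix.mulVec_single_one]
  generalize Matrix.mulVec GM a = g
  simp [Matrix.mulVec, dotProduct, mul_comm]

theorem row_col (u v : Lat) : Matrix.replicateRow (Fin 1) v * Matrix.replicateCol (Fin 1) u =
    Matrix.of fun _ _ => dotProduct v u := by
  ext i j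
  simp [Matrix.mul_apply, Matrix.replicateCol, Matrix.replicateRow, dotProduct]

theorem rf_det' {a : Lat} (ha : IsRoot a) : det (refl ha) = -1 := by
  apply Units.ext
  have : dotProduct (Matrix.mulVec GM a) (-a) = - form a a := by
    rw [dotProduct_neg, dotProduct_comm]; rfl
  rw [coe_det, refl_coe, Matrix.det_one_add_mul_comm, row_col, Matrix.det_fin_one, this, show form a a = 2 from ha]
  rfl

theorem rf_det (ρ : W) (h : IsRefl ρ) : det ρ = -1 := by
  obtain ⟨a, ha, rfl⟩ := h
  exact rf_det' ha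

theorem trace_refl {a : Lat} (ha : IsRoot a) :
    Matrix.trace (((refl ha : W) : (Matrix (Fin 8) (Fin 8) ℤ)ˣ) : Matrix (Fin 8) (Fin 8) ℤ) = 6 := by
  have : dotProduct (Matrix.mulVec GM a) (-a) = - form a a := by
    rw [dotProduct_neg, dotProduct_comm]; rfl
  rw [refl_coe, Matrix.trace_add, Matrix.trace_one, Matrix.trace_mul_comm, row_col, Matrix.trace_fin_one, this,
    show form a a = 2 from ha]
  rfl

theorem rf_neg (ρ : W) (h : IsRefl ρ) : ¬ IsRefl (neg * ρ) := by
  obtain ⟨a, ha, rfl⟩ := h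
  rintro ⟨b, hb, e⟩
  have h1 := trace_refl hb
  rw [← e] at h1
  have h2 : (((neg * refl ha : W) : (Matrix (Fin 8) (Fin 8) ℤ)ˣ) : Matrix (Fin 8) (Fin 8) ℤ) =
      - (((refl ha : W) : (Matrix (Fin 8) (Fin 8) ℤ)ˣ) : Matrix (Fin 8) (Fin 8) ℤ) := by
    show (-1 : Matrix (Fin 8) (Fin 8) ℤ) * _ = _
    rw [neg_one_mul]
  rw [h2, Matrix.trace_neg, trace_refl ha] at h1
  omega

theorem conj_refl (w : W) {a : Lat} (ha : IsRoot a) : w * refl ha * w⁻¹ = refl (isRoot_ap ha w) := by
  apply ext_ap
  intro x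
  rw [ap_mul, ap_mul, ap_refl, ap_refl, ap_sub, ap_ap_inv, ap_smul, form_ap_left, inv_inv]

theorem rf_conj (ρ w : W) (h : IsRefl ρ) : IsRefl (w * ρ * w⁻¹) := by
  obtain ⟨a, ha, rfl⟩ := h
  exact ⟨_, _, conj_refl w ha⟩

theorem refl_congr {a b : Lat} (ha : IsRoot a) (hb : IsRoot b) (h : a = b) : refl ha = refl hb := by
  subst h; rfl

theorem refl_neg {a : Lat} (ha : IsRoot a) : refl (isRoot_neg ha) = refl ha := by
  apply ext_ap
  intro x
  rw [ap_refl, ap_refl, form_neg_right, smul_neg, neg_smul, neg_neg]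

/-- some element of determinant one maps `a` to `± b` -/
theorem exists_K {a b : Lat} (ha : IsRoot a) (hb : IsRoot b) :
    ∃ k : W, det k = 1 ∧ (ap k a = b ∨ ap k a = -b) := by
  obtain ⟨v, hv⟩ := trans1 ha
  obtain ⟨u, hu⟩ := trans1 hb
  have hw : ap (u⁻¹ * v) a = b := by rw [ap_mul, hv, ← hu, ap_inv_ap]
  rcases Int.units_eq_one_or (det (u⁻¹ * v)) with h | h
  · exact ⟨_, h, Or.inl hw⟩
  · refine ⟨refl hb * (u⁻¹ * v), by rw [map_mul, h, rf_det']; rfl, Or.inr ?_⟩
    rw [ap_mul, hw, ap_refl_self]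

theorem rf_trans (ρ τ : W) (h : IsRefl ρ) (h' : IsRefl τ) : ∃ k : W, det k = 1 ∧ k * ρ * k⁻¹ = τ := by
  obtain ⟨a, ha, rfl⟩ := h
  obtain ⟨b, hb, rfl⟩ := h'
  obtain ⟨k, hk, h1 | h1⟩ := exists_K ha hb
  · exact ⟨k, hk, (conj_refl k ha).trans (refl_congr _ _ h1)⟩
  · exact ⟨k, hk, ((conj_refl k ha).trans (refl_congr _ (isRoot_neg hb) h1)).trans (refl_neg hb)⟩

/-- a root in the plane of two orthogonal roots -/
theorem plane {a b r : Lat} (ha : IsRoot a) (hb : IsRoot b) (hab : form a b = 0) (hr : IsRoot r)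
    (h : ap (refl ha * refl hb) r = -r) : r = a ∨ r = -a ∨ r = b ∨ r = -b := by
  rw [ap_mul, ap_refl hb, ap_refl ha, form_sub_left, form_smul_left, form_comm b a, hab, mul_zero, sub_zero] at h
  -- `2 r = (r, a) a + (r, b) b`
  have h2 : (2 : ℤ) • r = form r a • a + form r b • b := by
    rw [two_smul]
    have : r + r = form r a • a + form r b • b + (r - form r b • b - form r a • a) + r := by abel
    rw [this, h]; abel
  have h3 : form ((2 : ℤ) • r) r = 4 := by
    rw [form_smul_left, show form r r = 2 from hr]; norm_num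
  rw [h2, form_add_left, form_smul_left, form_smul_left, form_comm a r, form_comm b r] at h3
  have b1 := root_bound hr ha
  have b2 := root_bound hr hb
  generalize hx : form r a = x at *
  generalize hy : form r b = y at *
  have hx' : x = -2 ∨ x = -1 ∨ x = 0 ∨ x = 1 ∨ x = 2 := by omega
  have hy' : y = -2 ∨ y = -1 ∨ y = 0 ∨ y = 1 ∨ y = 2 := by omega
  rcases hx' with rfl | rfl | rfl | rfl | rfl
  · right; left
    have := eq_neg_of_form hr ha hx
    rw [this, neg_neg]
  · rcases hy' with rfl | rfl | rfl | rfl | rfl <;> omega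
  · rcases hy' with rfl | rfl | rfl | rfl | rfl
    · right; right; right
      have := eq_neg_of_form hr hb hy
      rw [this, neg_neg]
    · omega
    · omega
    · omega
    · right; right; left
      exact eq_of_form hr hb hy
  · rcases hy' with rfl | rfl | rfl | rfl | rfl <;> omega
  · left
    exact eq_of_form hr ha hx

/-- for every root there are three pairwise orthogonal roots orthogonal to it -/
theorem exists_orth {a : Lat} (ha : IsRoot a) : ∃ b c, IsRoot b ∧ IsRoot c ∧ form a b = 0 ∧ form a c = 0 ∧ form b c = 0 := by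
  obtain ⟨w, hw⟩ := trans1 ha
  have h2 : ([0, 0, 2, 2, 0, 0, 0, 0] : List ℤ) ∈ RL := by decide +kernel
  have h3 : ([0, 0, 2, -2, 0, 0, 0, 0] : List ℤ) ∈ RL := by decide +kernel
  have r2 := isRoot_unL h2
  have r3 := isRoot_unL h3
  have f2 := form_unL t1_mem h2
  have f3 := form_unL t1_mem h3
  have f23 := form_unL h2 h3
  have e2 : dotL t1 [0, 0, 2, 2, 0, 0, 0, 0] = 0 := by decide
  have e3 : dotL t1 [0, 0, 2, -2, 0, 0, 0, 0] = 0 := by decide
  have e23 : dotL [0, 0, 2, 2, 0, 0, 0, 0] [0, 0, 2, -2, 0, 0, 0, 0] = 0 := by decide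
  refine ⟨ap w⁻¹ (unL [0, 0, 2, 2, 0, 0, 0, 0]), ap w⁻¹ (unL [0, 0, 2, -2, 0, 0, 0, 0]), isRoot_ap r2 _, isRoot_ap r3 _,
    ?_, ?_, ?_⟩
  · rw [← form_ap_left, hw]; omega
  · rw [← form_ap_left, hw]; omega
  · rw [form_ap]; omega

/-- an element commuting with `K₀` maps every root to itself up to sign -/
theorem sign_of_comm {w : W} (h : ∀ k : W, det k = 1 → w * k = k * w) {a : Lat} (ha : IsRoot a) :
    ap w a = a ∨ ap w a = -a := by
  obtain ⟨b, c, hb, hc, hab, hac, hbc⟩ := exists_orth ha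
  have key : ∀ {b : Lat} (hb : IsRoot b), form a b = 0 → ap w a = a ∨ ap w a = -a ∨ ap w a = b ∨ ap w a = -b := by
    intro b hb hab
    apply plane ha hb hab (isRoot_ap ha w)
    have h1 : det (refl ha * refl hb) = 1 := by rw [map_mul, rf_det', rf_det']; rfl
    rw [← ap_mul, ← h _ h1, ap_mul, ap_mul, ap_refl_orth hb hab, ap_refl_self, ap_neg]
  rcases key hb hab with h1 | h1 | h1 | h1
  · exact Or.inl h1
  · exact Or.inr h1
  · exfalso
    have e : form a a = 2 := ha
    have e' : form b b = 2 := hb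
    rcases key hc hac with h2 | h2 | h2 | h2
    · rw [← h1, h2] at hab; omega
    · rw [← h1, h2, form_neg_right] at hab; omega
    · rw [h1] at h2; rw [← h2] at hbc; omega
    · rw [h1] at h2
      have h3 : c = -b := by rw [h2, neg_neg]
      rw [h3, form_neg_right] at hbc; omega
  · exfalso
    have e : form a a = 2 := ha
    have e' : form b b = 2 := hb
    have h3 : b = - ap w a := by rw [h1, neg_neg]
    rcases key hc hac with h2 | h2 | h2 | h2
    · rw [h3, h2, form_neg_right] at hab; omega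
    · rw [h3, h2, neg_neg] at hab; omega
    · rw [h1] at h2; rw [← h2, form_neg_right] at hbc; omega
    · rw [h1] at h2; rw [← neg_injective h2] at hbc; omega

/-- simple roots -/
theorem isRoot_single (i : Fin 8) : IsRoot (Pi.single i 1) := by
  have : ∀ i : Fin 8, form (Pi.single i 1) (Pi.single i 1) = 2 := by decide +kernel
  exact this i

theorem ext_single {v w : W} (h : ∀ i, ap v (Pi.single i 1) = ap w (Pi.single i 1)) : v = w := by
  apply Subtype.ext
  apply Units.ext
  apply Matrix.ext_of_mulVec_single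
  intro i
  exact h i

/-- adjacent simple roots -/
theorem path : ∀ i : Fin 8, i ≠ 0 → ∃ j : Fin 8, j < i ∧ form (Pi.single i 1) (Pi.single j 1) ≠ 0 ∨
    i = 1 := by decide +kernel

theorem cenK (w : W) (h : ∀ k : W, det k = 1 → w * k = k * w) : w = 1 ∨ w = neg := by
  have hs : ∀ i : Fin 8, ap w (Pi.single i 1) = Pi.single i 1 ∨ ap w (Pi.single i 1) = -Pi.single i 1 :=
    fun i => sign_of_comm h (isRoot_single i)
  -- adjacent
  have hadj : ∀ i j : Fin 8, form (Pi.single i 1) (Pi.single j 1) ≠ 0 →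
      (ap w (Pi.single i 1) = Pi.single i 1 ↔ ap w (Pi.single j 1) = Pi.single j 1) := by
    intro i j hij
    have ni : ∀ i : Fin 8, (Pi.single i 1 : Lat) ≠ - Pi.single i 1 := by
      intro i h
      have := congrFun h i
      simp at this
    have e := form_ap w (Pi.single i 1) (Pi.single j 1)
    rcases hs i with h1 | h1 <;> rcases hs j with h2 | h2
    · exact ⟨fun _ => h2, fun _ => h1⟩
    · rw [h1, h2, form_neg_right] at e; omega
    · rw [h1, h2, form_neg_left] at e; omega
    · rw [h1, h2]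
      exact ⟨fun h => absurd h.symm (ni i), fun h => absurd h.symm (ni j)⟩
  have e02 := hadj 0 2 (by decide +kernel)
  have e13 := hadj 1 3 (by decide +kernel)
  have e23 := hadj 2 3 (by decide +kernel)
  have e34 := hadj 3 4 (by decide +kernel)
  have e45 := hadj 4 5 (by decide +kernel)
  have e56 := hadj 5 6 (by decide +kernel)
  have e67 := hadj 6 7 (by decide +kernel)
  rcases hs 0 with h0 | h0
  · left
    apply ext_single
    intro i
    rw [ap_one]
    have a2 := e02.1 h0
    have a3 := e23.1 a2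
    have a4 := e34.1 a3
    have a5 := e45.1 a4
    have a6 := e56.1 a5
    fin_cases i
    exacts [h0, e13.2 a3, a2, a3, a4, a5, a6, e67.1 a6]
  · right
    have n0 : ¬ ap w (Pi.single 0 1) = Pi.single 0 1 := by
      intro h
      rw [h0] at h
      have := congrFun h 0
      simp at this
    have a2 := fun h => n0 (e02.2 h)
    have a3 := fun h => a2 (e23.2 h)
    have a4 := fun h => a3 (e34.2 h)
    have a5 := fun h => a4 (e45.2 h)
    have a6 := fun h => a5 (e56.2 h)
    have a7 := fun h => a6 (e67.2 h)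
    have a1 := fun h => a3 (e13.1 h)
    apply ext_single
    intro i
    rw [ap_neg_one]
    fin_cases i
    exacts [h0, (hs 1).resolve_left a1, (hs 2).resolve_left a2, (hs 3).resolve_left a3, (hs 4).resolve_left a4,
      (hs 5).resolve_left a5, (hs 6).resolve_left a6, (hs 7).resolve_left a7]

end Cfsg.Agent.OddHalf.D9.EEight.Fields
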