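import Mathlib
import Cfsg.Agent.OddHalf.D9.EEight.Fields

/-!
# (W4): elements of determinant `-1` do not commute or anticommute with a complex structure
-/

set_option autoImplicit false

namespace Cfsg.Agent.OddHalf.D9.EEight

open Matrix

namespace CxOut

/-- A linear map that commutes with a complex structure has determinant `≥ 0`. -/
theorem det_nonneg_of_commute {V : Type*} [AddCommGroup V] [Module ℝ V]
    (J f : Module.End ℝ V) (hJ : J * J = -1) (hf : f * J = J * f) :
    0 ≤ LinearMap.det f := by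
  let φ : ℂ →ₐ[ℝ] Module.End ℝ V := Complex.liftAux J hJ
  let _ : Module ℂ V := Module.compHom V φ.toRingHom
  have hsm : ∀ (z : ℂ) (v : V), z • v = φ z v := fun z v => rfl
  have : IsScalarTower ℝ ℂ V := ⟨fun r z v => by
    rw [hsm, hsm, map_smul]; rfl⟩
  let f' : V →ₗ[ℂ] V :=
    { toFun := f
      map_add' := f.map_add
      map_smul' := by
        intro z v
        rw [RingHom.id_apply, hsm, hsm]
        have h1 : f * φ z = φ z * f := by
          change f * (Complex.liftAux J hJ z) = (Complex.liftAux J hJ z) * f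
          rw [Complex.liftAux_apply, mul_add, add_mul, mul_smul_comm, smul_mul_assoc, hf,
            Algebra.commutes]
        exact congrArg (fun g : Module.End ℝ V => g v) h1 }
  have h1 : (f'.restrictScalars ℝ) = f := rfl
  rw [← h1, LinearMap.det_restrictScalars, Algebra.norm_complex_apply]
  exact Complex.normSq_nonneg _

/-- In dimension `8`, a linear map that anticommutes with a complex structure has determinant
`≥ 0`. -/
theorem det_nonneg_of_anti {V : Type*} [AddCommGroup V] [Module ℝ V] [FiniteDimensional ℝ V]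
    (h8 : Module.finrank ℝ V = 8)
    (J f : Module.End ℝ V) (hJ : J * J = -1) (hf : f * J = -(J * f)) :
    0 ≤ LinearMap.det f := by
  classical
  let φ : ℂ →ₐ[ℝ] Module.End ℝ V := Complex.liftAux J hJ
  let _ : Module ℂ V := Module.compHom V φ.toRingHom
  have hsm : ∀ (z : ℂ) (v : V), z • v = φ z v := fun z v => rfl
  have : IsScalarTower ℝ ℂ V := ⟨fun r z v => by
    rw [hsm, hsm, map_smul]; rfl⟩
  have : Module.Finite ℂ V := Module.Finite.right ℝ ℂ V
  have h4 : Module.finrank ℂ V = 4 := by
    have h := Module.finrank_mul_finrank ℝ ℂ V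
    rw [Complex.finrank_real_complex, h8] at h
    omega
  let b : Module.Basis (Fin 4) ℂ V := Module.finBasisOfFinrankEq ℂ V h4
  let B : Module.Basis (Fin 2 × Fin 4) ℝ V := Complex.basisOneI.smulTower b
  have hI : ∀ v : V, Complex.I • v = J v := fun v => by
    rw [hsm]
    change (Complex.liftAux J hJ Complex.I) v = J v
    rw [Complex.liftAux_apply_I]
  have hB0 : ∀ j, B (0, j) = b j := fun j => by
    rw [Module.Basis.smulTower_apply]
    simp
  have hB1 : ∀ j, B (1, j) = J (b j) := fun j => by
    rw [Module.Basis.smulTower_apply, ← hI]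
    simp
  have hJJ : ∀ v : V, J (J v) = -v := fun v => by
    have := congrArg (fun g : Module.End ℝ V => g v) hJ
    exact this
  let d : Fin 2 × Fin 4 → ℝ := fun p => if p.1 = 0 then 1 else -1
  let κ : Module.End ℝ V := B.constr ℝ (fun p => d p • B p)
  have hκ : ∀ p, κ (B p) = d p • B p := fun p => B.constr_basis ℝ _ p
  have hdet : LinearMap.det κ = 1 := by
    rw [← LinearMap.det_toMatrix B]
    have h1 : LinearMap.toMatrix B B κ = Matrix.diagonal d := by
      ext p q
      rw [LinearMap.toMatrix_apply, hκ, map_smul, Module.Basis.repr_self, Matrix.diagonal_apply]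
      by_cases hpq : p = q
      · subst hpq; simp
      · rw [if_neg hpq]
        simp [Finsupp.single_apply, Ne.symm hpq]
    rw [h1, Matrix.det_diagonal, Fintype.prod_prod_type]
    simp [d]
    norm_num
  have hκJ : κ * J = -(J * κ) := by
    apply B.ext
    rintro ⟨i, j⟩
    change κ (J (B (i, j))) = -(J (κ (B (i, j))))
    fin_cases i
    · change κ (J (B (0, j))) = -(J (κ (B (0, j))))
      have e1 : J (B (0, j)) = B (1, j) := by rw [hB0, hB1]
      rw [e1, hκ, hκ, map_smul, e1]
      simp [d]
    · change κ (J (B (1, j))) = -(J (κ (B (1, j))))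
      have e1 : J (B (1, j)) = -B (0, j) := by rw [hB0, hB1, hJJ]
      rw [e1, map_neg, hκ, hκ, map_smul, e1]
      simp [d]
  have h1 : (f * κ) * J = J * (f * κ) := by
    rw [mul_assoc, hκJ, mul_neg, ← mul_assoc, hf, neg_mul, neg_neg, mul_assoc]
  have h2 := det_nonneg_of_commute J (f * κ) hJ h1
  rwa [map_mul, hdet, mul_one] at h2

/-- The real linear map of an element of `W`. -/
noncomputable def lin : W →* Module.End ℝ (Fin 8 → ℝ) where
  toFun w := Matrix.toLin' (((w : (Matrix (Fin 8) (Fin 8) ℤ)ˣ) : Matrix (Fin 8) (Fin 8) ℤ).map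
    (Int.castRingHom ℝ))
  map_one' := by
    simp
    rfl
  map_mul' a b := by
    rw [Subgroup.coe_mul, Units.val_mul, Matrix.map_mul, Matrix.toLin'_mul]
    rfl

theorem lin_neg : lin neg = -1 := by
  have : ((neg : (Matrix (Fin 8) (Fin 8) ℤ)ˣ) : Matrix (Fin 8) (Fin 8) ℤ) = -1 := rfl
  change Matrix.toLin' (((neg : (Matrix (Fin 8) (Fin 8) ℤ)ˣ) : Matrix (Fin 8) (Fin 8) ℤ).map
    (Int.castRingHom ℝ)) = -1
  rw [this]
  have h1 : (-1 : Matrix (Fin 8) (Fin 8) ℤ).map (Int.castRingHom ℝ) = -1 := by
    rw [← RingHom.mapMatrix_apply, map_neg, map_one]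
  rw [h1, map_neg, Matrix.toLin'_one]
  rfl

theorem det_lin (w : W) : LinearMap.det (lin w) = ((det w : ℤ) : ℝ) := by
  change LinearMap.det (Matrix.toLin' (((w : (Matrix (Fin 8) (Fin 8) ℤ)ˣ) :
    Matrix (Fin 8) (Fin 8) ℤ).map (Int.castRingHom ℝ))) = ((det w : ℤ) : ℝ)
  rw [LinearMap.det_toLin', Fields.coe_det]
  rw [← RingHom.mapMatrix_apply, ← RingHom.map_det]
  rfl

end CxOut

open CxOut

/-- (W4) -/
theorem cx_out (v w : W) (hv : v * v = neg) (hw : det w = -1) :
    w * v ≠ v * w ∧ w * v ≠ neg * (v * w) := by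
  have hJ : lin v * lin v = -1 := by rw [← map_mul, hv, lin_neg]
  have hneg : ¬ (0 : ℝ) ≤ LinearMap.det (lin w) := by
    rw [det_lin, hw]
    norm_num
  constructor
  · intro h
    exact hneg (det_nonneg_of_commute (lin v) (lin w) hJ (by rw [← map_mul, h, map_mul]))
  · intro h
    refine hneg (det_nonneg_of_anti (by simp) (lin v) (lin w) hJ ?_)
    rw [← map_mul, h, map_mul, map_mul, lin_neg]
    ext x i
    simp

end Cfsg.Agent.OddHalf.D9.EEight
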