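import Cfsg.Agent.KFacts.Mult.LacedD

/-!
# The root elements of `PΩ₈⁺(2)` (helper109), from helper827's simply laced data

`Pk g`: root elements `g a b` (`a b : Fin 4 × Bool`, weights `± e i`; `g a b` belongs to the root `wt a + wt b`).
`NoCover g`: no perfect double cover in which lifts of orthogonal root elements commute.
-/

set_option autoImplicit false
set_option linter.unusedSectionVars false

namespace Cfsg.Agent.OddHalf.D9.EEight.D4Pack

open Cfsg
open scoped commutatorElement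
open CoxeterSystem Cfsg.Agent.ChevalleyStructure.CoxeterGeom Cfsg.Agent.Tits.Roots Cfsg.Agent.Tits.Core
  Cfsg.Agent.Nodes.Reps Cfsg.Agent.Nodes.BNOf Cfsg.Agent.Nodes.RGDLib Cfsg.Agent.OddHalf.SL
  Cfsg.Agent.OddHalf.SL.Index Cfsg.Agent.KFacts.Mult.Calc Cfsg.Agent.KFacts.Mult.Laced
  Cfsg.Agent.KFacts.Mult.LacedEnd Cfsg.Agent.KFacts.MulDef Cfsg.Agent.KFacts.Mult.LacedRGD
  Cfsg.Agent.KFacts.SLRow.TypeD Cfsg.Agent.KFacts.SLRow.OPlus
open Cfsg.Agent.Nodes.TypeC (wt wt_apply ng ng_ng ng_fst ng_snd wt_ng)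
open Cfsg.Agent.Nodes.TypeD
open Cfsg.Agent.LieClassical Cfsg.Agent.LieClassical.OrthCore Cfsg.Agent.LieClassical.OrthTrans
open Cfsg.Agent.LieClassical.OrthSimple Cfsg.Agent.LieClassical.OrthFinite
open Cfsg.Agent.LieClassical.OrthForms Cfsg.Agent.Nodes.WittInst Cfsg.Agent.TitsThree.KSideO

/-- signed indices -/
abbrev P : Type := Fin 4 × Bool

/-- the opposite weight -/
def op (a : P) : P := (a.1, !a.2)

/-- Root elements of type `D₄` over the field of two elements. -/
structure Pk {L : Type*} [Group L] (g : P → P → L) : Prop where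
  symm : ∀ a b, g a b = g b a
  sq : ∀ a b, g a b * g a b = 1
  comm : ∀ a b c, a.1 ≠ b.1 → b.1 ≠ c.1 → a.1 ≠ c.1 → ⁅g a b, g (op b) c⁆ = g a c
  one : ∀ a b c, a.1 ≠ b.1 → a.1 ≠ c.1 → Commute (g a b) (g a c)
  dis : ∀ a b c d, a.1 ≠ b.1 → c.1 ≠ d.1 → a.1 ≠ c.1 → a.1 ≠ d.1 → b.1 ≠ c.1 → b.1 ≠ d.1 →
    Commute (g a b) (g c d)

/-- No perfect double cover in which the lifts of orthogonal root elements commute. -/
def NoCover {L : Type*} [Group L] (g : P → P → L) : Prop :=
  ∀ (Y : Type) [Group Y] [Finite Y] (π : Y →* L) (c : Y), Dbl π c → ∀ h : CE π,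
    (∀ a b, a.1 ≠ b.1 → h.lc (g a b) (g a (op b)) = 1) →
    (∀ a b c d : P, a.1 ≠ b.1 → c.1 ≠ d.1 → a.1 ≠ c.1 → a.1 ≠ d.1 → b.1 ≠ c.1 → b.1 ≠ d.1 →
      h.lc (g a b) (g c d) = 1) → False

theorem op_eq (a : P) : op a = ng a := rfl

section

variable {W : Type*} [Group W] {cs : CoxeterSystem (M 2) W} {L F : Type*} [Group L] [Field F]
  {e : (Fin (2 + 2) → ℤ) → F → L}

/-- the root `wt a + wt b` -/
noncomputable def rt (cs : CoxeterSystem (M 2) W) (a b : P) : Fin (2 + 2) → ℤ :=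
  open Classical in if h : a.1 ≠ b.1 then (rt_of_ok (cs := cs) (a := a) (b := b) h).choose else 0

theorem rt_root {a b : P} (h : a.1 ≠ b.1) : IsRoot cs (isCartan 2) (rt cs a b) := by
  unfold rt
  rw [dif_pos h]
  exact (rt_of_ok (cs := cs) (a := a) (b := b) h).choose_spec.1

theorem ee_rt {a b : P} (h : a.1 ≠ b.1) : ee (rt cs a b) = wt a + wt b := by
  unfold rt
  rw [dif_pos h]
  exact (rt_of_ok (cs := cs) (a := a) (b := b) h).choose_spec.2

theorem rt_symm (a b : P) : rt cs a b = rt cs b a := by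
  by_cases h : a.1 ≠ b.1
  · apply ee_injective
    rw [ee_rt h, ee_rt (Ne.symm h)]
    exact add_comm _ _
  · unfold rt
    rw [dif_neg h, dif_neg (fun h' => h (Ne.symm h'))]

/-- the root element -/
noncomputable def gg (cs : CoxeterSystem (M 2) W) (e : (Fin (2 + 2) → ℤ) → F → L) (a b : P) : L :=
  open Classical in if a.1 ≠ b.1 then e (rt cs a b) 1 else 1

theorem gg_eq {a b : P} (h : a.1 ≠ b.1) : gg cs e a b = e (rt cs a b) 1 := if_pos h

theorem pk (S : Sys (Bf (A 2)) {x | IsRoot cs (isCartan 2) x} e) (h2 : (2 : F) = 0) : Pk (gg cs e) where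
  symm a b := by
    unfold gg
    rw [rt_symm a b]
    by_cases h : a.1 ≠ b.1
    · rw [if_pos h, if_pos (Ne.symm h)]
    · rw [if_neg h, if_neg (fun h' => h (Ne.symm h'))]
  sq a b := by
    by_cases h : a.1 ≠ b.1
    · rw [gg_eq h, ← S.add _ (rt_root h), show (1 + 1 : F) = 0 by rw [one_add_one_eq_two, h2], S.zero (rt_root h)]
    · unfold gg
      rw [if_neg h, mul_one]
  comm a b c hab hbc hac := by
    have hb' : (op b).1 ≠ c.1 := hbc
    rw [gg_eq hab, gg_eq hb', gg_eq hac]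
    have hB : Bf (A 2) (rt cs a b) (rt cs (op b) c) = -1 := by
      rw [bf_wt (ee_rt hab) (ee_rt hb'), op_eq, dl_ng, dl_of_ne (a := a) (c := c) hac,
        dl_of_ne (a := a) (c := ng b) hab, dl_of_ne (a := b) (c := c) hbc]
      rfl
    rw [S.comm _ (rt_root hab) _ (rt_root hb') hB, mul_one]
    congr 1
    apply ee_injective
    rw [ee_add, ee_rt hab, ee_rt hb', ee_rt hac, op_eq, wt_ng]
    abel
  one a b c hab hac := by
    rw [gg_eq hab, gg_eq hac]
    refine S.one _ (rt_root hab) _ (rt_root hac) ?_ _ _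
    rw [bf_wt (ee_rt hab) (ee_rt hac), dl_self, dl_of_ne (a := a) (c := c) hac, dl_of_ne (a := b) (c := a) (Ne.symm hab)]
    rcases dl_cases b c with ⟨_, h⟩ | ⟨_, h⟩ | ⟨_, h⟩ <;> rw [h] <;> norm_num
  dis a b c d hab hcd hac had hbc hbd := by
    rw [gg_eq hab, gg_eq hcd]
    refine S.one _ (rt_root hab) _ (rt_root hcd) ?_ _ _
    rw [bf_wt (ee_rt hab) (ee_rt hcd), dl_of_ne (a := a) (c := c) hac, dl_of_ne (a := a) (c := d) had,
      dl_of_ne (a := b) (c := c) hbc, dl_of_ne (a := b) (c := d) hbd]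
    norm_num

/-- all orthogonal pairs -/
theorem lc_all (S : Sys (Bf (A 2)) {x | IsRoot cs (isCartan 2) x} e) (hF : ∀ t : F, t = 0 ∨ t = 1) {Y : Type*} [Group Y]
    {π : Y →* L} (h : CE π) (h1 : ∀ a b, a.1 ≠ b.1 → h.lc (gg cs e a b) (gg cs e a (op b)) = 1)
    (h3 : ∀ a b c d : P, a.1 ≠ b.1 → c.1 ≠ d.1 → a.1 ≠ c.1 → a.1 ≠ d.1 → b.1 ≠ c.1 → b.1 ≠ d.1 →
      h.lc (gg cs e a b) (gg cs e c d) = 1) {r s : Fin (2 + 2) → ℤ} (hr : IsRoot cs (isCartan 2) r)
    (hs : IsRoot cs (isCartan 2) s) (h0 : Bf (A 2) r s = 0) (u v : F) : h.lc (e r u) (e s v) = 1 := by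
  rcases hF u with rfl | rfl
  · rw [S.zero hr, h.lc_one_left]
  rcases hF v with rfl | rfl
  · rw [S.zero hs, h.lc_one_right]
  obtain ⟨a, b, hab, er⟩ := exists_of_isRoot cs hr
  obtain ⟨c, d, hcd, es⟩ := exists_of_isRoot cs hs
  have hab' : a.1 ≠ b.1 := hab
  have hcd' : c.1 ≠ d.1 := hcd
  have er' : r = rt cs a b := ee_injective (by rw [er, ee_rt hab'])
  have es' : s = rt cs c d := ee_injective (by rw [es, ee_rt hcd'])
  have e1 : e r 1 = gg cs e a b := by rw [gg_eq hab', er']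
  have e2 : e s 1 = gg cs e c d := by rw [gg_eq hcd', es']
  rw [e1, e2]
  have key : ∀ {a b c d : P}, a.1 ≠ b.1 → c.1 ≠ d.1 → dl a c + dl a d + dl b c + dl b d = 0 → a.1 = c.1 →
      h.lc (gg cs e a b) (gg cs e c d) = 1 := by
    intro a b c d hab hcd h0 hac
    have had : dl a d = 0 := dl_of_ne fun hh => hcd (hac ▸ hh)
    have hbc : dl b c = 0 := dl_of_ne fun hh => hab (hac.trans hh.symm)
    rw [had, hbc] at h0
    rcases dl_cases a c with ⟨h4, k4⟩ | ⟨h4, k4⟩ | ⟨h4, k4⟩
    · subst h4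
      rcases dl_cases b d with ⟨h5, k5⟩ | ⟨h5, k5⟩ | ⟨h5, k5⟩
      · rw [k4, k5] at h0; omega
      · subst h5; exact h1 a b hab
      · rw [k4, k5] at h0; omega
    · subst h4
      rcases dl_cases b d with ⟨h5, k5⟩ | ⟨h5, k5⟩ | ⟨h5, k5⟩
      · subst h5
        have := h1 b a hab.symm
        have hsy := (pk S (by
          have h6 := hF (2 : F)
          have h7 := S.add
          rcases h6 with h6 | h6
          · exact h6
          · exfalso
            have h8 : (1 : F) + 1 = 1 := by rw [one_add_one_eq_two, h6]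
            simp at h8)).symm
        rw [hsy a b, hsy (ng a) b]
        exact this
      · rw [k4, k5] at h0; omega
      · rw [k4, k5] at h0; omega
    · exact absurd hac h4
  have hB : dl a c + dl a d + dl b c + dl b d = 0 := by rw [← bf_wt er es, h0]
  have h2 : (2 : F) = 0 := by
    rcases hF (2 : F) with h6 | h6
    · exact h6
    · exfalso
      have h8 : (1 : F) + 1 = 1 := by rw [one_add_one_eq_two, h6]
      simp at h8
  have hsy := (pk S h2).symm
  by_cases hac : a.1 = c.1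
  · exact key hab' hcd' hB hac
  by_cases had : a.1 = d.1
  · rw [hsy c d]
    exact key hab' (Ne.symm hcd') (by omega) had
  by_cases hbc : b.1 = c.1
  · rw [hsy a b]
    exact key (Ne.symm hab') hcd' (by omega) hbc
  by_cases hbd : b.1 = d.1
  · rw [hsy a b, hsy c d]
    exact key (Ne.symm hab') (Ne.symm hcd') (by omega) hbd
  exact h3 a b c d hab' hcd' hac had hbc hbd

end

/-- **The root elements of `PΩ₈⁺(2)`.** -/
theorem exists_pk {F : Type*} [Field F] [Finite F] (hF : Nat.card F = 2) :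
    ∃ g : P → P → Cfsg.POmega F (Cfsg.quadFormPlus 4 F), Pk g ∧ NoCover g := by
  have hF01 : ∀ t : F, t = 0 ∨ t = 1 := by
    classical
    have := Fintype.ofFinite F
    rw [Nat.card_eq_fintype_card] at hF
    obtain ⟨x, y, hxy, h⟩ := Finset.card_eq_two.1 (Finset.card_univ.trans hF)
    intro t
    have h0 : (0 : F) ∈ ({x, y} : Finset F) := h ▸ Finset.mem_univ _
    have h1 : (1 : F) ∈ ({x, y} : Finset F) := h ▸ Finset.mem_univ _
    have ht : t ∈ ({x, y} : Finset F) := h ▸ Finset.mem_univ _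
    simp only [Finset.mem_insert, Finset.mem_singleton] at h0 h1 ht
    have h01 : (0 : F) ≠ 1 := zero_ne_one
    rcases h0 with h0 | h0 <;> rcases h1 with h1 | h1 <;> rcases ht with ht | ht
    · exact absurd (h0.trans h1.symm) h01
    · exact absurd (h0.trans h1.symm) h01
    · left; rw [ht, h0]
    · right; rw [ht, h1]
    · right; rw [ht, h1]
    · left; rw [ht, h0]
    · exact absurd (h0.trans h1.symm) h01
    · exact absurd (h0.trans h1.symm) h01
  have h2 : (2 : F) = 0 := by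
    rcases hF01 (2 : F) with h6 | h6
    · exact h6
    · exfalso
      have h8 : (1 : F) + 1 = 1 := by rw [one_add_one_eq_two, h6]
      simp at h8
  have : Fact (Nat.Prime 2) := ⟨Nat.prime_two⟩
  have : CharP F 2 := charP_two h2
  have hG : Good (plusForm (2 + 2) F) := good_plus (by omega) F
  let cs := (M 2).toCoxeterSystem
  have hW : Finite (M 2).Group := finite_W cs
  have R := rgdD_model (wplus (2 + 2) F) hG (amb_plus _) (adm_plus _) (p := 2) cs
  have hgen := G1D_eq_top (wplus (2 + 2) F) (toPOmega hG) (toPOmega_surjective hG) (adm_plus _) cs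
  have S := sysK cs h2 (adm_plus (F := F) (2 + 2)) (toPOmega hG)
  have h3 : 3 ≤ Fintype.card (Fin (2 + 2)) := by rw [Fintype.card_fin]; omega
  have main : ∃ g : P → P → Cfsg.POmega F ⇑(plusForm (2 + 2) F), Pk g ∧ NoCover g := by
    refine ⟨gg cs _, pk S h2, ?_⟩
    intro Y _ _ π c hD h h1 h4
    refine false_of_orth S h2 (three (fun i j => (M_ne i j).1) (fun i j => (M_ne i j).2) (conn_D (by omega)) h3)
      (fun r hr => exists_one (fun i j => (M_ne i j).1) (fun i j => (M_ne i j).2) (conn_D (by omega)) h3 hr) hth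
      (X := XD (wplus (2 + 2) F) (toPOmega hG)) (fun r hr g => mem_XD cs h2 (adm_plus _) _ hr g)
      (fun r hr _ a ha => inj_K cs h2 (adm_plus _) _ (ker_toPOmega hG) (by omega) hr ha)
      (OfRGD.dir (fun i j => (M_ne i j).1) (fun i j => (M_ne i j).2) R) ?_ hD h
      (fun r hr s hs h0 a b => lc_all S hF01 h h1 h4 hr hs h0 a b)
    rw [OfRGD.pos_eq]
    have : Finite (Cfsg.POmega F ⇑(plusForm (2 + 2) F)) := Finite.of_surjective π hD.surj
    exact odd_index R hgen
  have e : ⇑(plusForm (2 + 2) F) = Cfsg.quadFormPlus 4 F := coe_plusForm (2 + 2) F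
  rw [e] at main
  exact main

end Cfsg.Agent.OddHalf.D9.EEight.D4Pack
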