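import Cfsg.Agent.OddHalf.D9.EEight.FrameHom
import Cfsg.Agent.OddHalf.D9.EEight.Facts

/-!
# The even sign changes in `D₈` coordinates (helper912)

`n 0, …, n 7` pairwise orthogonal vectors of norm `4`, congruent modulo `2`: the even sign changes
`f : Ev →* W` in these coordinates and `IsFt det neg f`.
-/

set_option autoImplicit false

namespace Cfsg.Agent.OddHalf.D9.EEight.FtHom

open Matrix Cfsg.Agent.OddHalf.D9.EEight Cfsg.Agent.OddHalf.D9.EEight.FrameBase
  Cfsg.Agent.OddHalf.D9.EEight.FrameHom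

/-- `8` orthogonal vectors of norm `4`, congruent modulo `2`. -/
structure Fr4 (n : Fin 8 → Lat) : Prop where
  gram : ∀ i j, form (n i) (n j) = if i = j then 4 else 0
  cong : ∀ i j, ∃ y, n i - n j = (2 : ℤ) • y

variable {n : Fin 8 → Lat}

theorem Fr4.norm (hn : Fr4 n) (i : Fin 8) : form (n i) (n i) = 4 := by
  rw [hn.gram, if_pos rfl]

theorem Fr4.orth (hn : Fr4 n) {i j : Fin 8} (h : i ≠ j) : form (n i) (n j) = 0 := by
  rw [hn.gram, if_neg h]

theorem Fr4.form_sum (hn : Fr4 n) (c : Fin 8 → ℤ) (j : Fin 8) :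
    form (∑ i, c i • n i) (n j) = 4 * c j := by
  rw [form_sum_left, Finset.sum_eq_single j]
  · rw [form_smul_left, hn.norm]; ring
  · intro i _ hi
    rw [form_smul_left, hn.orth hi, mul_zero]
  · intro h; exact absurd (Finset.mem_univ j) h

theorem Fr4.mul_gram (hn : Fr4 n) : Matrix.of n * GM * (Matrix.of n)ᵀ =
    (4 : ℤ) • (1 : Matrix (Fin 8) (Fin 8) ℤ) := by
  ext i j
  have e : (Matrix.of n * GM * (Matrix.of n)ᵀ) i j = form (n i) (n j) := by
    rw [mul_apply]
    unfold form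
    rw [dotProduct_mulVec]
    rfl
  rw [e, Matrix.smul_apply, one_apply, hn.gram]
  split_ifs <;> rfl

theorem Fr4.det_ne (hn : Fr4 n) : (Matrix.of n).det ≠ 0 := by
  intro h
  have h1 := congrArg Matrix.det hn.mul_gram
  rw [det_mul, det_mul, h, zero_mul, zero_mul, det_smul, det_one] at h1
  revert h1
  norm_num

/-- `4 x = ∑ (x, n i) n i` -/
theorem Fr4.four_smul (hn : Fr4 n) (x : Lat) : (4 : ℤ) • x = ∑ i, form x (n i) • n i := by
  have h2 : (Matrix.of n)ᵀ * (Matrix.of n * GM) = (4 : ℤ) • (1 : Matrix (Fin 8) (Fin 8) ℤ) := by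
    have hdet : ((Matrix.of n)ᵀ).det ≠ 0 := by rw [det_transpose]; exact hn.det_ne
    have h3 : (Matrix.of n)ᵀ * (Matrix.of n * GM) * (Matrix.of n)ᵀ =
        (4 : ℤ) • (1 : Matrix (Fin 8) (Fin 8) ℤ) * (Matrix.of n)ᵀ := by
      rw [Matrix.mul_assoc, hn.mul_gram, mul_smul_comm, smul_mul_assoc, Matrix.mul_one,
        Matrix.one_mul]
    have h4 : ((Matrix.of n)ᵀ * (Matrix.of n * GM) - (4 : ℤ) • (1 : Matrix (Fin 8) (Fin 8) ℤ)) *
        (Matrix.of n)ᵀ = 0 := by rw [sub_mul, h3, sub_self]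
    have h5 := congrArg (fun M => M * ((Matrix.of n)ᵀ).adjugate) h4
    simp only [Matrix.mul_assoc, mul_adjugate, Matrix.zero_mul] at h5
    rw [mul_smul_comm, Matrix.mul_one] at h5
    have h6 := (smul_eq_zero.1 h5).resolve_left hdet
    exact sub_eq_zero.1 h6
  have h3 : (Matrix.of n)ᵀ *ᵥ (Matrix.of n *ᵥ (GM *ᵥ x)) = (4 : ℤ) • x := by
    rw [mulVec_mulVec, mulVec_mulVec, Matrix.mul_assoc, h2, smul_mulVec, one_mulVec]
  rw [← h3]
  have h4 : Matrix.of n *ᵥ (GM *ᵥ x) = fun i => form x (n i) := by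
    funext i
    rw [form_comm]; rfl
  rw [h4]
  funext k
  rw [Finset.sum_apply]
  show ∑ i, ((Matrix.of n)ᵀ k i) * form x (n i) = ∑ i, (form x (n i) • n i) k
  refine Finset.sum_congr rfl fun i _ => ?_
  show n i k * form x (n i) = form x (n i) * n i k
  ring

theorem four_smul_inj {x y : Lat} (h : (4 : ℤ) • x = (4 : ℤ) • y) : x = y := by
  funext i
  have h1 := congrFun h i
  have h2 : 4 * x i = 4 * y i := h1
  omega

theorem Fr4.ext (hn : Fr4 n) {x y : Lat} (h : ∀ i, form x (n i) = form y (n i)) : x = y := by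
  apply four_smul_inj
  rw [hn.four_smul, hn.four_smul]
  exact Finset.sum_congr rfl fun i _ => by rw [h i]

theorem Fr4.sum_form (hn : Fr4 n) (x y : Lat) :
    ∑ i, form x (n i) * form y (n i) = 4 * form x y := by
  rw [← form_smul_left, hn.four_smul, form_sum_left]
  exact Finset.sum_congr rfl fun i _ => by rw [form_smul_left, form_comm y]

theorem Fr4.parity (hn : Fr4 n) (x : Lat) (i j : Fin 8) : Even (form x (n i) - form x (n j)) := by
  obtain ⟨y, hy⟩ := hn.cong i j
  refine ⟨form x y, ?_⟩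
  rw [← form_sub_right, hy, form_smul_right]; ring

/-- Vectors with prescribed products. -/
theorem Fr4.exists_vec (hn : Fr4 n) (x : Lat) (d : Fin 8 → ℤ) (hd : Even (∑ i, d i)) :
    ∃ y, ∀ i, form y (n i) = form x (n i) + 2 * d i := by
  -- `∑ d i n i` is in `2 L`
  obtain ⟨u, hu⟩ : ∃ u : Lat, ∑ i, d i • n i = (2 : ℤ) • u := by
    have h1 := fun i => hn.cong i 0
    choose c hc using h1
    obtain ⟨m, hm⟩ := hd
    refine ⟨∑ i, d i • c i + m • n 0, ?_⟩
    have h2 : ∀ i, d i • n i = (2 : ℤ) • (d i • c i) + d i • n 0 := by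
      intro i
      have h3 : n i = (2 : ℤ) • c i + n 0 := by rw [← hc i]; abel
      rw [h3, smul_add, smul_comm]
    rw [Finset.sum_congr rfl fun i _ => h2 i, Finset.sum_add_distrib, ← Finset.smul_sum,
      ← Finset.sum_smul, hm, smul_add, smul_smul]
    congr 2
    ring
  refine ⟨x + u, fun i => ?_⟩
  have h1 := hn.form_sum d i
  rw [hu, form_smul_left] at h1
  rw [form_add_left]
  omega

/-- Elements of `W` with prescribed coordinates. -/
theorem Fr4.exists_w (hn : Fr4 n) (T : Lat → Fin 8 → ℤ) (hadd : ∀ x y i, T (x + y) i = T x i + T y i)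
    (hsmul : ∀ (m : ℤ) x i, T (m • x) i = m * T x i)
    (hreal : ∀ x, ∃ y, ∀ i, form y (n i) = T x i)
    (hiso : ∀ x y, ∑ i, T x i * T y i = ∑ i, form x (n i) * form y (n i)) :
    ∃ w : W, ∀ x i, form (ap w x) (n i) = T x i := by
  choose h hh using hreal
  obtain ⟨w, hw⟩ := exists_iso { toFun := h
                                 map_add' := fun x y => hn.ext fun i => by
                                   rw [form_add_left, hh, hh, hh, hadd]
                                 map_smul' := fun m x => hn.ext fun i => by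
                                   rw [RingHom.id_apply, form_smul_left, hh, hh, hsmul] } (by
    intro x y
    show form (h x) (h y) = form x y
    have h1 := hn.sum_form (h x) (h y)
    have h2 := hn.sum_form x y
    rw [← hiso] at h2
    have h3 : ∑ i, form (h x) (n i) * form (h y) (n i) = ∑ i, T x i * T y i :=
      Finset.sum_congr rfl fun i _ => by rw [hh, hh]
    omega)
  exact ⟨w, fun x i => by rw [hw]; exact hh x i⟩

/-- A sum of integers of the same parity over the minus signs of an even vector is even. -/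
theorem even_sum {ε : Sg} (hε : ε ∈ Ev) (c : Fin 8 → ℤ) (hc : ∀ i j, Even (c i - c j)) :
    Even (∑ i, if ε i = -1 then c i else 0) := by
  have h1 : Even (Finset.univ.filter (fun i => ε i = -1)).card := by
    have h2 : ∀ ε : Sg, ε ∈ Ev → Even (Finset.univ.filter (fun i => ε i = -1)).card := by
      decide +kernel
    exact h2 ε hε
  have h3 : ∑ i, (if ε i = -1 then c i else 0) =
      ∑ i, (if ε i = -1 then c i - c 0 else 0) +
        ((Finset.univ.filter (fun i => ε i = -1)).card : ℤ) * c 0 := by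
    have h4 : ((Finset.univ.filter (fun i => ε i = -1)).card : ℤ) * c 0 =
        ∑ i, (if ε i = -1 then c 0 else 0) := by
      rw [← Finset.sum_filter, Finset.sum_const, nsmul_eq_mul]
    rw [h4, ← Finset.sum_add_distrib]
    refine Finset.sum_congr rfl fun i _ => ?_
    split_ifs <;> ring
  rw [h3]
  refine Even.add ?_ ?_
  · refine Finset.even_sum _ fun i _ => ?_
    split_ifs
    · exact hc i 0
    · exact Even.zero
  · exact Even.mul_right (by exact_mod_cast h1) _

theorem Fr4.exists_fW (hn : Fr4 n) (ε : Ev) :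
    ∃ w : W, ∀ x i, form (ap w x) (n i) = (((ε : Sg) i : ℤˣ) : ℤ) * form x (n i) := by
  refine hn.exists_w _ (fun x y i => ?_) (fun m x i => ?_) (fun x => ?_) (fun x y => ?_)
  · rw [form_add_left]; ring
  · rw [form_smul_left]; ring
  · obtain ⟨y, hy⟩ := hn.exists_vec x (fun i => if (ε : Sg) i = -1 then -form x (n i) else 0) (by
      refine even_sum ε.2 (fun i => -form x (n i)) fun i j => ?_
      have := hn.parity x j i
      rwa [show form x (n j) - form x (n i) = -form x (n i) - -form x (n j) by ring] at this)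
    refine ⟨y, fun i => ?_⟩
    rw [hy]
    rcases Int.units_eq_one_or ((ε : Sg) i) with h | h
    · rw [h, if_neg (by decide)]; simp
    · rw [h, if_pos rfl]
      push_cast; ring
  · refine Finset.sum_congr rfl fun i _ => ?_
    rcases Int.units_eq_one_or ((ε : Sg) i) with h | h <;> rw [h] <;> push_cast <;> ring

/-- The sign change. -/
noncomputable def fW (hn : Fr4 n) (ε : Ev) : W := (hn.exists_fW ε).choose

theorem form_fW (hn : Fr4 n) (ε : Ev) (x : Lat) (i : Fin 8) :
    form (ap (fW hn ε) x) (n i) = (((ε : Sg) i : ℤˣ) : ℤ) * form x (n i) :=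
  (hn.exists_fW ε).choose_spec x i

/-- **The even sign changes in `D₈` coordinates.** -/
noncomputable def fh (hn : Fr4 n) : Ev →* W where
  toFun := fW hn
  map_one' := by
    apply ext_ap
    intro x
    apply hn.ext
    intro i
    rw [form_fW, ap_one, Subgroup.coe_one, Pi.one_apply]; simp
  map_mul' ε η := by
    apply ext_ap
    intro x
    apply hn.ext
    intro i
    rw [form_fW, ap_mul, form_fW, form_fW, Subgroup.coe_mul, Pi.mul_apply]
    push_cast; ring

theorem form_fh (hn : Fr4 n) (ε : Ev) (x : Lat) (i : Fin 8) :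
    form (ap (fh hn ε) x) (n i) = (((ε : Sg) i : ℤˣ) : ℤ) * form x (n i) := form_fW hn ε x i

theorem ap_fh (hn : Fr4 n) (ε : Ev) (j : Fin 8) :
    ap (fh hn ε) (n j) = (((ε : Sg) j : ℤˣ) : ℤ) • n j := by
  apply hn.ext
  intro i
  rw [form_fh, form_smul_left]
  by_cases h : j = i
  · rw [h]
  · rw [hn.orth h, mul_zero, mul_zero]

/-- uniqueness -/
theorem eq_fh (hn : Fr4 n) {w : W} {ε : Ev}
    (h : ∀ j, ap w (n j) = (((ε : Sg) j : ℤˣ) : ℤ) • n j) : w = fh hn ε := by
  apply ext_ap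
  intro x
  apply hn.ext
  intro j
  rw [form_fh]
  have h1 : form (ap w x) (ap w (n j)) = form x (n j) := form_ap w x (n j)
  rw [h j, form_smul_right] at h1
  rw [← h1, ← mul_assoc, unit_mul_self, one_mul]

theorem smul_n_inj (hn : Fr4 n) {a b : ℤ} {i : Fin 8} (h : a • n i = b • n i) : a = b := by
  have h2 := congrArg (fun y => form y (n i)) h
  simp only [form_smul_left, hn.norm] at h2
  omega

theorem fh_inj (hn : Fr4 n) : Function.Injective (fh hn) := by
  intro ε η h
  apply Subtype.ext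
  funext j
  have h1 := ap_fh hn ε j
  rw [h, ap_fh] at h1
  exact Units.ext (smul_n_inj hn h1).symm

theorem fh_m1 (hn : Fr4 n) : fh hn m1 = neg := by
  symm
  apply eq_fh
  intro j
  rw [ap_neg_one, coe_m1]
  simp

/-- The matrix of an element that permutes the `n i` up to signs. -/
theorem mat_eq {w : W} {s : Sg} {σ : Equiv.Perm (Fin 8)}
    (h : ∀ i, ap w (n (σ i)) = ((s i : ℤˣ) : ℤ) • n i) :
    ((w : (Matrix (Fin 8) (Fin 8) ℤ)ˣ) : Matrix (Fin 8) (Fin 8) ℤ) *
      ((Matrix.of n)ᵀ.submatrix id σ) = (Matrix.of n)ᵀ * Matrix.diagonal (fun i => ((s i : ℤˣ) : ℤ)) := by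
  ext k i
  have h1 := congrFun (h i) k
  rw [mul_apply, mul_diagonal]
  simp only [submatrix_apply, id_eq, transpose_apply, of_apply]
  unfold ap at h1
  rw [mulVec, dotProduct] at h1
  rw [h1]
  simp [mul_comm]

/-- The determinant. -/
theorem det_eq (hn : Fr4 n) {w : W} {s : Sg} {σ : Equiv.Perm (Fin 8)}
    (h : ∀ i, ap w (n (σ i)) = ((s i : ℤˣ) : ℤ) • n i) : det w = Equiv.Perm.sign σ * prd s := by
  have h1 := congrArg Matrix.det (mat_eq h)
  rw [det_mul, det_mul, det_diagonal, ← coe_det, det_permute'] at h1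
  have h2 : ((Matrix.of n)ᵀ).det ≠ 0 := by rw [det_transpose]; exact hn.det_ne
  have h3 : ((EEight.det w : ℤˣ) : ℤ) * ((Equiv.Perm.sign σ : ℤˣ) : ℤ) = ∏ i, ((s i : ℤˣ) : ℤ) := by
    apply mul_left_cancel₀ h2
    linear_combination h1
  have h4 : EEight.det w * Equiv.Perm.sign σ = prd s := by
    apply Units.ext
    rw [Units.val_mul, h3, prd_apply, Units.coe_prod]
  rw [← h4]
  rcases Int.units_eq_one_or (Equiv.Perm.sign σ) with h5 | h5 <;> rw [h5] <;> simp

theorem det_fh (hn : Fr4 n) (ε : Ev) : det (fh hn ε) = 1 := by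
  have h1 := det_eq hn (σ := 1) (s := ε) (fun i => ap_fh hn ε i)
  rw [h1, Equiv.Perm.sign_one, one_mul]
  exact ε.2

/-- Permutations. -/
theorem exists_perm4 (hn : Fr4 n) (σ : Equiv.Perm (Fin 8)) : ∃ w : W, ∀ i, ap w (n (σ i)) = n i := by
  obtain ⟨w, hw⟩ := hn.exists_w (fun x i => form x (n (σ i))) (fun x y i => form_add_left _ _ _)
    (fun m x i => form_smul_left _ _ _) (fun x => by
      have h1 : ∀ i, ∃ d, form x (n (σ i)) - form x (n i) = 2 * d := fun i => by
        obtain ⟨d, hd⟩ := hn.parity x (σ i) i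
        exact ⟨d, by rw [hd]; ring⟩
      choose d hd using h1
      obtain ⟨y, hy⟩ := hn.exists_vec x d (by
        have h2 : 2 * ∑ i, d i = 0 := by
          rw [Finset.mul_sum, ← Finset.sum_congr rfl fun i _ => hd i, Finset.sum_sub_distrib,
            Equiv.sum_comp σ (fun i => form x (n i)), sub_self]
        have h3 : ∑ i, d i = 0 := by omega
        rw [h3]; exact Even.zero)
      exact ⟨y, fun i => by rw [hy]; linarith [hd i]⟩)
    (fun x y => Equiv.sum_comp σ (fun i => form x (n i) * form y (n i)))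
  refine ⟨w, fun i => hn.ext fun j => ?_⟩
  rw [hw, hn.gram, hn.gram]
  simp

theorem conj_eq4 (hn : Fr4 n) {w : W} {σ : Equiv.Perm (Fin 8)} (h : ∀ i, ap w (n (σ i)) = n i)
    (ε : Ev) : w * fh hn ε * w⁻¹ = fh hn (pmE σ ε) := by
  apply eq_fh
  intro i
  have h1 : ap w⁻¹ (n i) = n (σ i) := by rw [← h i, ap_inv_ap]
  rw [ap_mul, ap_mul, h1, ap_fh, ap_smul, h]
  rfl

/-- The trace. -/
theorem trace_fh (hn : Fr4 n) (ε : Ev) :
    Matrix.trace ((fh hn ε : (Matrix (Fin 8) (Fin 8) ℤ)ˣ) : Matrix (Fin 8) (Fin 8) ℤ) =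
      ∑ i, (((ε : Sg) i : ℤˣ) : ℤ) := by
  have h1 := mat_eq (σ := 1) (s := ε) (fun i => ap_fh hn ε i)
  rw [Equiv.Perm.coe_one, submatrix_id_id] at h1
  have h2 : ((Matrix.of n)ᵀ).det ≠ 0 := by rw [det_transpose]; exact hn.det_ne
  have h3 := congrArg (fun M => Matrix.trace (M * ((Matrix.of n)ᵀ).adjugate)) h1
  simp only [Matrix.mul_assoc, mul_adjugate] at h3
  rw [Matrix.trace_mul_comm ((Matrix.of n)ᵀ), Matrix.mul_assoc, adjugate_mul, mul_smul_comm,
    mul_smul_comm, Matrix.mul_one, Matrix.mul_one, trace_smul, trace_smul, trace_diagonal,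
    smul_eq_mul, smul_eq_mul] at h3
  exact mul_left_cancel₀ h2 h3

theorem trace_conj (w v : W) :
    Matrix.trace (((w * v * w⁻¹ : W) : (Matrix (Fin 8) (Fin 8) ℤ)ˣ) : Matrix (Fin 8) (Fin 8) ℤ) =
      Matrix.trace ((v : (Matrix (Fin 8) (Fin 8) ℤ)ˣ) : Matrix (Fin 8) (Fin 8) ℤ) := by
  rw [Subgroup.coe_mul, Subgroup.coe_mul, Units.val_mul, Units.val_mul, Matrix.trace_mul_comm,
    ← Matrix.mul_assoc, ← Units.val_mul, ← Subgroup.coe_mul, inv_mul_cancel]
  simp

theorem sum_eq (ε : Sg) : ∑ i, ((ε i : ℤˣ) : ℤ) = 8 - 2 * (wt ε : ℤ) := by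
  have h : ∀ ε : Sg, ∑ i, ((ε i : ℤˣ) : ℤ) = 8 - 2 * (wt ε : ℤ) := by decide +kernel
  exact h ε

/-- Some lattice vector has odd products. -/
theorem exists_odd (hn : Fr4 n) : ∃ x, ∀ i, ¬ Even (form x (n i)) := by
  by_contra hcon
  have h1 : ∀ x, Even (form (n 0) x) := by
    intro x
    by_contra h
    apply hcon
    refine ⟨x, fun i hi => h ?_⟩
    rw [form_comm]
    have h2 := hn.parity x 0 i
    have h3 := h2.add hi
    rwa [sub_add_cancel] at h3
  obtain ⟨y, hy⟩ := exists_half h1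
  have h2 := hn.norm 0
  rw [hy, form_smul_left, form_smul_right] at h2
  obtain ⟨k, hk⟩ := even_form y
  rw [hk] at h2
  omega

theorem cen4 (hn : Fr4 n) (w : W) (hw : ∀ ε, w * fh hn ε = fh hn ε * w) : w ∈ (fh hn).range := by
  have h1 : ∀ i, ∃ s : ℤˣ, ap w (n i) = (s : ℤ) • n i := by
    intro i
    have he : ∀ η : Ev, ap (fh hn η) (ap w (n i)) = (((η : Sg) i : ℤˣ) : ℤ) • ap w (n i) := by
      intro η
      rw [← ap_mul, ← hw η, ap_mul, ap_fh, ap_smul]
    have hk : ∀ k, k ≠ i → form (ap w (n i)) (n k) = 0 := by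
      intro k hki
      obtain ⟨η, hη, h2, h3⟩ := exists_even hki
      have h4 := form_fh hn ⟨η, hη⟩ (ap w (n i)) k
      rw [he ⟨η, hη⟩, form_smul_left] at h4
      simp only [h2, h3] at h4
      push_cast at h4
      omega
    have h2 : (4 : ℤ) • ap w (n i) = form (ap w (n i)) (n i) • n i := by
      rw [hn.four_smul, Finset.sum_eq_single i]
      · intro k _ hki; rw [hk k hki, zero_smul]
      · intro h; exact absurd (Finset.mem_univ i) h
    have h3 : form (ap w (n i)) (n i) * form (ap w (n i)) (n i) = 16 := by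
      have h4 := hn.sum_form (ap w (n i)) (ap w (n i))
      rw [Finset.sum_eq_single i (fun k _ hki => by rw [hk k hki, mul_zero])
        (fun h => absurd (Finset.mem_univ i) h), form_ap, hn.norm] at h4
      rw [h4]; norm_num
    have h4 : (form (ap w (n i)) (n i) - 4) * (form (ap w (n i)) (n i) + 4) = 0 := by
      linear_combination h3
    rcases mul_eq_zero.1 h4 with h5 | h5
    · refine ⟨1, four_smul_inj ?_⟩
      rw [h2, show form (ap w (n i)) (n i) = 4 by omega]; simp
    · refine ⟨-1, four_smul_inj ?_⟩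
      rw [h2, show form (ap w (n i)) (n i) = -4 by omega]; simp
  choose s hs using h1
  have hev : s ∈ Ev := by
    obtain ⟨x, hx⟩ := exists_odd hn
    have h2 : ∀ i, form (ap w x) (n i) = ((s i : ℤˣ) : ℤ) * form x (n i) := by
      intro i
      have h3 : form (ap w x) (ap w (n i)) = form x (n i) := form_ap w x (n i)
      rw [hs i, form_smul_right] at h3
      rw [← h3, ← mul_assoc, unit_mul_self, one_mul]
    have h3 := hn.sum_form (ap w x) x
    rw [Finset.sum_congr rfl fun i _ => by rw [h2 i]] at h3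
    have h4 : ∀ i, ∃ k, form x (n i) * form x (n i) = 8 * k + 1 := by
      intro i
      have h5 : Odd (form x (n i)) := Int.not_even_iff_odd.1 (hx i)
      have h6 := Int.sq_mod_four_eq_one_of_odd h5
      have h7 := Int.eight_dvd_sq_sub_one_of_odd h5
      obtain ⟨k, hk⟩ := h7
      exact ⟨k, by linarith [hk, sq (form x (n i))]⟩
    choose k hk using h4
    have h5 : ∑ i, ((s i : ℤˣ) : ℤ) * form x (n i) * form x (n i) =
        8 * ∑ i, ((s i : ℤˣ) : ℤ) * k i + ∑ i, ((s i : ℤˣ) : ℤ) := by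
      rw [Finset.mul_sum, ← Finset.sum_add_distrib]
      refine Finset.sum_congr rfl fun i _ => ?_
      rw [mul_assoc, hk i]; ring
    rw [h5, sum_eq] at h3
    have h6 : Even (wt s) := by
      have h7 : (2 : ℤ) ∣ (wt s : ℤ) := by
        refine ⟨2 * ∑ i, ((s i : ℤˣ) : ℤ) * k i + 2 - form (ap w x) x, ?_⟩
        linarith
      have h8 : 2 ∣ wt s := by exact_mod_cast h7
      exact (even_iff_two_dvd).2 h8
    have h7 : ∀ s : Sg, Even (wt s) → s ∈ Ev := by decide +kernel
    exact h7 s h6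
  exact ⟨⟨s, hev⟩, (eq_fh hn hs).symm⟩

/-- **The facts on the `D₈` group.** -/
theorem isFt (hn : Fr4 n) : IsFt det neg (fh hn) where
  inj := fh_inj hn
  det := det_fh hn
  neg := fh_m1 hn
  sym σ hσ := by
    obtain ⟨w, hw⟩ := exists_perm4 hn σ
    refine ⟨w, ?_, conj_eq4 hn hw⟩
    have h1 := det_eq hn (w := w) (s := 1) (σ := σ) (fun i => by rw [hw i]; simp)
    rw [h1, hσ, map_one, one_mul]
  cen := cen4 hn
  dist w ε η h := by
    have h1 := trace_conj w (fh hn ε)
    rw [h, trace_fh, trace_fh, sum_eq, sum_eq] at h1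
    omega

theorem exists_ft (n : Fin 8 → Lat) (hn : ∀ i j, form (n i) (n j) = if i = j then 4 else 0)
    (h2 : ∀ i j, ∃ y, n i - n j = (2 : ℤ) • y) :
    ∃ f : Ev →* W, IsFt det neg f ∧
      ∀ (ε : Ev) j, ap (f ε) (n j) = (((ε : Sg) j : ℤˣ) : ℤ) • n j :=
  ⟨fh ⟨hn, h2⟩, isFt ⟨hn, h2⟩, ap_fh ⟨hn, h2⟩⟩

end Cfsg.Agent.OddHalf.D9.EEight.FtHom
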