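import Cfsg.Agent.OddHalf.D9.EEight.Move
import Cfsg.Agent.OddHalf.D9.EEight.FrameCode

/-!
# Every involution of `W(E₈)` negates a root (helper528)

`exists_neg_root`. Proof: let `g` be an involution which negates no root. The parity of `f(x) = (x, g x)` is additive; on
a labelled frame its sign vector is a code word; if it is not trivial, there is a block on which `f` is odd, and the half
sums of the block give a root `r` with `f(r)` even and `g r ≠ r`; so `(r, g r) = 0`. Put `r`, `g r` into a labelled frame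
`a` as `a 0`, `a 1`. The norm 4 vectors `n = a p ± a q` congruent to `a 0 - a 1` mod 2 satisfy `g n = ± n` (otherwise
`(n - g n)/2` is a negated root), and `g n = - n` is impossible for `n ≠ ±(a 0 - a 1)`; so `g` interchanges `a 0`, `a 1` and
fixes the other six: this is not integral.
-/

set_option autoImplicit false

namespace Cfsg.Agent.OddHalf.D9.EEight.InvRoot

open Matrix Cfsg.Agent.OddHalf.D9.EEight Cfsg.Agent.OddHalf.D9.EEight.FrameBase
  Cfsg.Agent.OddHalf.D9.EEight.FrameHom Cfsg.Agent.OddHalf.D9.EEight.FrameCode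
  Cfsg.Agent.OddHalf.D9.EEight.Move

variable {a : Fin 8 → Lat}

theorem form_add_sq (x y : Lat) : form (x + y) (x + y) = form x x + 2 * form x y + form y y := by
  rw [form_add_left, form_add_right, form_add_right, form_comm y x]; ring

theorem form_sub_sq (x y : Lat) : form (x - y) (x - y) = form x x - 2 * form x y + form y y := by
  rw [form_sub_left, form_sub_right, form_sub_right, form_comm y x]; ring

/-! ### Half sums -/

/-- the vector with products 1 on the support of a code word -/
theorem exists_code (ha : Frame a) (hl : Lab a) {ε : Sg} (hε : IsCode ε) :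
    ∃ y, ∀ i, form y (a i) = if ε i = -1 then 1 else 0 := by
  obtain ⟨x, hx⟩ := (hl ε).1 hε
  have h1 : ∀ i, ∃ m : ℤ, form x (a i) - (if ε i = -1 then 1 else 0) = 2 * m := by
    intro i
    have h2 := congrFun hx i
    rw [sgn_apply] at h2
    split_ifs with h
    · rw [h, Int.negOnePow_eq_neg_one_iff] at h2
      obtain ⟨k, hk⟩ := h2
      exact ⟨k, by omega⟩
    · have h3 : ε i = 1 := by
        rcases Int.units_eq_one_or (ε i) with h4 | h4
        · exact h4
        · exact absurd h4 h
      rw [h3, Int.negOnePow_eq_one_iff] at h2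
      obtain ⟨k, hk⟩ := h2
      exact ⟨k, by omega⟩
  choose m hm using h1
  refine ⟨x - ∑ i, m i • a i, fun i => ?_⟩
  rw [form_sub_left, ha.form_sum, ← hm i]; ring

/-- the 14 blocks -/
def blocks : List (Fin 8 × Fin 8 × Fin 8 × Fin 8) :=
  [(0, 1, 2, 3), (0, 1, 4, 5), (0, 1, 6, 7), (0, 2, 4, 6), (0, 2, 5, 7), (0, 3, 4, 7), (0, 3, 5, 6),
   (4, 5, 6, 7), (2, 3, 6, 7), (2, 3, 4, 5), (1, 3, 5, 7), (1, 3, 4, 6), (1, 2, 5, 6), (1, 2, 4, 7)]

/-- the sign vector of four points -/
def bv (i j k l : Fin 8) : Sg := fun m => if m = i ∨ m = j ∨ m = k ∨ m = l then -1 else 1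

theorem blocks_spec : ∀ b ∈ blocks, IsCode (bv b.1 b.2.1 b.2.2.1 b.2.2.2) ∧ b.1 < b.2.1 ∧ b.2.1 < b.2.2.1 ∧
    b.2.2.1 < b.2.2.2 := by
  intro b hb
  simp only [blocks, List.mem_cons, List.not_mem_nil, or_false] at hb
  rcases hb with rfl | rfl | rfl | rfl | rfl | rfl | rfl | rfl | rfl | rfl | rfl | rfl | rfl | rfl <;>
    exact ⟨by decide +kernel, by decide, by decide, by decide⟩

theorem blocks_cover (e3 e5 e6 e7 : ℤˣ) : (e3 = 1 ∧ e5 = 1 ∧ e6 = 1 ∧ e7 = 1) ∨
    ∃ b ∈ blocks, ![e3 * e5 * e6, e3 * e5 * e7, e3 * e6 * e7, e3, e5 * e6 * e7, e5, e6, e7] b.1 = -1 ∧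
      ![e3 * e5 * e6, e3 * e5 * e7, e3 * e6 * e7, e3, e5 * e6 * e7, e5, e6, e7] b.2.1 = -1 ∧
      ![e3 * e5 * e6, e3 * e5 * e7, e3 * e6 * e7, e3, e5 * e6 * e7, e5, e6, e7] b.2.2.1 = -1 ∧
      ![e3 * e5 * e6, e3 * e5 * e7, e3 * e6 * e7, e3, e5 * e6 * e7, e5, e6, e7] b.2.2.2 = -1 := by
  rcases Int.units_eq_one_or e3 with rfl | rfl <;> rcases Int.units_eq_one_or e5 with rfl | rfl <;>
    rcases Int.units_eq_one_or e6 with rfl | rfl <;> rcases Int.units_eq_one_or e7 with rfl | rfl
  · exact Or.inl ⟨rfl, rfl, rfl, rfl⟩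
  · exact Or.inr ⟨(1, 2, 4, 7), by decide, by decide, by decide, by decide, by decide⟩
  · exact Or.inr ⟨(0, 2, 4, 6), by decide, by decide, by decide, by decide, by decide⟩
  · exact Or.inr ⟨(0, 1, 6, 7), by decide, by decide, by decide, by decide, by decide⟩
  · exact Or.inr ⟨(0, 1, 4, 5), by decide, by decide, by decide, by decide, by decide⟩
  · exact Or.inr ⟨(0, 2, 5, 7), by decide, by decide, by decide, by decide, by decide⟩
  · exact Or.inr ⟨(1, 2, 5, 6), by decide, by decide, by decide, by decide, by decide⟩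
  · exact Or.inr ⟨(4, 5, 6, 7), by decide, by decide, by decide, by decide, by decide⟩
  · exact Or.inr ⟨(0, 1, 2, 3), by decide, by decide, by decide, by decide, by decide⟩
  · exact Or.inr ⟨(0, 3, 4, 7), by decide, by decide, by decide, by decide, by decide⟩
  · exact Or.inr ⟨(1, 3, 4, 6), by decide, by decide, by decide, by decide, by decide⟩
  · exact Or.inr ⟨(2, 3, 6, 7), by decide, by decide, by decide, by decide, by decide⟩
  · exact Or.inr ⟨(2, 3, 4, 5), by decide, by decide, by decide, by decide, by decide⟩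
  · exact Or.inr ⟨(1, 3, 5, 7), by decide, by decide, by decide, by decide, by decide⟩
  · exact Or.inr ⟨(0, 3, 5, 6), by decide, by decide, by decide, by decide, by decide⟩
  · exact Or.inr ⟨(0, 1, 2, 3), by decide, by decide, by decide, by decide, by decide⟩

theorem code_cover {ε : Sg} (h : IsCode ε) : (∀ i, ε i = 1) ∨
    ∃ i j k l : Fin 8, i < j ∧ j < k ∧ k < l ∧ IsCode (bv i j k l) ∧ ε i = -1 ∧ ε j = -1 ∧ ε k = -1 ∧ ε l = -1 := by
  obtain ⟨c1, c2, c3, c4⟩ := h
  rw [prd_apply, Fin.prod_univ_eight] at c1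
  obtain ⟨e0, e1, e2, e4⟩ := code_alg' _ _ _ _ _ _ _ _ c1 c2 c3 c4
  have he : ε = ![ε 3 * ε 5 * ε 6, ε 3 * ε 5 * ε 7, ε 3 * ε 6 * ε 7, ε 3, ε 5 * ε 6 * ε 7, ε 5, ε 6, ε 7] := by
    funext i
    fin_cases i
    · exact e0
    · exact e1
    · exact e2
    · rfl
    · exact e4
    · rfl
    · rfl
    · rfl
  rcases blocks_cover (ε 3) (ε 5) (ε 6) (ε 7) with ⟨h3, h5, h6, h7⟩ | ⟨b, hb, h1, h2, h3, h4⟩
  · left
    intro i
    rw [he, h3, h5, h6, h7]
    fin_cases i <;> simp
  · right
    obtain ⟨s1, s2, s3, s4⟩ := blocks_spec b hb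
    rw [← he] at h1 h2 h3 h4
    exact ⟨_, _, _, _, s2, s3, s4, s1, h1, h2, h3, h4⟩

/-- the half sum of a block -/
theorem exists_half_block (ha : Frame a) (hl : Lab a) {i j k l : Fin 8} (hij : i < j) (hjk : j < k) (hkl : k < l)
    (hb : IsCode (bv i j k l)) : ∃ s, (2 : ℤ) • s = a i + a j + a k + a l := by
  obtain ⟨y, hy⟩ := exists_code ha hl hb
  refine ⟨y, ?_⟩
  apply ha.ext
  intro m
  have h1 : form ((2 : ℤ) • y) (a m) = if bv i j k l m = -1 then 2 else 0 := by
    rw [form_smul_left, hy m]
    split_ifs <;> rfl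
  rw [h1]
  have hne : i ≠ j ∧ i ≠ k ∧ i ≠ l ∧ j ≠ k ∧ j ≠ l ∧ k ≠ l :=
    ⟨hij.ne, (hij.trans hjk).ne, (hij.trans (hjk.trans hkl)).ne, hjk.ne, (hjk.trans hkl).ne, hkl.ne⟩
  obtain ⟨n1, n2, n3, n4, n5, n6⟩ := hne
  rw [form_add_left, form_add_left, form_add_left]
  unfold bv
  by_cases c1 : m = i
  · subst c1
    rw [ha.root, ha.orth _ _ (Ne.symm n1), ha.orth _ _ (Ne.symm n2), ha.orth _ _ (Ne.symm n3)]
    simp
  · by_cases c2 : m = j
    · subst c2
      rw [ha.root, ha.orth _ _ n1, ha.orth _ _ (Ne.symm n4), ha.orth _ _ (Ne.symm n5)]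
      simp
    · by_cases c3 : m = k
      · subst c3
        rw [ha.root, ha.orth _ _ n2, ha.orth _ _ n4, ha.orth _ _ (Ne.symm n6)]
        simp
      · by_cases c4 : m = l
        · subst c4
          rw [ha.root, ha.orth _ _ n3, ha.orth _ _ n5, ha.orth _ _ n6]
          simp
        · rw [ha.orth _ _ (Ne.symm c1), ha.orth _ _ (Ne.symm c2), ha.orth _ _ (Ne.symm c3),
            ha.orth _ _ (Ne.symm c4)]
          rw [if_neg (by rw [if_neg (by simp [c1, c2, c3, c4])]; decide)]
          simp

/-! ### The parity of `(x, g x)` -/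

section

variable {g : W}

/-- the parity of `(x, g x)` -/
def ev (g : W) (x : Lat) : Prop := Even (form x (ap g x))

theorem form_add_self (hg : g * g = 1) (x y : Lat) :
    form (x + y) (ap g (x + y)) = form x (ap g x) + form y (ap g y) + 2 * form x (ap g y) := by
  have h : form y (ap g x) = form x (ap g y) := by
    rw [form_comm, ← form_ap g, ← ap_mul, hg, ap_one]
  rw [ap_add, form_add_left, form_add_right, form_add_right, h]; ring

theorem ev_add (hg : g * g = 1) {x y : Lat} : ev g (x + y) ↔ (ev g x ↔ ev g y) := by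
  unfold ev
  rw [form_add_self hg, Int.even_add, Int.even_add]
  simp

theorem ev_neg {x : Lat} : ev g (-x) ↔ ev g x := by
  unfold ev
  rw [ap_neg, form_neg_left, form_neg_right, neg_neg]

theorem ev_sub (hg : g * g = 1) {x y : Lat} : ev g (x - y) ↔ (ev g x ↔ ev g y) := by
  rw [sub_eq_add_neg, ev_add hg, ev_neg]

theorem ev_two (s : Lat) : ev g ((2 : ℤ) • s) := by
  unfold ev
  rw [ap_smul, form_smul_left]
  exact ⟨form s ((2 : ℤ) • ap g s), by ring⟩

/-- Step 1: a root `r` with `(r, g r)` even and `g r ≠ r`. -/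
theorem exists_even_root (hg : g * g = 1) (hne : g ≠ 1) (ha : Frame a) (hl : Lab a) :
    ∃ r, IsRoot r ∧ ev g r ∧ ap g r ≠ r := by
  by_contra hcon
  push Not at hcon
  -- the sign vector of `ev` on the frame
  let φ : Sg := fun i => (form (a i) (ap g (a i))).negOnePow
  have hφ : ∀ i, ev g (a i) ↔ φ i = 1 := fun i => (Int.negOnePow_eq_one_iff _).symm
  have hφ' : ∀ i, ¬ ev g (a i) ↔ φ i = -1 := by
    intro i
    rw [hφ]
    rcases Int.units_eq_one_or (φ i) with h | h <;> rw [h] <;> decide
  have hblock : ∀ i j k l : Fin 8, i < j → j < k → k < l → IsCode (bv i j k l) → φ i * φ j * φ k * φ l = 1 := by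
    intro i j k l hij hjk hkl hb
    obtain ⟨s, hs⟩ := exists_half_block ha hl hij hjk hkl hb
    have h1 := ev_two (g := g) s
    rw [hs, ev_add hg, ev_add hg, ev_add hg, hφ, hφ, hφ, hφ] at h1
    revert h1
    generalize φ i = e1
    generalize φ j = e2
    generalize φ k = e3
    generalize φ l = e4
    revert e1 e2 e3 e4
    decide
  have hcode : IsCode φ := by
    have c1 := hblock 0 1 2 3 (by decide) (by decide) (by decide) (by decide +kernel)
    have c2 := hblock 0 1 4 5 (by decide) (by decide) (by decide) (by decide +kernel)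
    have c3 := hblock 0 2 4 6 (by decide) (by decide) (by decide) (by decide +kernel)
    have c4 := hblock 1 2 4 7 (by decide) (by decide) (by decide) (by decide +kernel)
    obtain ⟨d1, d2, d3, d4⟩ := code_alg _ _ _ _ _ _ _ _ c1 c2 c3 c4
    refine ⟨?_, d2, d3, d4⟩
    rw [prd_apply, Fin.prod_univ_eight]
    exact d1
  rcases code_cover hcode with h | ⟨i, j, k, l, hij, hjk, hkl, hb, h1, h2, h3, h4⟩
  · -- all fixed
    apply hne
    apply ext_ap
    intro x
    apply ha.ext
    intro i
    have h1 := hcon (a i) (ha.root i) ((hφ i).2 (h i))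
    rw [ap_one, ← h1, form_ap, h1]
  · obtain ⟨s, hs⟩ := exists_half_block ha hl hij hjk hkl hb
    have n1 : i ≠ j := hij.ne
    have n2 : i ≠ k := (hij.trans hjk).ne
    have n3 : i ≠ l := (hij.trans (hjk.trans hkl)).ne
    have n4 : j ≠ k := hjk.ne
    have n5 : j ≠ l := (hjk.trans hkl).ne
    have n6 : k ≠ l := hkl.ne
    rw [← hφ'] at h1 h2 h3 h4
    have hsi : ∀ m, 2 * form s (a m) = form (a i) (a m) + form (a j) (a m) + form (a k) (a m) + form (a l) (a m) := by
      intro m
      rw [← form_smul_left, hs, form_add_left, form_add_left, form_add_left]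
    have si : form s (a i) = 1 := by
      have := hsi i
      rw [ha.root, ha.orth _ _ (Ne.symm n1), ha.orth _ _ (Ne.symm n2), ha.orth _ _ (Ne.symm n3)] at this
      omega
    have sj : form s (a j) = 1 := by
      have := hsi j
      rw [ha.root, ha.orth _ _ n1, ha.orth _ _ (Ne.symm n4), ha.orth _ _ (Ne.symm n5)] at this
      omega
    have sk : form s (a k) = 1 := by
      have := hsi k
      rw [ha.root, ha.orth _ _ n2, ha.orth _ _ n4, ha.orth _ _ (Ne.symm n6)] at this
      omega
    have sl : form s (a l) = 1 := by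
      have := hsi l
      rw [ha.root, ha.orth _ _ n3, ha.orth _ _ n5, ha.orth _ _ n6] at this
      omega
    have hsr : form s s = 2 := by
      have h5 : form ((2 : ℤ) • s) s = 4 := by
        rw [hs, form_add_left, form_add_left, form_add_left, form_comm (a i), form_comm (a j), form_comm (a k),
          form_comm (a l), si, sj, sk, sl]; rfl
      rw [form_smul_left] at h5
      omega
    by_cases hes : ev g s
    · -- `s`, `s - a i - a j`, … are fixed
      have key : ∀ p q, p ≠ q → form s (a p) = 1 → form s (a q) = 1 → ¬ ev g (a p) → ¬ ev g (a q) →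
          ap g (a p) + ap g (a q) = a p + a q := by
        intro p q hpq hp hq ep eq
        have f1 : IsRoot (s - a p - a q) := by
          show form _ _ = 2
          rw [form_sub_sq, form_sub_sq, form_sub_left, hsr, hp, hq, ha.root, ha.root, ha.orth p q hpq]; rfl
        have f2 : ev g (s - a p - a q) := by
          rw [ev_sub hg, ev_sub hg]; tauto
        have f3 := hcon _ f1 f2
        have f4 := hcon s hsr hes
        rw [ap_sub, ap_sub, f4] at f3
        have f5 : s - ap g (a p) - ap g (a q) + (ap g (a p) + ap g (a q)) + (a p + a q) =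
            s - a p - a q + (ap g (a p) + ap g (a q)) + (a p + a q) := by rw [f3]
        have f6 : s - ap g (a p) - ap g (a q) + (ap g (a p) + ap g (a q)) + (a p + a q) = s + (a p + a q) := by abel
        have f7 : s - a p - a q + (ap g (a p) + ap g (a q)) + (a p + a q) = s + (ap g (a p) + ap g (a q)) := by abel
        rw [f6, f7] at f5
        exact (add_left_cancel f5).symm
      have e1 := key i j n1 si sj h1 h2
      have e2 := key i k n2 si sk h1 h3
      have e3 := key j k n4 sj sk h2 h3
      have e4 : (2 : ℤ) • ap g (a i) = (2 : ℤ) • a i := by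
        have e5 : (2 : ℤ) • ap g (a i) = (ap g (a i) + ap g (a j)) + (ap g (a i) + ap g (a k)) -
            (ap g (a j) + ap g (a k)) := by rw [two_smul]; abel
        rw [e5, e1, e2, e3, two_smul]; abel
      have e5 := two_smul_inj e4
      apply h1
      unfold ev
      rw [e5, ha.root]; decide
    · have key : ∀ p, form s (a p) = 1 → ¬ ev g (a p) → ap g s - ap g (a p) = s - a p := by
        intro p hp ep
        have f1 : IsRoot (s - a p) := by
          show form _ _ = 2
          rw [form_sub_sq, hsr, hp, ha.root]; rfl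
        have f2 : ev g (s - a p) := by
          rw [ev_sub hg]; tauto
        have f3 := hcon _ f1 f2
        rw [ap_sub] at f3
        exact f3
      have e1 := key i si h1
      have e2 := key j sj h2
      have e3 := key k sk h3
      have e4 := key l sl h4
      -- `2 (g s - s) = 4 (g s - s)`
      have e5 : (2 : ℤ) • ap g s = ap g (a i) + ap g (a j) + ap g (a k) + ap g (a l) := by
        rw [← ap_smul, hs, ap_add, ap_add, ap_add]
      have e6 : (2 : ℤ) • ap g s = (2 : ℤ) • s := by
        have e7 : (4 : ℤ) • ap g s - (ap g (a i) + ap g (a j) + ap g (a k) + ap g (a l)) =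
            (4 : ℤ) • s - (a i + a j + a k + a l) := by
          have e8 : (4 : ℤ) • ap g s - (ap g (a i) + ap g (a j) + ap g (a k) + ap g (a l)) =
            (ap g s - ap g (a i)) + (ap g s - ap g (a j)) + (ap g s - ap g (a k)) + (ap g s - ap g (a l)) := by
            rw [show (4 : ℤ) = 1 + 1 + 1 + 1 by norm_num]
            simp only [add_smul, one_smul]; abel
          rw [e8, e1, e2, e3, e4, show (4 : ℤ) = 1 + 1 + 1 + 1 by norm_num]
          simp only [add_smul, one_smul]; abel
        rw [← e5, ← hs] at e7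
        have e9 : (4 : ℤ) • ap g s - (2 : ℤ) • ap g s = (2 : ℤ) • ap g s := by
          rw [← sub_smul]; norm_num
        have e10 : (4 : ℤ) • s - (2 : ℤ) • s = (2 : ℤ) • s := by
          rw [← sub_smul]; norm_num
        rw [e9, e10] at e7
        exact e7
      apply hes
      unfold ev
      rw [two_smul_inj e6, hsr]; decide

end

/-! ### The standard frame -/

/-- the standard frame -/
def a0 : Fin 8 → Lat :=
  ![![0, 0, 0, 0, 0, 0, 1, 0], ![0, 0, 0, 0, 1, 0, 0, 0], ![0, 0, 1, 0, 0, 0, 0, 0], ![2, 2, 3, 4, 3, 2, 1, 0],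
    ![0, 1, 0, 0, 0, 0, 0, 0], ![2, 3, 4, 6, 5, 4, 3, 2], ![0, 1, 1, 2, 2, 2, 1, 0], ![0, 1, 1, 2, 1, 0, 0, 0]]

theorem frame_a0 : Frame a0 where
  root := by unfold form; decide +kernel
  orth := by unfold form; decide +kernel

theorem exists_frame : ∃ a : Fin 8 → Lat, Frame a ∧ Lab a := by
  obtain ⟨π, hπ⟩ := exists_lab frame_a0
  exact ⟨_, frame_a0.comp π, hπ⟩

theorem lab_map {a : Fin 8 → Lat} (hl : Lab a) (w : W) : Lab (fun i => ap w (a i)) := by
  intro ε
  rw [hl]
  have h : ∀ x, sgn (fun i => ap w (a i)) (ap w x) = sgn a x := by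
    intro x
    funext i
    rw [sgn_apply, sgn_apply, form_ap]
  constructor
  · rintro ⟨x, hx⟩
    exact ⟨ap w x, by rw [h, hx]⟩
  · rintro ⟨x, hx⟩
    refine ⟨ap w⁻¹ x, ?_⟩
    rw [← h, ap_ap_inv, hx]

/-- orthogonal roots as the first two members of a labelled frame -/
theorem exists_frame_pair {r s : Lat} (hr : IsRoot r) (hs : IsRoot s) (hrs : form r s = 0) :
    ∃ a : Fin 8 → Lat, Frame a ∧ Lab a ∧ a 0 = r ∧ a 1 = s := by
  obtain ⟨a, ha, hl⟩ := exists_frame
  obtain ⟨w, hw1, hw2⟩ := trans2 hr hs hrs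
  obtain ⟨v, hv1, hv2⟩ := trans2 (ha.root 0) (ha.root 1) (ha.orth 0 1 (by decide))
  refine ⟨_, ha.map (w⁻¹ * v), lab_map hl (w⁻¹ * v), ?_, ?_⟩
  · rw [ap_mul, hv1, ← hw1, ap_inv_ap]
  · rw [ap_mul, hv2, ← hw2, ap_inv_ap]

/-- **Every involution negates a root.** -/
theorem exists_neg_root {g : W} (hg : g * g = 1) (hne : g ≠ 1) : ∃ r, IsRoot r ∧ ap g r = -r := by
  by_contra hcon
  push Not at hcon
  obtain ⟨b, hb, hbl⟩ := exists_frame
  obtain ⟨r, hr, her, hfix⟩ := exists_even_root hg hne hb hbl
  have hgr : IsRoot (ap g r) := isRoot_ap hr g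
  have horth : form r (ap g r) = 0 := by
    obtain ⟨h1, h2⟩ := root_bound hr hgr
    obtain ⟨m, hm⟩ := her
    rcases (show form r (ap g r) = -2 ∨ form r (ap g r) = 0 ∨ form r (ap g r) = 2 by omega) with h | h | h
    · exact absurd (eq_neg_of_form hr hgr h) (hcon r hr)
    · exact h
    · exact absurd (eq_of_form hr hgr h).symm hfix
  obtain ⟨a, ha, hl, h0, h1⟩ := exists_frame_pair hr hgr horth
  have g0 : ap g (a 0) = a 1 := by rw [h0, h1]
  have g1 : ap g (a 1) = a 0 := by rw [h1, ← ap_mul, hg, ap_one, h0]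
  -- norm 4 vectors congruent to `a 0 - a 1`
  have key : ∀ p q : Fin 8, 1 < p → p < q → IsCode (bv 0 1 p q) → ∀ e : ℤ, (e = 1 ∨ e = -1) →
      ap g (a p + e • a q) = a p + e • a q := by
    intro p q hp hpq hcode e he
    have n0p : (0 : Fin 8) ≠ p := (lt_trans (by decide) hp).ne
    have n1p : (1 : Fin 8) ≠ p := hp.ne
    have n0q : (0 : Fin 8) ≠ q := (lt_trans (lt_trans (by decide) hp) hpq).ne
    have n1q : (1 : Fin 8) ≠ q := (lt_trans hp hpq).ne
    have npq : p ≠ q := hpq.ne
    have he2 : e * e = 1 := by rcases he with h | h <;> rw [h] <;> rfl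
    obtain ⟨s, hs⟩ := exists_half_block ha hl (i := 0) (j := 1) (by decide) hp hpq hcode
    -- `n - (a 0 - a 1) = 2 m`
    have hnm : ∃ m, a p + e • a q - (a 0 - a 1) = (2 : ℤ) • m := by
      rcases he with h | h
      · refine ⟨s - a 0, ?_⟩
        rw [h, smul_sub, hs, one_smul, two_smul]; abel
      · refine ⟨s - a 0 - a q, ?_⟩
        rw [h, smul_sub, smul_sub, hs, neg_smul, one_smul, two_smul, two_smul]; abel
    obtain ⟨m, hm⟩ := hnm
    set n : Lat := a p + e • a q with hn
    have hgn : ap g n = (2 : ℤ) • ap g m + (a 1 - a 0) := by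
      have e1 : n = (2 : ℤ) • m + (a 0 - a 1) := by rw [← hm]; abel
      rw [e1, ap_add, ap_smul, ap_sub, g0, g1]
    have hhalf : ∃ t, n - ap g n = (2 : ℤ) • t := by
      refine ⟨m - ap g m + (a 0 - a 1), ?_⟩
      have e1 : n = (2 : ℤ) • m + (a 0 - a 1) := by rw [← hm]; abel
      rw [hgn]
      conv_lhs => rw [e1]
      rw [smul_add, smul_sub, two_smul ℤ (a 0 - a 1)]; abel
    obtain ⟨t, ht⟩ := hhalf
    have hnn : form n n = 4 := by
      rw [hn, form_add_left, form_add_right, form_add_right, form_smul_left, form_smul_right, form_smul_left,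
        form_smul_right, ha.root, ha.root, ha.orth p q npq, ha.orth q p (Ne.symm npq)]
      linear_combination 2 * he2
    have hgt : ap g t = -t := by
      apply two_smul_inj
      rw [← ap_smul, ← ht, ap_sub, ← ap_mul, hg, ap_one, smul_neg, ← ht]; abel
    have hfc : form (ap g n) n = form n (ap g n) := form_comm _ _
    have hgg : form (ap g n) (ap g n) = 4 := by rw [form_ap, hnn]
    have htt : 4 * form t t = 8 - 2 * form n (ap g n) := by
      have e1 : form ((2 : ℤ) • t) ((2 : ℤ) • t) = 4 * form t t := by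
        rw [form_smul_left, form_smul_right]; ring
      rw [← e1, ← ht, form_sub_sq, hnn, hgg]; ring
    have hnonneg := form_nonneg (n + ap g n)
    rw [form_add_sq, hnn, hgg] at hnonneg
    obtain ⟨u, hu⟩ := even_form t
    have htn := form_nonneg t
    rcases (show form t t = 0 ∨ form t t = 2 ∨ form t t = 4 by omega) with h | h | h
    · have := form_eq_zero h
      rw [this, smul_zero] at ht
      exact (sub_eq_zero.1 ht).symm
    · exact absurd hgt (hcon t h)
    · -- `g n = - n`
      exfalso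
      have h5 : form (n + ap g n) (n + ap g n) = 0 := by
        rw [form_add_sq, hnn, hgg]; omega
      have h6 : ap g n = -n := eq_neg_of_add_eq_zero_right (form_eq_zero h5)
      -- `(a 0 - a 1 + n)/2` is a negated root
      have h7 : ap g (m + (a 0 - a 1)) = -(m + (a 0 - a 1)) := by
        apply two_smul_inj
        have e1 : (2 : ℤ) • (m + (a 0 - a 1)) = n + (a 0 - a 1) := by
          rw [smul_add, ← hm, two_smul]; abel
        rw [← ap_smul, smul_neg, e1, ap_add, h6, ap_sub, g0, g1]; abel
      refine absurd h7 (hcon _ ?_)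
      show form _ _ = 2
      have e1 : (2 : ℤ) • (m + (a 0 - a 1)) = n + (a 0 - a 1) := by
        rw [smul_add, ← hm, two_smul]; abel
      have e2 : form ((2 : ℤ) • (m + (a 0 - a 1))) ((2 : ℤ) • (m + (a 0 - a 1))) =
          4 * form (m + (a 0 - a 1)) (m + (a 0 - a 1)) := by
        rw [form_smul_left, form_smul_right]; ring
      have e3 : form n (a 0 - a 1) = 0 := by
        rw [hn, form_sub_right, form_add_left, form_add_left, form_smul_left, form_smul_left,
          ha.orth p 0 (Ne.symm n0p), ha.orth q 0 (Ne.symm n0q), ha.orth p 1 (Ne.symm n1p),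
          ha.orth q 1 (Ne.symm n1q)]; ring
      have e4 : form (a 0 - a 1) (a 0 - a 1) = 4 := by
        rw [form_sub_left, form_sub_right, form_sub_right, ha.root, ha.root, ha.orth 0 1 (by decide),
          ha.orth 1 0 (by decide)]; rfl
      rw [e1, form_add_sq, hnn, e3, e4] at e2
      omega
  -- the other six are fixed
  have hfixed : ∀ p q : Fin 8, 1 < p → p < q → IsCode (bv 0 1 p q) → ap g (a p) = a p := by
    intro p q hp hpq hcode
    have k1 := key p q hp hpq hcode 1 (Or.inl rfl)
    have k2 := key p q hp hpq hcode (-1) (Or.inr rfl)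
    apply two_smul_inj
    have e1 : ap g (a p + (1 : ℤ) • a q) + ap g (a p + (-1 : ℤ) • a q) = (2 : ℤ) • ap g (a p) := by
      rw [ap_add, ap_add, ap_smul, ap_smul, one_smul, neg_smul, one_smul, two_smul]; abel
    rw [← e1, k1, k2, one_smul, neg_smul, one_smul, two_smul]; abel
  have f2 := hfixed 2 3 (by decide) (by decide) (by decide +kernel)
  have f4 := hfixed 4 5 (by decide) (by decide) (by decide +kernel)
  have f6 := hfixed 6 7 (by decide) (by decide) (by decide +kernel)
  obtain ⟨s, hs⟩ := exists_half_block ha hl (i := 0) (j := 2) (k := 4) (l := 6) (by decide) (by decide)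
    (by decide) (by decide +kernel)
  have h5 : (2 : ℤ) • (ap g s - s) = a 1 - a 0 := by
    rw [smul_sub, ← ap_smul, hs, ap_add, ap_add, ap_add, g0, f2, f4, f6]; abel
  have h6 : form ((2 : ℤ) • (ap g s - s)) ((2 : ℤ) • (ap g s - s)) = 4 * form (ap g s - s) (ap g s - s) := by
    rw [form_smul_left, form_smul_right]; ring
  have e4 : form (a 1 - a 0) (a 1 - a 0) = 4 := by
    rw [form_sub_left, form_sub_right, form_sub_right, ha.root, ha.root, ha.orth 0 1 (by decide),
      ha.orth 1 0 (by decide)]; rfl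
  rw [h5, e4] at h6
  obtain ⟨u, hu⟩ := even_form (ap g s - s)
  omega

end Cfsg.Agent.OddHalf.D9.EEight.InvRoot
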