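import Cfsg.Agent.OddHalf.D9.EEight.TwoTypesEnd
import Cfsg.Agent.OddHalf.D9.EEight.CxOut
import Cfsg.Agent.OddHalf.D9.EEight.RfFive
import Cfsg.Agent.OddHalf.D9.EEight.Extend
import Cfsg.Agent.OddHalf.D9.EEight.InvRoot
import Cfsg.Agent.OddHalf.D9.EEight.FtHom
import Cfsg.Agent.OddHalf.D9.EEight.FrFt

/-!
# `EF det neg IsRefl` (helpers 109, 528, 912)
-/

set_option autoImplicit false

namespace Cfsg.Agent.OddHalf.D9.EEight.EFInst

open Fields EigCard OutRefl TwoTypesEnd

theorem negRoot : NegRoot := fun _ h1 h2 => InvRoot.exists_neg_root h1 h2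

theorem exFt : ExFt := fun n h1 h2 => FtHom.exists_ft n h1 h2

/-- **The facts on `W(E₈)`.** -/
theorem ef : EF det neg IsRefl where
  c_ne := c_ne
  c_sq := c_sq
  c_comm := c_comm
  c_det := c_det
  cenK := cenK
  rf_det := rf_det
  rf_neg := rf_neg
  rf_conj := rf_conj
  rf_trans := rf_trans
  rf_five := RfFive.rf_five
  inv_frame := Extend.inv_frame
  card_le := card_le
  two_types := two_types negRoot exFt
  cx_card := cx_card
  cx_out := fun v w hv hw => cx_out v w hv hw
  out_refl := fun M hE hM _ hK => out_refl negRoot M hE hM hK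
  fr_ft := FrFt.fr_ft

end Cfsg.Agent.OddHalf.D9.EEight.EFInst
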