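import Cfsg.Agent.OddHalf.D9.EEight.Fields

/-!
# Common eigenvectors of an elementary abelian group of isometries (helper109)

`exists_eig`: a finite elementary abelian `M ≤ W` has eight common eigenvectors `v i`, linearly independent, with
signs `χ : M →* Sg` injective and `det m = prd (χ m)`.
-/

set_option autoImplicit false

namespace Cfsg.Agent.OddHalf.D9.EEight.Eig

open Coord Move Fields

/-- the rational vector of a lattice vector -/
def q (x : Lat) : Fin 8 → ℚ := fun i => (x i : ℚ)

theorem q_injective : Function.Injective q := fun x y h => by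
  funext i
  have : (x i : ℚ) = (y i : ℚ) := congrFun h i
  exact_mod_cast this

theorem eq_zero_of_neg {x : Lat} (h : x = -x) : x = 0 := by
  funext i
  have := congrFun h i
  simp only [Pi.neg_apply] at this
  show x i = 0
  omega

theorem unit_smul_inj {x : Lat} (hx : x ≠ 0) {a b : ℤˣ} (h : (a : ℤ) • x = (b : ℤ) • x) : a = b := by
  rcases Int.units_eq_one_or a with rfl | rfl <;> rcases Int.units_eq_one_or b with rfl | rfl
  · rfl
  · simp only [Units.val_one, one_smul, Units.val_neg, neg_smul] at h
    exact absurd (eq_zero_of_neg h) hx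
  · simp only [Units.val_one, one_smul, Units.val_neg, neg_smul] at h
    exact absurd (eq_zero_of_neg h.symm) hx
  · rfl

theorem q_add (x y : Lat) : q (x + y) = q x + q y := by funext i; simp [q]
theorem q_sub (x y : Lat) : q (x - y) = q x - q y := by funext i; simp [q]
theorem q_neg (x : Lat) : q (-x) = - q x := by funext i; simp [q]
theorem q_zero : q 0 = 0 := by funext i; simp [q]
theorem q_smul (n : ℤ) (x : Lat) : q (n • x) = (n : ℚ) • q x := by funext i; simp [q]
theorem q_sum {ι : Type*} (s : Finset ι) (f : ι → Lat) : q (∑ i ∈ s, f i) = ∑ i ∈ s, q (f i) := by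
  classical
  induction s using Finset.induction_on with
  | empty => simp [q_zero]
  | insert i s hi ih => rw [Finset.sum_insert hi, Finset.sum_insert hi, q_add, ih]

/-- the rational linear map of an isometry -/
noncomputable def L (w : W) : (Fin 8 → ℚ) →ₗ[ℚ] (Fin 8 → ℚ) :=
  Matrix.toLin' (((w : (Matrix (Fin 8) (Fin 8) ℤ)ˣ) : Matrix (Fin 8) (Fin 8) ℤ).map (Int.castRingHom ℚ))

theorem L_q (w : W) (x : Lat) : L w (q x) = q (ap w x) := by
  funext i
  unfold L
  rw [Matrix.toLin'_apply]
  simp [ap, q, Matrix.mulVec, dotProduct]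

theorem det_L (w : W) : LinearMap.det (L w) = ((det w : ℤˣ) : ℤ) := by
  unfold L
  rw [LinearMap.det_toLin', coe_det, ← RingHom.mapMatrix_apply, ← RingHom.map_det]
  simp

/-- common eigenvectors of a set of isometries -/
def ES (l : List W) : Set Lat := {x | ∀ m ∈ l, ap m x = x ∨ ap m x = -x}

theorem span_ES (l : List W) (hl : ∀ x ∈ l, x * x = 1) (hc : ∀ x ∈ l, ∀ y ∈ l, x * y = y * x) :
    ∀ x : Lat, q x ∈ Submodule.span ℚ (q '' ES l) := by
  induction l with
  | nil => exact fun x => Submodule.subset_span ⟨x, by simp [ES], rfl⟩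
  | cons m l ih =>
    have ih' := ih (fun x hx => hl x (List.mem_cons_of_mem _ hx))
      (fun x hx y hy => hc x (List.mem_cons_of_mem _ hx) y (List.mem_cons_of_mem _ hy))
    intro x
    refine Submodule.span_le.2 ?_ (ih' x)
    rintro _ ⟨y, hy, rfl⟩
    have hm : ap m (ap m y) = y := by rw [← ap_mul, hl m List.mem_cons_self, ap_one]
    have h1 : y + ap m y ∈ ES (m :: l) := by
      intro m' hm'
      rcases List.mem_cons.1 hm' with rfl | hm'
      · left; rw [ap_add, hm, add_comm]
      · have e : ap m' (ap m y) = ap m (ap m' y) := by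
          rw [← ap_mul, ← ap_mul, hc _ (List.mem_cons_of_mem _ hm') _ List.mem_cons_self]
        rcases hy m' hm' with h | h
        · left; rw [ap_add, e, h]
        · right; rw [ap_add, e, h, ap_neg, neg_add]
    have h2 : y - ap m y ∈ ES (m :: l) := by
      intro m' hm'
      rcases List.mem_cons.1 hm' with rfl | hm'
      · right; rw [ap_sub, hm, neg_sub]
      · have e : ap m' (ap m y) = ap m (ap m' y) := by
          rw [← ap_mul, ← ap_mul, hc _ (List.mem_cons_of_mem _ hm') _ List.mem_cons_self]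
        rcases hy m' hm' with h | h
        · left; rw [ap_sub, e, h]
        · right; rw [ap_sub, e, h, ap_neg]; abel
    have h3 : q y = (1 / 2 : ℚ) • (q (y + ap m y) + q (y - ap m y)) := by
      rw [q_add, q_sub]
      rw [show q y + q (ap m y) + (q y - q (ap m y)) = (2 : ℚ) • q y by rw [two_smul]; abel, smul_smul]
      norm_num
    show q y ∈ _
    rw [h3]
    exact Submodule.smul_mem _ _ (Submodule.add_mem _ (Submodule.subset_span ⟨_, h1, rfl⟩)
      (Submodule.subset_span ⟨_, h2, rfl⟩))

theorem span_q : Submodule.span ℚ (Set.range q) = ⊤ := by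
  rw [eq_top_iff]
  rintro x -
  have : x = ∑ i, x i • q (Pi.single i 1) := by
    funext j
    rw [Finset.sum_apply]
    simp [q, Pi.single_apply]
  rw [this]
  exact Submodule.sum_mem _ fun i _ => Submodule.smul_mem _ _ (Submodule.subset_span ⟨_, rfl⟩)

/-- a basis of common eigenvectors -/
structure EB (M : Subgroup W) (v : Fin 8 → Lat) (χ : M →* Sg) : Prop where
  ap_v : ∀ (m : M) (i : Fin 8), ap (m : W) (v i) = ((χ m i : ℤˣ) : ℤ) • v i
  inj : Function.Injective χ
  det : ∀ m : M, det (m : W) = prd (χ m)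
  span : ∀ x : Lat, ∃ n : ℤ, n ≠ 0 ∧ ∃ c : Fin 8 → ℤ, n • x = ∑ i, c i • v i
  indep : ∀ c : Fin 8 → ℤ, ∑ i, c i • v i = 0 → ∀ i, c i = 0

theorem EB.ne {M : Subgroup W} {v : Fin 8 → Lat} {χ : M →* Sg} (h : EB M v χ) (i : Fin 8) : v i ≠ 0 := by
  classical
  intro h0
  have := h.indep (Pi.single i 1) (by
    rw [Finset.sum_eq_single i]
    · simp [h0]
    · intro j _ hj; simp [hj]
    · simp) i
  simp at this

theorem exists_eig (M : Subgroup W) [Finite M] (hE : IsEl M) : ∃ (v : Fin 8 → Lat) (χ : M →* Sg), EB M v χ := by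
  classical
  have hfin : (M : Set W).Finite := Set.toFinite _
  set l : List W := hfin.toFinset.toList with hl
  have hmem : ∀ x, x ∈ l ↔ x ∈ M := fun x => by rw [hl, Finset.mem_toList, Set.Finite.mem_toFinset]; rfl
  have hsp : ⊤ ≤ Submodule.span ℚ (q '' ES l) := by
    rw [← span_q, Submodule.span_le]
    rintro _ ⟨x, rfl⟩
    exact span_ES l (fun x hx => hE.1 x ((hmem x).1 hx))
      (fun x hx y hy => hE.2 x ((hmem x).1 hx) y ((hmem y).1 hy)) x
  let b0 := Module.Basis.ofSpan hsp
  have hb0 : ∀ i, b0 i ∈ q '' ES l := fun i => Module.Basis.ofSpan_subset hsp ⟨i, rfl⟩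
  let e := b0.indexEquiv (Pi.basisFun ℚ (Fin 8))
  let b := b0.reindex e
  have hb : ∀ i, ∃ v, v ∈ ES l ∧ q v = b i := fun i => by
    obtain ⟨v, hv, h⟩ := hb0 (e.symm i)
    exact ⟨v, hv, by rw [h, Module.Basis.reindex_apply]⟩
  choose v hvE hvb using hb
  have hne : ∀ i, v i ≠ 0 := fun i h => b.ne_zero i (by rw [← hvb, h, q_zero])
  let s : W → Sg := fun m i => if ap m (v i) = v i then 1 else -1
  have hs : ∀ m ∈ M, ∀ i, ap m (v i) = ((s m i : ℤˣ) : ℤ) • v i := by
    intro m hm i
    show _ = ((if ap m (v i) = v i then (1 : ℤˣ) else -1 : ℤˣ) : ℤ) • v i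
    split_ifs with h
    · rw [h]; simp
    · rcases hvE i m ((hmem m).2 hm) with h1 | h1
      · exact absurd h1 h
      · rw [h1]; simp
  let χ : M →* Sg :=
    { toFun := fun m => s m
      map_one' := by
        funext i
        apply unit_smul_inj (hne i)
        rw [OneMemClass.coe_one, ← hs 1 (one_mem M), ap_one]
        simp
      map_mul' := fun m n => by
        funext i
        apply unit_smul_inj (hne i)
        rw [← hs _ (m * n).2, Pi.mul_apply, Units.val_mul, mul_smul, ← hs _ n.2, Subgroup.coe_mul, ap_mul, hs n n.2,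
          ap_smul, hs m m.2, smul_comm] }
  have hχ : ∀ (m : M) (i : Fin 8), ap (m : W) (v i) = ((χ m i : ℤˣ) : ℤ) • v i := fun m i => hs m m.2 i
  have hL : ∀ (m : M) (i : Fin 8), L (m : W) (b i) = (((χ m i : ℤˣ) : ℤ) : ℚ) • b i := fun m i => by
    rw [← hvb, L_q, hχ, q_smul]
  refine ⟨v, χ, hχ, ?_, ?_, ?_, ?_⟩
  · -- injective
    rw [injective_iff_map_eq_one]
    intro m hm
    have h1 : L (m : W) = LinearMap.id := by
      apply b.ext
      intro i
      rw [hL, hm]
      simp
    apply Subtype.ext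
    apply ext_ap
    intro x
    apply q_injective
    rw [← L_q, h1]
    simp
  · intro m
    have h1 : LinearMap.toMatrix b b (L (m : W)) = Matrix.diagonal (fun i => (((χ m i : ℤˣ) : ℤ) : ℚ)) := by
      ext i j
      rw [LinearMap.toMatrix_apply, hL, map_smul, Finsupp.smul_apply, Module.Basis.repr_self, Matrix.diagonal_apply,
        Finsupp.single_apply]
      by_cases h : i = j
      · subst h; simp
      · simp [h, Ne.symm h]
    have h2 := LinearMap.det_toMatrix b (L (m : W))
    rw [h1, Matrix.det_diagonal, det_L] at h2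
    apply Units.ext
    have h3 : ((∏ i, ((χ m i : ℤˣ) : ℤ) : ℤ) : ℚ) = (((det (m : W) : ℤˣ) : ℤ) : ℚ) := by
      rw [← h2]; push_cast; rfl
    have h4 : (∏ i, ((χ m i : ℤˣ) : ℤ) : ℤ) = ((det (m : W) : ℤˣ) : ℤ) := by exact_mod_cast h3
    rw [prd_apply, ← h4, Units.coe_prod]
  · intro x
    -- clear denominators
    set r : Fin 8 → ℚ := fun i => b.repr (q x) i with hr
    refine ⟨∏ j, ((r j).den : ℤ), ?_, fun i => (r i).num * ∏ j ∈ Finset.univ.erase i, ((r j).den : ℤ), ?_⟩
    · rw [Finset.prod_ne_zero_iff]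
      intro j _
      exact_mod_cast (r j).den_nz
    · apply q_injective
      rw [q_smul, q_sum]
      have h1 : q x = ∑ i, r i • b i := (b.sum_repr (q x)).symm
      rw [h1, Finset.smul_sum]
      refine Finset.sum_congr rfl fun i _ => ?_
      rw [q_smul, hvb, smul_smul]
      congr 1
      rw [← Finset.mul_prod_erase _ _ (Finset.mem_univ i)]
      push_cast
      have h2 : ((r i).den : ℚ) * r i = (r i).num := Rat.den_mul_eq_num (r i)
      rw [← h2]
      ring
  · intro c hc i
    have h1 : ∑ i, (c i : ℚ) • b i = 0 := by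
      have := congrArg q hc
      rw [q_sum, q_zero] at this
      rw [← this]
      exact Finset.sum_congr rfl fun i _ => by rw [q_smul, hvb]
    have h2 := (Fintype.linearIndependent_iff.1 b.linearIndependent) (fun i => (c i : ℚ)) h1 i
    exact_mod_cast h2

end Cfsg.Agent.OddHalf.D9.EEight.Eig
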