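import Cfsg.Agent.OddHalf.D9.EEight.Eig

/-!
# `card_le` and `cx_card` of `EF det neg IsRefl` (helper109)
-/

set_option autoImplicit false

namespace Cfsg.Agent.OddHalf.D9.EEight.EigCard

open Coord Move Fields Eig

theorem card_Sg : Nat.card Sg = 2 ^ 8 := by
  rw [Nat.card_eq_fintype_card]
  simp [Sg]

theorem card_Ev : Nat.card Ev = 2 ^ 7 := by
  have h1 : Nat.card (prd.range) = 2 := by
    have : prd.range = ⊤ := by
      rw [MonoidHom.range_eq_top]
      intro u
      rcases Int.units_eq_one_or u with rfl | rfl
      · exact ⟨1, map_one _⟩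
      · exact ⟨sg 0, by decide⟩
    rw [this, Subgroup.card_top]
    simp
  have h2 := Subgroup.card_mul_index (prd.ker)
  rw [Subgroup.index_ker, h1, card_Sg] at h2
  show Nat.card prd.ker = _
  omega

theorem finite_of_card {M : Subgroup W} {n : ℕ} (h : Nat.card M = 2 ^ n) : Finite M :=
  Nat.finite_of_card_ne_zero (by rw [h]; positivity)

theorem EB.range_le {M : Subgroup W} {v : Fin 8 → Lat} {χ : M →* Sg} (h : EB M v χ) (hK : M ≤ det.ker) :
    χ.range ≤ Ev := by
  rintro _ ⟨m, rfl⟩
  rw [mem_Ev, ← h.det]
  exact hK m.2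

theorem card_le (M : Subgroup W) (hK : M ≤ det.ker) (hE : IsEl M) : Nat.card M ≤ 2 ^ 7 := by
  rcases finite_or_infinite M with hf | hf
  · obtain ⟨v, χ, h⟩ := exists_eig M hE
    rw [← card_Ev]
    rw [Nat.card_congr (Equiv.ofInjective χ h.inj)]
    exact Subgroup.card_le_of_le (EB.range_le h hK)
  · rw [Nat.card_eq_zero_of_infinite]; positivity

theorem cx_card (v : W) (hv : v * v = neg) (M : Subgroup W) (hK : M ≤ det.ker) (hE : IsEl M)
    (hvM : ∀ x ∈ M, v * x = x * v) : Nat.card M ≤ 2 ^ 4 := by
  classical
  rcases finite_or_infinite M with hf | hf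
  swap
  · rw [Nat.card_eq_zero_of_infinite]; positivity
  obtain ⟨u, χ, h⟩ := exists_eig M hE
  have hvv : ∀ x, ap v (ap v x) = -x := fun x => by rw [← ap_mul, hv, ap_neg_one]
  -- every character occurs twice
  have key : ∀ i, ∃ j, j ≠ i ∧ ∀ m : M, χ m j = χ m i := by
    intro i
    by_contra hcon
    push Not at hcon
    obtain ⟨n, hn, c, hc⟩ := h.span (ap v (u i))
    -- only the `i`-th coefficient is non zero
    have hc0 : ∀ j, j ≠ i → c j = 0 := by
      intro j hj
      obtain ⟨m, hm⟩ := hcon j hj
      have h1 : ap (m : W) (n • ap v (u i)) = ((χ m i : ℤˣ) : ℤ) • (n • ap v (u i)) := by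
        rw [ap_smul, ← ap_mul, ← hvM m m.2, ap_mul, h.ap_v, ap_smul, smul_comm]
      rw [hc] at h1
      have h2 : ap (m : W) (∑ k, c k • u k) = ∑ k, (c k * ((χ m k : ℤˣ) : ℤ)) • u k := by
        have : ∀ s : Finset (Fin 8), ap (m : W) (∑ k ∈ s, c k • u k) = ∑ k ∈ s, (c k * ((χ m k : ℤˣ) : ℤ)) • u k := by
          intro s
          induction s using Finset.induction_on with
          | empty => simp
          | insert k s hk ih => rw [Finset.sum_insert hk, Finset.sum_insert hk, ap_add, ih, ap_smul, h.ap_v, smul_smul]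
        exact this _
      rw [h2, Finset.smul_sum] at h1
      have h3 : ∑ k, (c k * ((χ m k : ℤˣ) : ℤ) - ((χ m i : ℤˣ) : ℤ) * c k) • u k = 0 := by
        simp only [sub_smul, Finset.sum_sub_distrib]
        rw [h1, sub_eq_zero]
        exact Finset.sum_congr rfl fun k _ => by rw [smul_smul]
      have h4 := h.indep _ h3 j
      have h5 : c j * (((χ m j : ℤˣ) : ℤ) - ((χ m i : ℤˣ) : ℤ)) = 0 := by rw [← h4]; ring
      rcases mul_eq_zero.1 h5 with h6 | h6
      · exact h6
      · exfalso
        apply hm
        apply Units.ext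
        omega
    have h1 : n • ap v (u i) = c i • u i := by
      rw [hc, Finset.sum_eq_single i]
      · intro j _ hj; rw [hc0 j hj, zero_smul]
      · intro h; exact absurd (Finset.mem_univ i) h
    have h2 : (n * n + c i * c i) • u i = 0 := by
      have e1 : (n * n) • (ap v (ap v (u i))) = (c i * c i) • u i := by
        calc (n * n) • (ap v (ap v (u i))) = n • ap v (n • ap v (u i)) := by rw [ap_smul, smul_smul]
          _ = n • (c i • ap v (u i)) := by rw [h1, ap_smul]
          _ = c i • (n • ap v (u i)) := by rw [smul_comm]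
          _ = _ := by rw [h1, smul_smul]
      rw [hvv, smul_neg] at e1
      rw [add_smul, ← e1]
      abel
    have h3 : n * n + c i * c i ≠ 0 := by
      have := mul_self_pos.2 hn
      have := mul_self_nonneg (c i)
      omega
    rcases smul_eq_zero.1 h2 with h4 | h4
    · exact h3 h4
    · exact h.ne i h4
  -- the classes
  let St : Setoid (Fin 8) :=
    { r := fun i j => ∀ m : M, χ m i = χ m j
      iseqv := ⟨fun _ _ => rfl, fun h m => (h m).symm, fun h h' m => (h m).trans (h' m)⟩ }
  let Qt := Quotient St
  have hfq : Fintype Qt := Fintype.ofFinite Qt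
  have hQ : 2 * Fintype.card Qt ≤ 8 := by
    have h1 := Finset.mul_card_image_le_card_of_maps_to (f := fun i : Fin 8 => (Quotient.mk St i : Qt))
      (s := Finset.univ) (t := (Finset.univ : Finset Qt)) (fun _ _ => Finset.mem_univ _) 2 (by
        intro b _
        obtain ⟨i, rfl⟩ := Quotient.exists_rep b
        obtain ⟨j, hj, hj2⟩ := key i
        have h2 : ({i, j} : Finset (Fin 8)) ⊆
            Finset.univ.filter (fun a : Fin 8 => (Quotient.mk St a : Qt) = Quotient.mk St i) := by
          intro k hk
          rw [Finset.mem_insert, Finset.mem_singleton] at hk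
          rw [Finset.mem_filter]
          refine ⟨Finset.mem_univ _, ?_⟩
          rcases hk with rfl | rfl
          · rfl
          · exact Quotient.sound hj2
        have h3 := Finset.card_le_card h2
        rwa [Finset.card_pair hj.symm] at h3)
    simpa using h1
  let g : M → Qt → ℤˣ := fun m => Quotient.lift (fun i => χ m i) fun i j hij => hij m
  have hg : Function.Injective g := by
    intro m m' hmm
    apply h.inj
    funext i
    exact congrFun hmm (Quotient.mk St i)
  have h1 := Nat.card_le_card_of_injective g hg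
  have h2 : Nat.card (Qt → ℤˣ) = 2 ^ Fintype.card Qt := by
    rw [Nat.card_eq_fintype_card, Fintype.card_fun]
    simp
  rw [h2] at h1
  exact h1.trans (Nat.pow_le_pow_right (by norm_num) (by omega))

end Cfsg.Agent.OddHalf.D9.EEight.EigCard
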