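import Cfsg.Agent.OddHalf.D9.EEight.Model

/-!
# Frames of 8 orthogonal roots in the `E₈` lattice (helper528)

`Frame a`: the roots `a 0, …, a 7` are pairwise orthogonal. `two_smul`: `2 x = ∑ (x, a i) a i`. The code of a frame
(the parity vectors of `x ↦ (x, a i)`) is self-dual (`mem_code_iff`) with weights divisible by 4.
`exists_map`: frames with the same code are conjugate under `W`.
-/

set_option autoImplicit false

namespace Cfsg.Agent.OddHalf.D9.EEight.FrameBase

open Matrix Cfsg.Agent.OddHalf.D9.EEight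

/-- The inverse Gram matrix. -/
def GI : Matrix (Fin 8) (Fin 8) ℤ :=
  !![4, 5, 7, 10, 8, 6, 4, 2;
     5, 8, 10, 15, 12, 9, 6, 3;
     7, 10, 14, 20, 16, 12, 8, 4;
     10, 15, 20, 30, 24, 18, 12, 6;
     8, 12, 16, 24, 20, 15, 10, 5;
     6, 9, 12, 18, 15, 12, 8, 4;
     4, 6, 8, 12, 10, 8, 6, 3;
     2, 3, 4, 6, 5, 4, 3, 2]

theorem GI_mul : GI * GM = 1 := by decide +kernel

/-- half of the Gram matrix -/
def GU : Matrix (Fin 8) (Fin 8) ℤ :=
  !![1, 0, -1, 0, 0, 0, 0, 0;
     0, 1, 0, -1, 0, 0, 0, 0;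
     0, 0, 1, -1, 0, 0, 0, 0;
     0, 0, 0, 1, -1, 0, 0, 0;
     0, 0, 0, 0, 1, -1, 0, 0;
     0, 0, 0, 0, 0, 1, -1, 0;
     0, 0, 0, 0, 0, 0, 1, -1;
     0, 0, 0, 0, 0, 0, 0, 1]

theorem GU_add : GU + GUᵀ = GM := by decide +kernel

/-- The lattice is even. -/
theorem even_form (x : Lat) : Even (form x x) := by
  refine ⟨x ⬝ᵥ (GU *ᵥ x), ?_⟩
  unfold form
  rw [← GU_add, add_mulVec, dotProduct_add]
  congr 1
  rw [dotProduct_mulVec, dotProduct_comm, ← mulVec_transpose, transpose_transpose]

/-- The lattice is unimodular. -/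
theorem exists_half {u : Lat} (h : ∀ x : Lat, Even (form u x)) : ∃ y : Lat, u = (2 : ℤ) • y := by
  have h1 : ∀ i, ∃ v : ℤ, (GM *ᵥ u) i = 2 * v := by
    intro i
    obtain ⟨v, hv⟩ := h (Pi.single i 1)
    refine ⟨v, ?_⟩
    rw [form_comm] at hv
    have h2 : form (Pi.single i 1) u = (GM *ᵥ u) i := by
      unfold form
      rw [single_dotProduct, one_mul]
    rw [← h2, hv]; ring
  choose v hv using h1
  refine ⟨GI *ᵥ v, ?_⟩
  have h3 : GM *ᵥ u = (2 : ℤ) • v := by
    funext i
    rw [hv i]; rfl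
  calc u = (GI * GM) *ᵥ u := by rw [GI_mul, one_mulVec]
    _ = GI *ᵥ (GM *ᵥ u) := by rw [mulVec_mulVec]
    _ = (2 : ℤ) • (GI *ᵥ v) := by rw [h3, mulVec_smul]

/-- 8 pairwise orthogonal roots -/
structure Frame (a : Fin 8 → Lat) : Prop where
  root : ∀ i, form (a i) (a i) = 2
  orth : ∀ i j, i ≠ j → form (a i) (a j) = 0

theorem Frame.comp {a : Fin 8 → Lat} (ha : Frame a) (π : Equiv.Perm (Fin 8)) :
    Frame (fun i => a (π i)) where
  root _ := ha.root _
  orth _ _ h := ha.orth _ _ fun h' => h (π.injective h')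

theorem Frame.map {a : Fin 8 → Lat} (ha : Frame a) (w : W) : Frame (fun i => ap w (a i)) where
  root i := by rw [form_ap]; exact ha.root i
  orth i j h := by rw [form_ap]; exact ha.orth i j h

theorem form_sum_left {ι : Type*} (s : Finset ι) (f : ι → Lat) (y : Lat) :
    form (∑ i ∈ s, f i) y = ∑ i ∈ s, form (f i) y := by
  classical
  induction s using Finset.induction_on with
  | empty => simp [form]
  | insert i s hi ih => rw [Finset.sum_insert hi, Finset.sum_insert hi, form_add_left, ih]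

theorem form_sum_right {ι : Type*} (s : Finset ι) (f : ι → Lat) (y : Lat) :
    form y (∑ i ∈ s, f i) = ∑ i ∈ s, form y (f i) := by
  rw [form_comm, form_sum_left]
  exact Finset.sum_congr rfl fun i _ => form_comm _ _

theorem Frame.form_sum {a : Fin 8 → Lat} (ha : Frame a) (c : Fin 8 → ℤ) (j : Fin 8) :
    form (∑ i, c i • a i) (a j) = 2 * c j := by
  rw [form_sum_left, Finset.sum_eq_single j]
  · rw [form_smul_left, ha.root]; ring
  · intro i _ hi
    rw [form_smul_left, ha.orth i j hi, mul_zero]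
  · intro h; exact absurd (Finset.mem_univ j) h

/-- `2 x = ∑ (x, a i) a i` -/
theorem Frame.two_smul {a : Fin 8 → Lat} (ha : Frame a) (x : Lat) :
    (2 : ℤ) • x = ∑ i, form x (a i) • a i := by
  let A : Matrix (Fin 8) (Fin 8) ℤ := Matrix.of a
  have h1 : A * GM * Aᵀ = (2 : ℤ) • (1 : Matrix (Fin 8) (Fin 8) ℤ) := by
    ext i j
    have e : (A * GM * Aᵀ) i j = form (a i) (a j) := by
      rw [mul_apply]
      unfold form
      rw [dotProduct_mulVec]
      rfl
    rw [e, Matrix.smul_apply, one_apply]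
    split_ifs with hij
    · rw [hij, ha.root]; rfl
    · rw [ha.orth i j hij]; rfl
  have h2 : Aᵀ * (A * GM) = (2 : ℤ) • (1 : Matrix (Fin 8) (Fin 8) ℤ) := by
    have hinj : Function.Injective (fun M : Matrix (Fin 8) (Fin 8) ℤ => M.map (Int.castRingHom ℚ)) :=
      Matrix.map_injective (Int.cast_injective (α := ℚ))
    apply hinj
    have h3 := congrArg (fun M : Matrix (Fin 8) (Fin 8) ℤ => M.map (Int.castRingHom ℚ)) h1
    simp only [Matrix.map_mul] at h3 ⊢
    have e : ((2 : ℤ) • (1 : Matrix (Fin 8) (Fin 8) ℤ)).map (Int.castRingHom ℚ) =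
        (2 : ℚ) • (1 : Matrix (Fin 8) (Fin 8) ℚ) := by
      ext i j
      rw [map_apply, Matrix.smul_apply, Matrix.smul_apply, one_apply, one_apply]
      split_ifs <;> simp
    rw [e] at h3 ⊢
    have h4 : ((1 / 2 : ℚ) • (A.map (Int.castRingHom ℚ) * GM.map (Int.castRingHom ℚ))) *
        Aᵀ.map (Int.castRingHom ℚ) = 1 := by
      rw [smul_mul_assoc, h3, smul_smul]; norm_num
    have h5 := mul_eq_one_comm.1 h4
    rw [mul_smul_comm] at h5
    have h6 := congrArg (fun M => (2 : ℚ) • M) h5
    simp only [smul_smul] at h6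
    norm_num at h6
    exact h6
  have h3 : Aᵀ *ᵥ (A *ᵥ (GM *ᵥ x)) = (2 : ℤ) • x := by
    rw [mulVec_mulVec, mulVec_mulVec, Matrix.mul_assoc, h2, smul_mulVec, one_mulVec]
  rw [← h3]
  have h4 : A *ᵥ (GM *ᵥ x) = fun i => form x (a i) := by
    funext i
    rw [form_comm]; rfl
  rw [h4]
  funext k
  rw [Finset.sum_apply]
  show ∑ i, (Aᵀ k i) * form x (a i) = ∑ i, (form x (a i) • a i) k
  refine Finset.sum_congr rfl fun i _ => ?_
  show a i k * form x (a i) = form x (a i) * a i k
  ring

theorem two_smul_inj {x y : Lat} (h : (2 : ℤ) • x = (2 : ℤ) • y) : x = y := by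
  funext i
  have h1 := congrFun h i
  have h2 : 2 * x i = 2 * y i := h1
  omega

/-- vectors with the same products with a frame are equal -/
theorem Frame.ext {a : Fin 8 → Lat} (ha : Frame a) {x y : Lat}
    (h : ∀ i, form x (a i) = form y (a i)) : x = y := by
  apply two_smul_inj
  rw [ha.two_smul, ha.two_smul]
  exact Finset.sum_congr rfl fun i _ => by rw [h i]

theorem Frame.sum_form {a : Fin 8 → Lat} (ha : Frame a) (x y : Lat) :
    ∑ i, form x (a i) * form y (a i) = 2 * form x y := by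
  rw [← form_smul_left, ha.two_smul, form_sum_left]
  exact Finset.sum_congr rfl fun i _ => by rw [form_smul_left, form_comm y]

/-- a vector with prescribed products -/
theorem Frame.exists_of_orth {a : Fin 8 → Lat} (ha : Frame a) (c : Fin 8 → ℤ)
    (h : ∀ x, Even (∑ i, c i * form x (a i))) : ∃ y, ∀ i, form y (a i) = c i := by
  obtain ⟨y, hy⟩ := exists_half (u := ∑ i, c i • a i) (by
    intro x
    rw [form_sum_left]
    have e : ∑ i, form (c i • a i) x = ∑ i, c i * form x (a i) :=
      Finset.sum_congr rfl fun i _ => by rw [form_smul_left, form_comm x]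
    rw [e]; exact h x)
  refine ⟨y, fun i => ?_⟩
  have h1 := ha.form_sum c i
  rw [hy, form_smul_left] at h1
  omega

/-! ### Isometries from frames -/

/-- An isometric linear map gives an element of `W`. -/
def ofIso (A : Matrix (Fin 8) (Fin 8) ℤ) (hA : Aᵀ * GM * A = GM) : W :=
  ⟨⟨A, GI * (Aᵀ * GM), by
      rw [mul_eq_one_comm, Matrix.mul_assoc, Matrix.mul_assoc, ← Matrix.mul_assoc Aᵀ, hA, GI_mul],
    by rw [Matrix.mul_assoc, Matrix.mul_assoc, ← Matrix.mul_assoc Aᵀ, hA, GI_mul]⟩, hA⟩

theorem exists_iso (h : Lat →ₗ[ℤ] Lat) (hh : ∀ x y, form (h x) (h y) = form x y) :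
    ∃ w : W, ∀ x, ap w x = h x := by
  refine ⟨ofIso (LinearMap.toMatrix' h) ?_, fun x => ?_⟩
  · apply matrix_ext_form
    intro x y
    have := hh x y
    unfold form at this
    rw [← this, ← mulVec_mulVec, ← mulVec_mulVec, dotProduct_mulVec x, vecMul_transpose]
    simp [LinearMap.toMatrix'_mulVec]
  · show LinearMap.toMatrix' h *ᵥ x = h x
    simp [LinearMap.toMatrix'_mulVec]

/-- **Frames with the same code are conjugate.** -/
theorem exists_map {a b : Fin 8 → Lat} (ha : Frame a) (hb : Frame b)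
    (hc : ∀ x, ∃ y, ∀ i, Even (form x (a i) - form y (b i))) : ∃ w : W, ∀ i, ap w (a i) = b i := by
  have key : ∀ x, ∃ z : Lat, (2 : ℤ) • z = ∑ i, form x (a i) • b i := by
    intro x
    obtain ⟨y, hy⟩ := hc x
    choose c hc using hy
    refine ⟨y + ∑ i, c i • b i, ?_⟩
    rw [smul_add, hb.two_smul y, Finset.smul_sum, ← Finset.sum_add_distrib]
    refine Finset.sum_congr rfl fun i _ => ?_
    rw [smul_smul, ← add_smul]
    congr 1
    have := hc i
    omega
  choose h hh using key
  have hadd : ∀ x y, h (x + y) = h x + h y := by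
    intro x y
    apply two_smul_inj
    rw [smul_add, hh, hh, hh, ← Finset.sum_add_distrib]
    exact Finset.sum_congr rfl fun i _ => by rw [form_add_left, add_smul]
  have hsmul : ∀ (n : ℤ) x, h (n • x) = n • h x := by
    intro n x
    apply two_smul_inj
    rw [hh, smul_comm, hh, Finset.smul_sum]
    exact Finset.sum_congr rfl fun i _ => by rw [form_smul_left, smul_smul]
  obtain ⟨w, hw⟩ := exists_iso { toFun := h, map_add' := hadd, map_smul' := hsmul } (by
    intro x y
    show form (h x) (h y) = form x y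
    have h1 : form ((2 : ℤ) • h x) ((2 : ℤ) • h y) = 4 * form (h x) (h y) := by
      rw [form_smul_left, form_smul_right]; ring
    have h2 : form ((2 : ℤ) • h x) ((2 : ℤ) • h y) = 4 * form x y := by
      rw [hh x, hh y, form_sum_right]
      have e : ∀ j, form (∑ i, form x (a i) • b i) (form y (a j) • b j) =
          2 * (form x (a j) * form y (a j)) := by
        intro j
        rw [form_smul_right, hb.form_sum]; ring
      rw [Finset.sum_congr rfl fun j _ => e j, ← Finset.mul_sum, ha.sum_form]; ring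
    omega)
  refine ⟨w, fun i => ?_⟩
  rw [hw]
  show h (a i) = b i
  apply two_smul_inj
  rw [hh, Finset.sum_eq_single i]
  · rw [ha.root]
  · intro j _ hj
    rw [ha.orth i j (Ne.symm hj), zero_smul]
  · intro h; exact absurd (Finset.mem_univ i) h

end Cfsg.Agent.OddHalf.D9.EEight.FrameBase
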