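import Cfsg.Agent.OddHalf.D9.EEight.Row
import Cfsg.Agent.OddHalf.D9.EEight.EFInst
import Cfsg.Agent.OddHalf.D9.Amb
import Cfsg.Agent.OddHalf.D4.EvenEFacts

/-!
# D9: the row `2.Ω₈⁺(2)` over the identification and the automorphisms (helper912)

* `row_of_equiv`: `K ≃* K₀ = det.ker`, every automorphism of `K₀` induced by `W`: contradiction;
* `row`: the field `o82` of `Cut.Rows` from the identification `Id` and `AutConj`.
-/

set_option autoImplicit false

namespace Cfsg.Agent.OddHalf.D9.EEight.RowOf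

open Subgroup Cfsg Cfsg.Agent.OddHalf.Iface Cfsg.Agent.OddHalf.Front.FE Cfsg.Agent.OddHalf.D9.EEight
open Cfsg.Agent.OddHalf.D4.EvenEFacts (AutConj)

universe u

/-- **The row for a given isomorphism.** -/
theorem row_of_equiv {G : Type u} [Group G] (C : Ctx G) {K : Subgroup G} (S : Std0 G K) (hc : Cyc K)
    (h2 : Nat.card ↥(center ↥K) = 2) (hA : AutConj) (θ : ↥K ≃* ↥det.ker) : False := by
  haveI := C.fin
  haveI := C.simple
  obtain ⟨z, q, H, hz, hz1, hr⟩ := Amb.exists_start C S hc h2
  have E := EFInst.ef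
  let c₀ : ↥det.ker := ⟨neg, E.c_det⟩
  have hθz : θ z = c₀ := by
    have h1 : ∀ k : W, det k = 1 → (θ z : W) * k = k * (θ z : W) := by
      intro k hk
      obtain ⟨x, hx⟩ := θ.surjective ⟨k, hk⟩
      have h3 := mem_center_iff.1 hz x
      have h4 := congrArg (fun y => ((θ y : ↥det.ker) : W)) h3
      simp only [map_mul, hx] at h4
      exact h4.symm
    rcases E.cenK (θ z : W) h1 with h3 | h3
    · exact absurd ((map_eq_one_iff θ θ.injective).1 (Subtype.ext h3)) hz1
    · exact Subtype.ext h3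
  let φ : ↥det.ker →* G := K.subtype.comp θ.symm.toMonoidHom
  have hφ : ∀ x, φ x = ((θ.symm x : ↥K) : G) := fun _ => rfl
  have hinj : Function.Injective φ := by
    intro a b h
    exact θ.symm.injective (Subtype.ext h)
  have hφz : φ c₀ = (z : G) := by rw [hφ, ← hθz, θ.symm_apply_apply]
  have hrange : (φ.range : Set G) = (K : Set G) := by
    ext x
    constructor
    · rintro ⟨y, rfl⟩
      exact (θ.symm y).2
    · intro hx
      exact ⟨θ ⟨x, hx⟩, by rw [hφ, θ.symm_apply_apply]⟩
  have hcz : centralizer (K : Set G) = zpowers q := by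
    apply le_antisymm
    · intro r hr'
      refine hr r fun k hk => ?_
      exact (mem_centralizer_iff.1 hr' k hk).symm
    · rw [zpowers_le, mem_centralizer_iff]
      intro k hk
      exact H.qK k hk
  refine false_of_hom E φ hinj (z := (z : G)) hφz ?_ ?_ ?_
  · rw [hrange, hcz]
    infer_instance
  · rw [hrange, hcz]
    exact H.pQ
  · intro h hh
    have hn := H.nK h hh
    have hmap : ∀ k : ↥K, h * (k : G) * h⁻¹ ∈ K := fun k => (mem_normalizer_iff.1 hn _).1 k.2
    have hmap' : ∀ k : ↥K, h⁻¹ * (k : G) * h ∈ K := fun k => by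
      rw [mem_normalizer_iff.1 hn]
      have : h * (h⁻¹ * (k : G) * h) * h⁻¹ = k := by group
      rw [this]
      exact k.2
    let β : MulAut ↥K :=
      { toFun := fun k => ⟨h * k * h⁻¹, hmap k⟩
        invFun := fun k => ⟨h⁻¹ * k * h, hmap' k⟩
        left_inv := fun k => Subtype.ext (by
          show h⁻¹ * (h * k * h⁻¹) * h = k
          group)
        right_inv := fun k => Subtype.ext (by
          show h * (h⁻¹ * k * h) * h⁻¹ = k
          group)
        map_mul' := fun a b => Subtype.ext (by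
          show h * ((a : G) * b) * h⁻¹ = (h * a * h⁻¹) * (h * b * h⁻¹)
          group) }
    have hβ : ∀ k : ↥K, ((β k : ↥K) : G) = h * k * h⁻¹ := fun _ => rfl
    obtain ⟨w, hw⟩ := hA ((θ.symm.trans β).trans θ)
    refine ⟨w, fun k => ?_⟩
    have h3 := hw k
    have h4 : θ (β (θ.symm k)) = ⟨w * k * w⁻¹, det_conj k.2⟩ := Subtype.ext h3
    rw [hφ, hφ, ← h4, θ.symm_apply_apply, hβ]

/-- The identification of the double cover of `Ω₈⁺(2)`. -/
def Ident : Prop := ∀ (K : Type u) [Group K], Finite K → commutator K = ⊤ → Nat.card ↥(center K) = 2 →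
  Cut.XO82 (K ⧸ center K) → Nonempty (K ≃* ↥det.ker)

/-- **The row `2.Ω₈⁺(2)` of D9**, the field `o82` of `Cut.Rows`. -/
theorem row (hI : Ident.{u}) (hA : AutConj) : Cut.Row.{u} (fun K _ => Cut.Two (fun X _ => Cut.XO82 X) K) := by
  intro G _ C K S hc h
  haveI := C.fin
  obtain ⟨θ⟩ := hI ↥K inferInstance (Amb.commutator_eq_top S) h.1 h.2
  exact row_of_equiv C S hc h.1 hA θ

end Cfsg.Agent.OddHalf.D9.EEight.RowOf
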