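import Cfsg.Agent.OddHalf.D9.EEight.Id.Onto
import Cfsg.Agent.OddHalf.D9.EEight.RowOf
import Cfsg.Agent.StdO8.Model

/-!
# The map onto `P Q` for a group with `K/Z(K) ≃ Ω₈⁺(2)` (helper912)
-/

set_option autoImplicit false

namespace Cfsg.Agent.OddHalf.D9.EEight.RowOf

open Subgroup Cfsg Cfsg.Agent.OddHalf.D9.EEight.Id

universe u

/-- the two forms agree -/
theorem form_eq : StdO8.Model.q = ModTwo.Q := by
  apply QuadraticMap.ext
  intro v
  rw [ModTwo.Q, LieClassical.OrthForms.coe_plusForm, StdO8.Model.q_apply]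
  rfl

theorem exists_om {X : Type u} [Group X] (h : Cut.XO82 X) :
    Nonempty (X ≃* ClassicalGeometry.OrthAut1.P ModTwo.Q) := by
  obtain ⟨F, _, _, hF, ⟨e⟩⟩ := h
  obtain ⟨e1⟩ := StdO8.Model.exists_equiv hF
  have e2 : ↥(LieClassical.OrthCore.E ModTwo.Q) ≃* ClassicalGeometry.OrthAut1.P ModTwo.Q :=
    ((QuotientGroup.quotientMulEquivOfEq Onto.center_E).trans QuotientGroup.quotientBot).symm
  have e3 : ↥StdO8.Model.Om ≃* ↥(LieClassical.OrthCore.E ModTwo.Q) :=
    MulEquiv.subgroupCongr (by rw [StdO8.Model.Om, form_eq])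
  exact ⟨(e.trans e1).trans (e3.trans e2)⟩

/-- the covering map -/
theorem exists_pi {K : Type u} [Group K] (h : Cut.XO82 (K ⧸ center K)) :
    ∃ π : K →* ClassicalGeometry.OrthAut1.P ModTwo.Q, Function.Surjective π ∧ π.ker = center K := by
  obtain ⟨e⟩ := exists_om h
  refine ⟨e.toMonoidHom.comp (QuotientGroup.mk' (center K)), e.surjective.comp (QuotientGroup.mk'_surjective _), ?_⟩
  ext x
  rw [MonoidHom.mem_ker, ← QuotientGroup.eq_one_iff (N := center K) x]
  exact map_eq_one_iff e e.injective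

end Cfsg.Agent.OddHalf.D9.EEight.RowOf
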