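import Cfsg.Agent.OddHalf.D9.EEight.Cfg

/-!
# Automizers and Lemma P
-/

set_option autoImplicit false

namespace Cfsg.Agent.OddHalf.D9.EEight

open Subgroup

section

variable {G : Type*} [Group G] {X : Type*} [Group X]

/-- The automorphisms of `X` induced by the elements of `G`. -/
def autBy (P : X →* G) : Subgroup (MulAut X) where
  carrier := {α | ∃ g : G, ∀ x, g * P x * g⁻¹ = P (α x)}
  one_mem' := ⟨1, fun x => by simp⟩
  mul_mem' {α β} hα hβ := by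
    obtain ⟨g, hg⟩ := hα
    obtain ⟨h, hh⟩ := hβ
    refine ⟨g * h, fun x => ?_⟩
    have : g * h * P x * (g * h)⁻¹ = g * (h * P x * h⁻¹) * g⁻¹ := by group
    rw [this, hh, hg, MulAut.mul_apply]
  inv_mem' {α} hα := by
    obtain ⟨g, hg⟩ := hα
    refine ⟨g⁻¹, fun x => ?_⟩
    have h := hg (α⁻¹ x)
    rw [MulAut.apply_inv_self] at h
    rw [← h]
    group

theorem mem_autBy {P : X →* G} {α : MulAut X} :
    α ∈ autBy P ↔ ∃ g : G, ∀ x, g * P x * g⁻¹ = P (α x) := Iff.rfl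

theorem exists_aut [Finite X] {P : X →* G} (hP : Function.Injective P) {g : G}
    (h : ∀ x, ∃ y, g * P x * g⁻¹ = P y) : ∃ α : MulAut X, ∀ x, g * P x * g⁻¹ = P (α x) := by
  choose a ha using h
  let α : X →* X :=
    { toFun := a
      map_one' := by
        apply hP
        rw [← ha, map_one]
        group
      map_mul' := fun x y => by
        apply hP
        rw [← ha, map_mul, map_mul, ← ha, ← ha]
        group }
  have hinj : Function.Injective α := by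
    intro x y hxy
    have h1 : P (a x) = P (a y) := congrArg P hxy
    rw [← ha, ← ha, mul_left_inj, mul_right_inj] at h1
    exact hP h1
  exact ⟨MulEquiv.ofBijective α ⟨hinj, Finite.injective_iff_surjective.1 hinj⟩, fun x => ha x⟩

/-- **Lemma P** -/
theorem lemmaP {X' : Type*} [Group X'] {P : X →* G} {P' : X' →* G}
    (hP' : Function.Injective P') {z : G} (hz1 : z ≠ 1) (x0 : X) (hx0 : P x0 = z)
    (N : ∀ g, (∀ x, ∃ y, g * P x * g⁻¹ = P y) → g * z = z * g) (x0' : X') (hx0' : P' x0' = z)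
    (fix : ∀ y, (∀ α ∈ autBy P', α y = y) → y = 1 ∨ y = x0') (g : G)
    (hg1 : ∀ x, ∃ y, g⁻¹ * P x * g = P' y) (hg2 : ∀ y, ∃ x, g * P' y * g⁻¹ = P x) :
    g⁻¹ * z * g = z := by
  obtain ⟨y, hy⟩ := hg1 x0
  rw [hx0] at hy
  have h1 : ∀ α ∈ autBy P', α y = y := by
    rintro α ⟨n, hn⟩
    have h2 : ∀ x, ∃ y, (g * n * g⁻¹) * P x * (g * n * g⁻¹)⁻¹ = P y := by
      intro x
      obtain ⟨y1, hy1⟩ := hg1 x
      obtain ⟨x2, hx2⟩ := hg2 (α y1)
      refine ⟨x2, ?_⟩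
      rw [← hx2, ← hn, ← hy1]
      group
    have h3 := N _ h2
    apply hP'
    rw [← hn, ← hy]
    have h4 : n * (g⁻¹ * z * g) * n⁻¹ = g⁻¹ * ((g * n * g⁻¹) * z) * g * n⁻¹ := by group
    rw [h4, h3]
    group
  rcases fix y h1 with h2 | h2
  · rw [h2, map_one] at hy
    exfalso
    apply hz1
    have : z = g * (g⁻¹ * z * g) * g⁻¹ := by group
    rw [this, hy]
    group
  · rw [hy, h2, hx0']

end

variable {W : Type*} [Group W] {δ : W →* ℤˣ} {c : W} {Rf : W → Prop}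
variable {G : Type*} [Group G] {φ : W → G} {R : Subgroup G}

/-- The composite of a homomorphism into `K₀` with `φ`. -/
def Cfg.hom (C : Cfg δ c φ R) {X : Type*} [Group X] (P : X →* W) (h : ∀ x, δ (P x) = 1) :
    X →* G where
  toFun x := φ (P x)
  map_one' := by rw [map_one, C.one']
  map_mul' x y := by rw [map_mul, C.mul _ _ (h x) (h y)]

theorem Cfg.hom_apply (C : Cfg δ c φ R) {X : Type*} [Group X] (P : X →* W) (h : ∀ x, δ (P x) = 1)
    (x : X) : C.hom P h x = φ (P x) := rfl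

theorem Cfg.hom_inj (C : Cfg δ c φ R) {X : Type*} [Group X] {P : X →* W} (h : ∀ x, δ (P x) = 1)
    (hP : Function.Injective P) : Function.Injective (C.hom P h) := by
  intro x y hxy
  exact hP (C.inj _ _ (h x) (h y) hxy)

/-- the embedding of `F` -/
def Cfg.fHom (C : Cfg δ c φ R) {f : Ev →* W} (hf : IsFt δ c f) : Ev →* G := C.hom f hf.det

theorem Cfg.fHom_apply (C : Cfg δ c φ R) {f : Ev →* W} (hf : IsFt δ c f) (ε : Ev) :
    C.fHom hf ε = φ (f ε) := rfl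

theorem Cfg.fHom_inj (C : Cfg δ c φ R) {f : Ev →* W} (hf : IsFt δ c f) :
    Function.Injective (C.fHom hf) := C.hom_inj hf.det hf.inj

theorem Cfg.fHom_m1 (C : Cfg δ c φ R) {f : Ev →* W} (hf : IsFt δ c f) : C.fHom hf m1 = φ c := by
  rw [C.fHom_apply, hf.neg]

theorem IsFr.det_ev {d : Sg →* W} (hd : IsFr δ c Rf d) (ε : Ev) : δ (d ε) = 1 := by
  rw [hd.det]
  exact ε.2

/-- the embedding of `E` -/
def Cfg.eHom (C : Cfg δ c φ R) {d : Sg →* W} (hd : IsFr δ c Rf d) : Ev →* G :=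
  C.hom (d.comp Ev.subtype) (fun x => hd.det_ev x)

theorem Cfg.eHom_apply (C : Cfg δ c φ R) {d : Sg →* W} (hd : IsFr δ c Rf d) (ε : Ev) :
    C.eHom hd ε = φ (d ε) := rfl

theorem Cfg.eHom_inj (C : Cfg δ c φ R) {d : Sg →* W} (hd : IsFr δ c Rf d) :
    Function.Injective (C.eHom hd) :=
  C.hom_inj _ (hd.inj.comp Subtype.val_injective)

theorem Cfg.eHom_m1 (C : Cfg δ c φ R) {d : Sg →* W} (hd : IsFr δ c Rf d) : C.eHom hd m1 = φ c := by
  rw [C.eHom_apply, coe_m1, hd.neg]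

/-- `A₈ ≤ Aut_G(F)` -/
theorem Cfg.even_mem (C : Cfg δ c φ R) {f : Ev →* W} (hf : IsFt δ c f)
    (σ : Equiv.Perm (Fin 8)) (hσ : Equiv.Perm.sign σ = 1) : (pmE σ : MulAut Ev) ∈ autBy (C.fHom hf) := by
  obtain ⟨k, hk, h⟩ := hf.sym σ hσ
  refine ⟨φ k, fun ε => ?_⟩
  rw [C.fHom_apply, ← C.conj' hk (hf.det ε), h]
  rfl

/-- `AGL₃(2) ≤ Aut_G(E)` -/
theorem Cfg.code_mem (C : Cfg δ c φ R) {d : Sg →* W} (hd : IsFr δ c Rf d)
    (σ : Equiv.Perm (Fin 8)) (hσ : AutCode σ) : (pmE σ : MulAut Ev) ∈ autBy (C.eHom hd) := by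
  obtain ⟨k, hk, h⟩ := hd.sym σ hσ
  refine ⟨φ k, fun ε => ?_⟩
  rw [C.eHom_apply, ← C.conj' hk (hd.det_ev ε), h]
  rfl

/-! ### Fixed sign vectors -/

/-- Translations of `𝔽₂³`. -/
def tr (a : Fin 8) : Equiv.Perm (Fin 8) :=
  { toFun := fun i => ⟨Nat.xor i a % 8, Nat.mod_lt _ (by norm_num)⟩
    invFun := fun i => ⟨Nat.xor i a % 8, Nat.mod_lt _ (by norm_num)⟩
    left_inv := by revert a; decide
    right_inv := by revert a; decide }

theorem isCode_iff (ε : Sg) : IsCode ε ↔ ε 0 * ε 1 * ε 2 * ε 3 * ε 4 * ε 5 * ε 6 * ε 7 = 1 ∧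
    ε 1 * ε 3 * ε 5 * ε 7 = 1 ∧ ε 2 * ε 3 * ε 6 * ε 7 = 1 ∧ ε 4 * ε 5 * ε 6 * ε 7 = 1 := by
  unfold IsCode
  rw [prd_apply, Fin.prod_univ_eight]

theorem cancel_aux {a b c : ℤˣ} (h : a = 1) (h2 : b = 1) (h3 : a = b * c) : c = 1 := by
  rw [h, h2, one_mul] at h3
  exact h3.symm

theorem tr_code1 : AutCode (tr 1) := by
  intro ε h
  rw [isCode_iff] at h ⊢
  obtain ⟨h0, h1, h2, h3⟩ := h
  simp only [pm_apply]
  refine ⟨?_, ?_, ?_, ?_⟩
  · refine Eq.trans ?_ h0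
    show ε 1 * ε 0 * ε 3 * ε 2 * ε 5 * ε 4 * ε 7 * ε 6 = _
    ac_rfl
  · show ε 0 * ε 2 * ε 4 * ε 6 = 1
    exact cancel_aux h0 h1 (by ac_rfl)
  · refine Eq.trans ?_ h2
    show ε 3 * ε 2 * ε 7 * ε 6 = _
    ac_rfl
  · refine Eq.trans ?_ h3
    show ε 5 * ε 4 * ε 7 * ε 6 = _
    ac_rfl

theorem tr_code2 : AutCode (tr 2) := by
  intro ε h
  rw [isCode_iff] at h ⊢
  obtain ⟨h0, h1, h2, h3⟩ := h
  simp only [pm_apply]
  refine ⟨?_, ?_, ?_, ?_⟩
  · refine Eq.trans ?_ h0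
    show ε 2 * ε 3 * ε 0 * ε 1 * ε 6 * ε 7 * ε 4 * ε 5 = _
    ac_rfl
  · refine Eq.trans ?_ h1
    show ε 3 * ε 1 * ε 7 * ε 5 = _
    ac_rfl
  · show ε 0 * ε 1 * ε 4 * ε 5 = 1
    exact cancel_aux h0 h2 (by ac_rfl)
  · refine Eq.trans ?_ h3
    show ε 6 * ε 7 * ε 4 * ε 5 = _
    ac_rfl

theorem tr_code4 : AutCode (tr 4) := by
  intro ε h
  rw [isCode_iff] at h ⊢
  obtain ⟨h0, h1, h2, h3⟩ := h
  simp only [pm_apply]
  refine ⟨?_, ?_, ?_, ?_⟩
  · refine Eq.trans ?_ h0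
    show ε 4 * ε 5 * ε 6 * ε 7 * ε 0 * ε 1 * ε 2 * ε 3 = _
    ac_rfl
  · refine Eq.trans ?_ h1
    show ε 5 * ε 7 * ε 1 * ε 3 = _
    ac_rfl
  · refine Eq.trans ?_ h2
    show ε 6 * ε 7 * ε 2 * ε 3 = _
    ac_rfl
  · show ε 0 * ε 1 * ε 2 * ε 3 = 1
    exact cancel_aux h0 h3 (by ac_rfl)

theorem fixed_tr {ε : Sg} (h1 : pm (tr 1) ε = ε) (h2 : pm (tr 2) ε = ε) (h4 : pm (tr 4) ε = ε) :
    ε = 1 ∨ ε = -1 := by
  have a1 : ε 1 = ε 0 := congrFun h1 0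
  have a3 : ε 3 = ε 2 := congrFun h1 2
  have a5 : ε 5 = ε 4 := congrFun h1 4
  have a7 : ε 7 = ε 6 := congrFun h1 6
  have a2 : ε 2 = ε 0 := congrFun h2 0
  have a6 : ε 6 = ε 4 := congrFun h2 4
  have a4 : ε 4 = ε 0 := congrFun h4 0
  have key : ∀ i, ε i = ε 0 := by
    intro i
    fin_cases i
    · rfl
    · exact a1
    · exact a2
    · exact a3.trans a2
    · exact a4
    · exact a5.trans a4
    · exact a6.trans a4
    · exact (a7.trans a6).trans a4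
  rcases Int.units_eq_one_or (ε 0) with h | h
  · left
    funext i
    rw [key i, h]
    rfl
  · right
    funext i
    rw [key i, h]
    rfl

theorem tr_sign (a : Fin 8) : Equiv.Perm.sign (tr a) = 1 := by
  revert a; decide

theorem Cfg.fixed_f (C : Cfg δ c φ R) {f : Ev →* W} (hf : IsFt δ c f) (y : Ev)
    (h : ∀ α ∈ autBy (C.fHom hf), α y = y) : y = 1 ∨ y = m1 := by
  have h1 : ∀ a, pm (tr a) (y : Sg) = y := fun a =>
    congrArg Subtype.val (h _ (C.even_mem hf (tr a) (tr_sign a)))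
  rcases fixed_tr (h1 1) (h1 2) (h1 4) with h2 | h2
  · left; exact Subtype.ext h2
  · right; exact Subtype.ext h2

theorem Cfg.fixed_e (C : Cfg δ c φ R) {d : Sg →* W} (hd : IsFr δ c Rf d) (y : Ev)
    (h : ∀ α ∈ autBy (C.eHom hd), α y = y) : y = 1 ∨ y = m1 := by
  rcases fixed_tr (congrArg Subtype.val (h _ (C.code_mem hd (tr 1) tr_code1)))
    (congrArg Subtype.val (h _ (C.code_mem hd (tr 2) tr_code2)))
    (congrArg Subtype.val (h _ (C.code_mem hd (tr 4) tr_code4))) with h2 | h2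
  · left; exact Subtype.ext h2
  · right; exact Subtype.ext h2

end Cfsg.Agent.OddHalf.D9.EEight
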