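import Cfsg.Agent.OddHalf.D9.EEight.Coord

/-!
# The E8 lattice: moving roots (helper109)

* `form_nonneg`, `form_eq_zero`, `form_even`, `root_bound`, `eq_of_form`, `eq_neg_of_form`.
* `move`: roots `a`, `b` with `form a b ≠ 0` are conjugate by `w : W` fixing everything orthogonal to `a` and `b`.
* `reach`: a Boolean check for transitivity of the stabiliser of the list `S` on the roots orthogonal to `S`.
-/

set_option autoImplicit false

namespace Cfsg.Agent.OddHalf.D9.EEight.Move

open Matrix Coord

theorem form_nonneg (x : Lat) : 0 ≤ form x x := by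
  have h := four_form x x
  have h2 : 0 ≤ cd x ⬝ᵥ cd x := Finset.sum_nonneg fun i _ => mul_self_nonneg (cd x i)
  omega

theorem form_eq_zero {x : Lat} (h : form x x = 0) : x = 0 := by
  have h1 : cd x ⬝ᵥ cd x = 0 := by rw [← four_form, h, mul_zero]
  have h2 : cd x = 0 := dotProduct_self_eq_zero.1 h1
  apply cd_injective
  rw [h2, cd_zero]

theorem form_self (x : Lat) : form x x = 2 * (x 0 * x 0 + x 1 * x 1 + x 2 * x 2 + x 3 * x 3 + x 4 * x 4 + x 5 * x 5 +
    x 6 * x 6 + x 7 * x 7 - x 0 * x 2 - x 1 * x 3 - x 2 * x 3 - x 3 * x 4 - x 4 * x 5 - x 5 * x 6 - x 6 * x 7) := by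
  simp [form, GM, CartanMatrix.E₈, Matrix.mulVec, dotProduct, Fin.sum_univ_eight]
  ring

theorem form_even (x : Lat) : Even (form x x) := ⟨_, (form_self x).trans (two_mul _)⟩

theorem root_bound {a b : Lat} (ha : IsRoot a) (hb : IsRoot b) : -2 ≤ form a b ∧ form a b ≤ 2 := by
  have h1 := form_nonneg (a + b)
  have h2 := form_nonneg (a - b)
  have e := form_comm a b
  unfold IsRoot at ha hb
  rw [form_add_left, form_add_right, form_add_right] at h1
  rw [form_sub_left, form_sub_right, form_sub_right] at h2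
  omega

theorem eq_of_form {a b : Lat} (ha : IsRoot a) (hb : IsRoot b) (h : form a b = 2) : a = b := by
  unfold IsRoot at ha hb
  have e := form_comm a b
  have h2 : form (a - b) (a - b) = 0 := by
    rw [form_sub_left, form_sub_right, form_sub_right]; omega
  exact sub_eq_zero.1 (form_eq_zero h2)

theorem isRoot_neg {a : Lat} (ha : IsRoot a) : IsRoot (-a) := by
  unfold IsRoot at *
  rw [form_neg_left, form_neg_right, neg_neg, ha]

theorem eq_neg_of_form {a b : Lat} (ha : IsRoot a) (hb : IsRoot b) (h : form a b = -2) : b = -a := by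
  have := eq_of_form (isRoot_neg ha) hb (by rw [form_neg_left, h]; norm_num)
  exact this.symm

theorem isRoot_ap {a : Lat} (ha : IsRoot a) (w : W) : IsRoot (ap w a) := by
  unfold IsRoot at *
  rw [form_ap, ha]

theorem isRoot_sub {a b : Lat} (ha : IsRoot a) (hb : IsRoot b) (h : form a b = 1) : IsRoot (a - b) := by
  have e := form_comm a b
  unfold IsRoot at *
  rw [form_sub_left, form_sub_right, form_sub_right]
  omega

theorem isRoot_add {a b : Lat} (ha : IsRoot a) (hb : IsRoot b) (h : form a b = -1) : IsRoot (a + b) := by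
  have e := form_comm a b
  unfold IsRoot at *
  rw [form_add_left, form_add_right, form_add_right]
  omega

theorem ap_refl_self {a : Lat} (ha : IsRoot a) : ap (refl ha) a = -a := by
  rw [ap_refl]
  have h : form a a = 2 := ha
  rw [h, two_smul]
  abel

theorem ap_refl_orth {a x : Lat} (ha : IsRoot a) (h : form x a = 0) : ap (refl ha) x = x := by
  rw [ap_refl, h, zero_smul, sub_zero]

theorem form_ap_left (w : W) (x y : Lat) : form (ap w x) y = form x (ap w⁻¹ y) := by
  conv_lhs => rw [← ap_ap_inv w y]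
  rw [form_ap]

theorem ap_inv_eq {w : W} {x y : Lat} (h : ap w x = y) : ap w⁻¹ y = x := by
  rw [← h, ap_inv_ap]

/-- moving a root to a non orthogonal root -/
theorem move {a b : Lat} (ha : IsRoot a) (hb : IsRoot b) (h : form a b ≠ 0) :
    ∃ w : W, ap w a = b ∧ ∀ x, form x a = 0 → form x b = 0 → ap w x = x := by
  have hbd := root_bound ha hb
  have e := form_comm a b
  rcases (show form a b = -2 ∨ form a b = -1 ∨ form a b = 1 ∨ form a b = 2 by omega) with h1 | h1 | h1 | h1
  · refine ⟨refl ha, ?_, fun x hx _ => ap_refl_orth ha hx⟩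
    rw [ap_refl_self, eq_neg_of_form ha hb h1]
  · have hc := isRoot_add ha hb h1
    refine ⟨refl hb * refl hc, ?_, fun x hx hy => ?_⟩
    · rw [ap_mul, ap_refl hc, form_add_right, h1, show form a a = 2 from ha]
      rw [show (2 + -1 : ℤ) = 1 by norm_num, one_smul, show a - (a + b) = -b by abel, ap_neg, ap_refl_self, neg_neg]
    · rw [ap_mul, ap_refl_orth hc (by rw [form_add_right, hx, hy, add_zero]), ap_refl_orth hb hy]
  · have hc := isRoot_sub ha hb h1
    refine ⟨refl hc, ?_, fun x hx hy => ?_⟩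
    · rw [ap_refl hc, form_sub_right, h1, show form a a = 2 from ha]
      rw [show (2 - 1 : ℤ) = 1 by norm_num, one_smul]; abel
    · rw [ap_refl_orth hc (by rw [form_sub_right, hx, hy, sub_zero])]
  · refine ⟨1, ?_, fun x _ _ => ap_one x⟩
    rw [ap_one, eq_of_form ha hb h1]

/-- orthogonality in coordinates -/
def orthB (S : List (List ℤ)) (l : List ℤ) : Bool := S.all fun s => decide (dotL s l = 0)

/-- the check for `reach` -/
def reachB (S : List (List ℤ)) (t : List ℤ) : Bool :=
  RL.all fun l => !(orthB S l) || decide (dotL l t ≠ 0) ||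
    RL.any fun m => orthB S m && decide (dotL m l ≠ 0) && decide (dotL m t ≠ 0)

theorem orthB_iff {S : List Lat} {x : Lat} :
    orthB (S.map fun s => toL (cd s)) (toL (cd x)) = true ↔ ∀ s ∈ S, form s x = 0 := by
  unfold orthB
  simp only [List.all_map, List.all_eq_true, Function.comp, decide_eq_true_eq]
  refine forall₂_congr fun s _ => ?_
  have := form_dotL s x
  omega

theorem reach {S : List Lat} {t : Lat} (ht : IsRoot t) (htS : ∀ s ∈ S, form s t = 0)
    (h : reachB (S.map fun s => toL (cd s)) (toL (cd t)) = true) {a : Lat} (ha : IsRoot a)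
    (haS : ∀ s ∈ S, form s a = 0) : ∃ w : W, ap w a = t ∧ ∀ s ∈ S, ap w s = s := by
  unfold reachB at h
  obtain ⟨l, hl, rfl, hl2⟩ := exists_rep ha
  have h1 := List.all_eq_true.1 h l hl
  simp only [Bool.or_eq_true, decide_eq_true_eq, List.any_eq_true, Bool.and_eq_true,
    Bool.not_eq_true'] at h1
  rcases h1 with (h1 | h1) | h1
  · exfalso
    rw [← hl2] at h1
    rw [(orthB_iff (S := S)).2 haS] at h1
    exact Bool.noConfusion h1
  · have h2 : form (unL l) t ≠ 0 := by
      have := form_dotL (unL l) t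
      rw [hl2] at this
      omega
    obtain ⟨w, hw, hw2⟩ := move ha ht h2
    exact ⟨w, hw, fun s hs => hw2 s (haS s hs) (htS s hs)⟩
  · obtain ⟨m, hm, ⟨hm1, hm2⟩, hm3⟩ := h1
    have hmr := isRoot_unL hm
    have hmS : ∀ s ∈ S, form s (unL m) = 0 := by
      rw [← toL_cd_unL hm] at hm1
      exact orthB_iff.1 hm1
    have h2 : form (unL l) (unL m) ≠ 0 := by
      have := form_unL hm hl
      rw [form_comm]
      omega
    have h3 : form (unL m) t ≠ 0 := by
      have := form_dotL (unL m) t
      rw [toL_cd_unL hm] at this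
      omega
    obtain ⟨w, hw, hw2⟩ := move ha hmr h2
    obtain ⟨v, hv, hv2⟩ := move hmr ht h3
    refine ⟨v * w, by rw [ap_mul, hw, hv], fun s hs => ?_⟩
    rw [ap_mul, hw2 s (haS s hs) (hmS s hs), hv2 s (hmS s hs) (htS s hs)]

/-- the root with coordinates `l` -/
theorem form_unL' (x : Lat) {l : List ℤ} (hl : l ∈ RL) : 4 * form x (unL l) = dotL (toL (cd x)) l := by
  rw [form_dotL, toL_cd_unL hl]

theorem reach0 (t : List ℤ) (htR : t ∈ RL) (h : reachB [] t = true) {a : Lat} (ha : IsRoot a) :
    ∃ w : W, ap w a = unL t := by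
  obtain ⟨w, hw, -⟩ := reach (S := []) (isRoot_unL htR) (by simp) (by simpa [toL_cd_unL htR] using h) ha (by simp)
  exact ⟨w, hw⟩

/-- `e₁ + e₂` -/
abbrev t1 : List ℤ := [2, 2, 0, 0, 0, 0, 0, 0]
/-- `- e₁ + e₂` -/
abbrev t2 : List ℤ := [-2, 2, 0, 0, 0, 0, 0, 0]

theorem t1_mem : t1 ∈ RL := by decide +kernel
theorem t2_mem : t2 ∈ RL := by decide +kernel

theorem reach_t1 : reachB [] t1 = true := by decide +kernel
theorem reach_t2 : reachB [t1] t2 = true := by decide +kernel

/-- transitivity on roots -/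
theorem trans1 {a : Lat} (ha : IsRoot a) : ∃ w : W, ap w a = unL t1 := reach0 t1 t1_mem reach_t1 ha

/-- transitivity on orthogonal pairs -/
theorem trans2 {a b : Lat} (ha : IsRoot a) (hb : IsRoot b) (hab : form a b = 0) :
    ∃ w : W, ap w a = unL t1 ∧ ap w b = unL t2 := by
  obtain ⟨w, hw⟩ := trans1 ha
  have h1 : form (unL t1) (ap w b) = 0 := by rw [← hw, form_ap, hab]
  obtain ⟨v, hv, hv2⟩ := reach (S := [unL t1]) (t := unL t2) (isRoot_unL t2_mem)
    (by
      intro s hs
      rw [List.mem_singleton.1 hs]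
      have := form_unL t1_mem t2_mem
      have h2 : dotL t1 t2 = 0 := by decide
      omega)
    (by
      rw [List.map_cons, List.map_nil, toL_cd_unL t1_mem, toL_cd_unL t2_mem]
      exact reach_t2) (isRoot_ap hb w) (by
        intro s hs
        rw [List.mem_singleton.1 hs]; exact h1)
  refine ⟨v * w, ?_, by rw [ap_mul, hv]⟩
  rw [ap_mul, hw]
  exact hv2 _ (List.mem_singleton.2 rfl)

end Cfsg.Agent.OddHalf.D9.EEight.Move
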