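import Cfsg.Agent.OddHalf.D9.EEight.EigCard

/-!
# `out_refl` of `EF det neg IsRefl` (helper109)
-/

set_option autoImplicit false

namespace Cfsg.Agent.OddHalf.D9.EEight.OutRefl

open Coord Move Fields Eig EigCard

/-- every involution negates a root -/
def NegRoot : Prop := ∀ w : W, w * w = 1 → w ≠ 1 → ∃ a : Lat, IsRoot a ∧ ap w a = -a

section

variable {M : Subgroup W} {v : Fin 8 → Lat} {χ : M →* Sg}

theorem eb_ext (h : EB M v χ) {w w' : W} (he : ∀ i, ap w (v i) = ap w' (v i)) : w = w' := by
  classical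
  apply ext_ap
  intro x
  obtain ⟨n, hn, c, hc⟩ := h.span x
  have h1 : ∀ u : W, n • ap u x = ∑ i, c i • ap u (v i) := by
    intro u
    rw [← ap_smul, hc]
    have : ∀ s : Finset (Fin 8), ap u (∑ i ∈ s, c i • v i) = ∑ i ∈ s, c i • ap u (v i) := by
      intro s
      induction s using Finset.induction_on with
      | empty => simp
      | insert k s hk ih => rw [Finset.sum_insert hk, Finset.sum_insert hk, ap_add, ih, ap_smul]
    exact this _
  have h2 : n • ap w x = n • ap w' x := by
    rw [h1, h1]
    exact Finset.sum_congr rfl fun i _ => by rw [he]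
  funext i
  have := congrFun h2 i
  simp only [Pi.smul_apply, smul_eq_mul] at this
  exact mul_left_cancel₀ hn this

/-- coefficients of a vector with `m x = δ x` -/
theorem eb_coeff (h : EB M v χ) {x : Lat} {m : M} {δ : ℤˣ} (hx : ap (m : W) x = (δ : ℤ) • x) {n : ℤ} {c : Fin 8 → ℤ}
    (hc : n • x = ∑ i, c i • v i) (j : Fin 8) (hj : χ m j ≠ δ) : c j = 0 := by
  classical
  have h1 : ap (m : W) (n • x) = (δ : ℤ) • (n • x) := by rw [ap_smul, hx, smul_comm]
  rw [hc] at h1
  have h2 : ap (m : W) (∑ k, c k • v k) = ∑ k, (c k * ((χ m k : ℤˣ) : ℤ)) • v k := by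
    have : ∀ s : Finset (Fin 8), ap (m : W) (∑ k ∈ s, c k • v k) = ∑ k ∈ s, (c k * ((χ m k : ℤˣ) : ℤ)) • v k := by
      intro s
      induction s using Finset.induction_on with
      | empty => simp
      | insert k s hk ih => rw [Finset.sum_insert hk, Finset.sum_insert hk, ap_add, ih, ap_smul, h.ap_v, smul_smul]
    exact this _
  rw [h2, Finset.smul_sum] at h1
  have h3 : ∑ k, (c k * ((χ m k : ℤˣ) : ℤ) - (δ : ℤ) * c k) • v k = 0 := by
    simp only [sub_smul, Finset.sum_sub_distrib]
    rw [h1, sub_eq_zero]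
    exact Finset.sum_congr rfl fun k _ => by rw [smul_smul]
  have h4 := h.indep _ h3 j
  have h5 : c j * (((χ m j : ℤˣ) : ℤ) - (δ : ℤ)) = 0 := by rw [← h4]; ring
  rcases mul_eq_zero.1 h5 with h6 | h6
  · exact h6
  · exfalso
    apply hj
    apply Units.ext
    omega

/-- the root on the line of `v i` -/
theorem eb_root (h : EB M v χ) (hN : NegRoot) (hE : IsEl M) {m : M} {i : Fin 8} (hm : χ m = sg i) :
    ∃ (a : Lat) (ha : IsRoot a), (m : W) = refl ha ∧ ∃ n c : ℤ, n ≠ 0 ∧ c ≠ 0 ∧ n • a = c • v i := by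
  have hm1 : (m : W) ≠ 1 := by
    intro h1
    have : m = 1 := Subtype.ext h1
    rw [this, map_one] at hm
    have := congrFun hm i
    simp [sg] at this
  obtain ⟨a, ha, hma⟩ := hN m (hE.1 _ m.2) hm1
  obtain ⟨n, hn, c, hc⟩ := h.span a
  have hc0 : ∀ j, j ≠ i → c j = 0 := fun j hj => eb_coeff h (δ := -1) (by rw [hma]; simp) hc j (by
    rw [hm]; simp [sg, hj])
  have hna : n • a = c i • v i := by
    rw [hc, Finset.sum_eq_single i]
    · intro j _ hj; rw [hc0 j hj, zero_smul]
    · intro h; exact absurd (Finset.mem_univ i) h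
  have hci : c i ≠ 0 := by
    intro h0
    rw [h0, zero_smul] at hna
    rcases smul_eq_zero.1 hna with h1 | h1
    · exact hn h1
    · rw [h1] at ha
      unfold IsRoot form at ha
      simp at ha
  refine ⟨a, ha, ?_, n, c i, hn, hci, hna⟩
  apply eb_ext h
  intro j
  rw [h.ap_v]
  by_cases hj : j = i
  · subst hj
    have h1 : χ m j = -1 := by rw [hm]; simp [sg]
    rw [h1]
    have h2 : c j • ap (refl ha) (v j) = c j • (-(v j)) := by
      rw [← ap_smul, ← hna, ap_smul, ap_refl_self, smul_neg, hna, smul_neg]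
    have h3 : ap (refl ha) (v j) = - v j := by
      funext k
      have := congrFun h2 k
      simp only [Pi.smul_apply, smul_eq_mul] at this
      exact mul_left_cancel₀ hci this
    rw [h3]; simp
  · have h1 : χ m j = 1 := by rw [hm]; simp [sg, hj]
    have h2 : form (v j) a = 0 := by
      have := form_ap (m : W) (v j) a
      rw [h.ap_v, h1, hma] at this
      simp only [Units.val_one, one_smul, form_neg_right] at this
      omega
    rw [h1, ap_refl_orth ha h2]; simp

/-- the sign vector of a reflection -/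
theorem eb_sg (h : EB M v χ) {m : M} (hm : IsRefl (m : W)) : ∃ i, χ m = sg i := by
  obtain ⟨a, ha, hma⟩ := hm
  have key : ∀ j, χ m j = -1 → (2 : ℤ) • v j = form (v j) a • a := by
    intro j hj
    have h1 := h.ap_v m j
    rw [hj, hma, ap_refl] at h1
    simp only [Units.val_neg, Units.val_one, neg_smul, one_smul] at h1
    rw [two_smul]
    have : v j + v j = form (v j) a • a + (v j - form (v j) a • a) + v j := by abel
    rw [this, h1]; abel
  have hex : ∃ i, χ m i = -1 := by
    by_contra hcon
    push Not at hcon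
    have h1 : χ m = 1 := by
      funext i
      exact (Int.units_eq_one_or _).resolve_right (hcon i)
    have h2 : (m : W) = 1 := by
      have : m = 1 := h.inj (by rw [h1, map_one])
      rw [this]; rfl
    have h3 := rf_det (m : W) ⟨a, ha, hma⟩
    rw [h2, map_one] at h3
    exact absurd h3 (by decide)
  obtain ⟨i, hi⟩ := hex
  refine ⟨i, ?_⟩
  funext j
  by_cases hj : j = i
  · subst hj; rw [hi]; simp [sg]
  · have h0 : sg i j = 1 := by simp [sg, hj]
    rw [h0]
    by_contra hcon
    have hj1 : χ m j = -1 := (Int.units_eq_one_or _).resolve_left hcon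
    have e1 := key i hi
    have e2 := key j hj1
    -- a linear relation
    have h4 : (2 * form (v j) a) • v i + (-(2 * form (v i) a)) • v j = 0 := by
      have f1 : (2 * form (v j) a) • v i = (form (v j) a * form (v i) a) • a := by
        rw [mul_comm 2, mul_smul, e1, smul_smul]
      have f2 : (2 * form (v i) a) • v j = (form (v j) a * form (v i) a) • a := by
        rw [mul_comm 2, mul_smul, e2, smul_smul, mul_comm]
      rw [neg_smul, f1, f2, add_neg_cancel]
    have h5 : ∑ k, (if k = i then 2 * form (v j) a else if k = j then -(2 * form (v i) a) else 0) • v k = 0 := by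
      rw [← h4]
      have : ∀ k, (if k = i then 2 * form (v j) a else if k = j then -(2 * form (v i) a) else 0) • v k =
          (if k = i then (2 * form (v j) a) • v k else 0) + (if k = j then (-(2 * form (v i) a)) • v k else 0) := by
        intro k
        by_cases hk : k = i
        · subst hk
          rw [if_pos rfl, if_pos rfl, if_neg (Ne.symm hj), add_zero]
        · rw [if_neg hk, if_neg hk, zero_add]
          split_ifs <;> simp
      rw [Finset.sum_congr rfl fun k _ => this k, Finset.sum_add_distrib]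
      simp
    have h6 := h.indep _ h5 i
    rw [if_pos rfl] at h6
    have h7 : form (v j) a = 0 := by omega
    rw [h7, zero_smul] at e2
    rcases smul_eq_zero.1 e2 with h8 | h8
    · omega
    · exact h.ne j h8

end

/-- subgroups of index 2 without `sg i` -/
theorem eq_Ev_of_not {A : Subgroup Sg} (hA : A.index = 2) (h : ∀ i, sg i ∉ A) : A = Ev := by
  classical
  have key : ∀ s : Finset (Fin 8), (∏ i ∈ s, sg i ∈ A ↔ prd (∏ i ∈ s, sg i) = 1) := by
    intro s
    induction s using Finset.induction_on with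
    | empty => simp [one_mem]
    | insert k s hk ih =>
      rw [Finset.prod_insert hk, Subgroup.mul_mem_iff_of_index_two hA, ih, map_mul]
      have h1 : prd (sg k) = -1 := by
        have : ∀ k : Fin 8, prd (sg k) = -1 := by decide
        exact this k
      rw [h1]
      constructor
      · intro h2
        rcases Int.units_eq_one_or (prd (∏ i ∈ s, sg i)) with h3 | h3
        · exact absurd (h2.2 h3) (h k)
        · rw [h3]; decide
      · intro h2
        constructor
        · intro h3; exact absurd h3 (h k)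
        · intro h3
          rw [h3] at h2
          exact absurd h2 (by decide)
  ext ε
  have hε : ε = ∏ i ∈ Finset.univ.filter (fun i => ε i = -1), sg i := by
    funext j
    rw [Finset.prod_apply]
    by_cases hj : ε j = -1
    · rw [Finset.prod_eq_single j]
      · simp [sg, hj]
      · intro k _ hk; simp [sg, Ne.symm hk]
      · intro h1; exact absurd (Finset.mem_filter.2 ⟨Finset.mem_univ j, hj⟩) h1
    · rw [Finset.prod_eq_one]
      · exact (Int.units_eq_one_or _).resolve_right hj
      · intro k hk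
        have : k ≠ j := fun e => hj (e ▸ (Finset.mem_filter.1 hk).2)
        simp [sg, Ne.symm this]
  rw [hε, key, mem_Ev]

theorem out_refl (hN : NegRoot) (M : Subgroup W) (hE : IsEl M) (hM : Nat.card M = 2 ^ 7) (hK : ¬ M ≤ det.ker) :
    (∃ ρ ∈ M, IsRefl ρ) ∧ {ρ | ρ ∈ M ∧ IsRefl ρ}.ncard ≤ 7 := by
  classical
  have hf := finite_of_card hM
  obtain ⟨v, χ, h⟩ := exists_eig M hE
  have hA : Nat.card χ.range = 2 ^ 7 := by
    rw [← hM]; exact (Nat.card_congr (Equiv.ofInjective χ h.inj)).symm
  have hidx : χ.range.index = 2 := by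
    have := Subgroup.card_mul_index χ.range
    rw [hA, card_Sg] at this
    omega
  constructor
  · by_contra hcon
    have h1 : χ.range = Ev := by
      apply eq_Ev_of_not hidx
      rintro i ⟨m, hm⟩
      obtain ⟨a, ha, h2, -⟩ := eb_root h hN hE hm
      exact hcon ⟨m, m.2, a, ha, h2⟩
    apply hK
    intro m hm
    have h2 : χ ⟨m, hm⟩ ∈ Ev := h1 ▸ ⟨_, rfl⟩
    rw [MonoidHom.mem_ker]
    rw [mem_Ev, ← h.det] at h2
    exact h2
  · -- the indices
    have h1 : ∀ ρ ∈ {ρ | ρ ∈ M ∧ IsRefl ρ}, ∃ i, ∃ hm : ρ ∈ M, χ ⟨ρ, hm⟩ = sg i := by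
      rintro ρ ⟨h2, h3⟩
      obtain ⟨i, hi⟩ := eb_sg h (m := ⟨ρ, h2⟩) h3
      exact ⟨i, h2, hi⟩
    have h2 : ∃ f : W → Fin 8, ∀ ρ ∈ {ρ | ρ ∈ M ∧ IsRefl ρ}, ∃ hm : ρ ∈ M, χ ⟨ρ, hm⟩ = sg (f ρ) := by
      refine ⟨fun ρ => if hρ : ρ ∈ {ρ | ρ ∈ M ∧ IsRefl ρ} then (h1 ρ hρ).choose else 0, fun ρ hρ => ?_⟩
      simp only [dif_pos hρ]
      exact (h1 ρ hρ).choose_spec
    obtain ⟨f, hf⟩ := h2
    let T : Set (Fin 8) := {i | sg i ∈ χ.range}
    have h3 : ∀ ρ ∈ {ρ | ρ ∈ M ∧ IsRefl ρ}, f ρ ∈ T := fun ρ hρ => by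
      obtain ⟨hm, h4⟩ := hf ρ hρ
      exact ⟨_, h4⟩
    have h4 : Set.InjOn f {ρ | ρ ∈ M ∧ IsRefl ρ} := by
      intro ρ hρ ρ' hρ' e
      obtain ⟨hm, h4⟩ := hf ρ hρ
      obtain ⟨hm', h4'⟩ := hf ρ' hρ'
      rw [← e, ← h4] at h4'
      exact (congrArg Subtype.val (h.inj h4')).symm
    have h5 : T ≠ Set.univ := by
      intro hT
      have h6 : χ.range = ⊤ := by
        rw [eq_top_iff]
        intro ε _
        have hε : ε = ∏ i ∈ Finset.univ.filter (fun i => ε i = -1), sg i := by
          funext j
          rw [Finset.prod_apply]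
          by_cases hj : ε j = -1
          · rw [Finset.prod_eq_single j]
            · simp [sg, hj]
            · intro k _ hk; simp [sg, Ne.symm hk]
            · intro h1; exact absurd (Finset.mem_filter.2 ⟨Finset.mem_univ j, hj⟩) h1
          · rw [Finset.prod_eq_one]
            · exact (Int.units_eq_one_or _).resolve_right hj
            · intro k hk
              have : k ≠ j := fun e => hj (e ▸ (Finset.mem_filter.1 hk).2)
              simp [sg, Ne.symm this]
        rw [hε]
        exact Subgroup.prod_mem _ fun i _ => (hT ▸ Set.mem_univ i : i ∈ T)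
      rw [h6, Subgroup.card_top, card_Sg] at hA
      omega
    have h6 : T.ncard ≤ 7 := by
      have h7 : T.ncard < (Set.univ : Set (Fin 8)).ncard :=
        Set.ncard_lt_ncard (Set.ssubset_univ_iff.2 h5) (Set.toFinite _)
      rw [Set.ncard_univ, Nat.card_eq_fintype_card, Fintype.card_fin] at h7
      omega
    exact (Set.ncard_le_ncard_of_injOn f h3 h4 (Set.toFinite _)).trans h6

end Cfsg.Agent.OddHalf.D9.EEight.OutRefl
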