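import Cfsg.Agent.OddHalf.D9.EEight.StepFive
import Cfsg.Agent.OddHalf.D9.EEight.Counts
import Cfsg.Agent.OddHalf.UQ4

/-!
# The row `2.Ω₈⁺(2)`: the contradiction
-/

set_option autoImplicit false

namespace Cfsg.Agent.OddHalf.D9.EEight

open Subgroup Equiv

variable {W : Type*} [Group W] {δ : W →* ℤˣ} {c : W} {Rf : W → Prop}
variable {G : Type*} [Group G] {φ : W → G} {R : Subgroup G}

theorem countF : CountF := count_F
theorem countE : CountE := count_E
theorem countD : CountD := count_D

/-- `z` commutes with no other conjugate. -/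
theorem Cfg.isolated' [Finite G] (C : Cfg δ c φ R) (E : EF δ c Rf) (g : G)
    (hg : (g * φ c * g⁻¹) * φ c = φ c * (g * φ c * g⁻¹)) : g * φ c * g⁻¹ = φ c :=
  C.isolated E countF countE countD g hg

/-- **The row, abstract form** -/
theorem Cfg.false [Finite G] [IsSimpleGroup G] (C : Cfg δ c φ R) (E : EF δ c Rf) : False := by
  rcases UQ4.zstar (C.z_ne E) (C.zz E) with ⟨g, hg1, hg2⟩ | ⟨N, hN, hodd, hc⟩
  · exact hg1 (C.isolated' E g hg2)
  · rcases hN.eq_bot_or_eq_top with h | h
    · -- `z` is central
      have hz : ∀ g : G, g * φ c = φ c * g := by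
        intro g
        have h1 := hc g
        rw [h, Subgroup.mem_bot, mul_inv_eq_one, mul_inv_eq_iff_eq_mul] at h1
        exact h1.symm
      have hcen : φ c ∈ Subgroup.center G := Subgroup.mem_center_iff.2 hz
      have htop : Subgroup.center G = ⊤ := by
        rcases (inferInstance : (Subgroup.center G).Normal).eq_bot_or_eq_top with h2 | h2
        · rw [h2, Subgroup.mem_bot] at hcen
          exact absurd hcen (C.z_ne E)
        · exact h2
      obtain ⟨d, hd, -⟩ := E.inv_frame 1 (mul_one 1)
      have hε : (sg 0 * sg 1 : Sg) ∈ Ev := by decide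
      have hk : δ (d (sg 0 * sg 1)) = 1 := hd.det_ev ⟨_, hε⟩
      rcases E.cenK (d (sg 0 * sg 1)) (by
        intro k hk'
        apply C.inj _ _ (by rw [map_mul, hk, hk', one_mul]) (by rw [map_mul, hk, hk', one_mul])
        rw [C.mul _ _ hk hk', C.mul _ _ hk' hk]
        have h3 : φ k ∈ Subgroup.center G := by rw [htop]; trivial
        exact (Subgroup.mem_center_iff.1 h3 _)) with h3 | h3
      · rw [← map_one d] at h3
        exact absurd (hd.inj h3) (by decide)
      · rw [← hd.neg] at h3
        exact absurd (hd.inj h3) (by decide)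
    · -- `G` has odd order
      rw [h, Subgroup.card_top] at hodd
      have h2 : orderOf (φ c) = 2 := orderOf_eq_prime (by rw [pow_two]; exact C.zz E) (C.z_ne E)
      have h3 : 2 ∣ Nat.card G := h2 ▸ orderOf_dvd_natCard (φ c)
      rw [← Nat.not_even_iff_odd] at hodd
      exact hodd (even_iff_two_dvd.2 h3)

/-- **The row**: `φ : K₀ → G` injective with `φ c = z`, `C_G(φ K₀)` a cyclic `2`-group, and the elements
of `C_G(z)` act on `φ K₀` as elements of `W`. -/
theorem false_of_hom [Finite G] [IsSimpleGroup G] (E : EF δ c Rf) (φ : δ.ker →* G)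
    (hinj : Function.Injective φ) {z : G} (hz : φ ⟨c, E.c_det⟩ = z)
    (hcyc : IsCyclic (centralizer (φ.range : Set G)))
    (htwo : IsPGroup 2 (centralizer (φ.range : Set G)))
    (hact : ∀ h : G, h * z = z * h → ∃ w : W, ∀ k : δ.ker,
      h * φ k * h⁻¹ = φ ⟨w * k * w⁻¹, det_conj k.2⟩) : False := by
  classical
  let φ' : W → G := fun w => if h : δ w = 1 then φ ⟨w, h⟩ else 1
  have hφ' : ∀ w (h : δ w = 1), φ' w = φ ⟨w, h⟩ := fun w h => dif_pos h
  refine Cfg.false (δ := δ) (c := c) (φ := φ') (R := centralizer (φ.range : Set G)) ?_ E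
  exact
    { mul := by
        intro k l hk hl
        rw [hφ' k hk, hφ' l hl, hφ' (k * l) (by rw [map_mul, hk, hl, one_mul])]
        exact map_mul φ ⟨k, hk⟩ ⟨l, hl⟩
      inj := by
        intro k l hk hl h
        rw [hφ' k hk, hφ' l hl] at h
        exact congrArg Subtype.val (hinj h)
      mem_R := by
        intro r
        rw [mem_centralizer_iff]
        constructor
        · intro h k hk
          rw [hφ' k hk]
          exact (h _ ⟨_, rfl⟩).symm
        · rintro h _ ⟨k, rfl⟩
          have := h k k.2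
          rw [hφ' k k.2] at this
          exact this.symm
      cyc := hcyc
      two := htwo
      act := by
        intro h hh
        rw [hφ' c E.c_det, hz] at hh
        obtain ⟨w, hw⟩ := hact h hh
        refine ⟨w, fun k hk => ?_⟩
        rw [hφ' k hk, hw ⟨k, hk⟩, hφ' _ (det_conj hk)] }

end Cfsg.Agent.OddHalf.D9.EEight
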