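import Cfsg.Agent.OddHalf.D9.EEight.StepThree

/-!
# Steps (4) (end) and (5): `z` commutes with no other conjugate of itself
-/

set_option autoImplicit false

namespace Cfsg.Agent.OddHalf.D9.EEight

open Subgroup Equiv

variable {W : Type*} [Group W] {δ : W →* ℤˣ} {c : W} {Rf : W → Prop}
variable {G : Type*} [Group G] {φ : W → G} {R : Subgroup G}

namespace Cfg

variable (C : Cfg δ c φ R) (E : EF δ c Rf)

include C E

theorem sq_of_det {h : G} {w : W} (h2 : h * h = 1) (hw : Ac δ φ h w) (hδ : δ w = -1) :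
    w * w = 1 := by
  have h1 := hw.mul hw
  rw [h2] at h1
  rcases C.ac_uniq E Ac.one h1 with h3 | h3
  · exact h3
  · rw [mul_one] at h3
    exact absurd rfl (E.cx_out w w h3 hδ).1

/-- The conjugates of `z` in `C_G(z)`: `z` and type `I₂`. -/
theorem tri [Finite G] (cF : CountF) (cE : CountE) (cD : CountD) (g : G)
    (hg : (g * φ c * g⁻¹) * φ c = φ c * (g * φ c * g⁻¹)) :
    g * φ c * g⁻¹ = φ c ∨ ∃ v : W, ∃ r ∈ R, δ v = 1 ∧ v * v = c ∧ r * r = φ c ∧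
      g * φ c * g⁻¹ = φ v * r := by
  have hyy : (g * φ c * g⁻¹) * (g * φ c * g⁻¹) = 1 := by
    have : (g * φ c * g⁻¹) * (g * φ c * g⁻¹) = g * (φ c * φ c) * g⁻¹ := by group
    rw [this, C.zz E]
    group
  obtain ⟨w, hw⟩ := C.act _ hg
  rcases Int.units_eq_one_or (δ w) with hδ | hδ
  · rcases C.kr_inv E hw hδ hyy with ⟨k, hk, hkk, hk'⟩ | h
    · left
      obtain ⟨d, hd, ε, rfl⟩ := E.inv_frame k hkk
      have hε : ε ∈ Ev := by rw [mem_Ev, ← hd.det]; exact hk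
      by_cases hno : ∀ h : G, h * h = 1 → ∀ w, Ac δ φ h w → δ w = 1
      · exact C.iso_E E cF cE hd hno g hε hk'
      · push Not at hno
        obtain ⟨b, hb, w0, hw0, hδ0⟩ := hno
        have hδ0' : δ w0 = -1 := (Int.units_eq_one_or _).resolve_left hδ0
        obtain ⟨d0, hd0, η, rfl⟩ := E.inv_frame w0 (C.sq_of_det E hb hw0 hδ0')
        rw [hd0.det] at hδ0'
        obtain ⟨D0, hD0, -⟩ := C.exists_lift hd0 hb hδ0' hw0
        obtain ⟨k, hk, hkk'⟩ := E.rf_trans _ _ (hd0.refl 0) (hd.refl 0)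
        have hb2 : (φ k * D0 (sg 0) * (φ k)⁻¹) * (φ k * D0 (sg 0) * (φ k)⁻¹) = 1 := by
          have e1 : (φ k * D0 (sg 0) * (φ k)⁻¹) * (φ k * D0 (sg 0) * (φ k)⁻¹) =
            φ k * (D0 (sg 0) * D0 (sg 0)) * (φ k)⁻¹ := by group
          rw [e1, ← map_mul, sq_one, map_one]
          group
        have hb3 : Ac δ φ (φ k * D0 (sg 0) * (φ k)⁻¹) (d (sg 0)) := by
          rw [← hkk']
          exact ((C.ac_phi hk).mul (hD0.ac _)).mul (C.ac_phi hk).inv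
        obtain ⟨D, hD, -⟩ := C.exists_lift hd hb2 (by decide) hb3
        refine iso_D C E cF cD hd hD g (u := ε) ?_
        rw [hk', hD.ev _ hε]
    · exact Or.inr h
  · left
    obtain ⟨d, hd, η, rfl⟩ := E.inv_frame w (C.sq_of_det E hyy hw hδ)
    rw [hd.det] at hδ
    obtain ⟨D, hD, hDη⟩ := C.exists_lift hd hyy hδ hw
    exact iso_D C E cF cD hd hD g (u := η) hDη.symm

/-- type `I₂` is not in `φ K₀` -/
theorem i2_not {v : W} {r : G} (hr : r ∈ R) (hv : δ v = 1) (hrr : r * r = φ c) {k : W} (hk : δ k = 1)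
    (h : φ k = φ v * r) : False := by
  have h1 : r = φ (v⁻¹ * k) := by
    rw [C.mul _ _ (by rw [map_inv, hv, inv_one]) hk, C.inv' hv, h]
    group
  have h2 : δ (v⁻¹ * k) = 1 := by rw [map_mul, map_inv, hv, hk, inv_one, one_mul]
  have h3 := C.phi_mem_R E h2 (h1 ▸ hr)
  have h4 : r * r = 1 := by
    rcases h3 with h3 | h3
    · rw [h1, h3, C.one', one_mul]
    · rw [h1, h3, C.zz E]
  rw [h4] at hrr
  exact C.z_ne E hrr.symm

/-- **Step (5)** `z` commutes with no other conjugate of itself. -/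
theorem isolated [Finite G] (cF : CountF) (cE : CountE) (cD : CountD) (g : G)
    (hg : (g * φ c * g⁻¹) * φ c = φ c * (g * φ c * g⁻¹)) : g * φ c * g⁻¹ = φ c := by
  rcases C.tri E cF cE cD g hg with h | ⟨v, r, hr, hv, hvv, hrr, h⟩
  · exact h
  exfalso
  -- the conjugate by the inverse
  have hg' : (g⁻¹ * φ c * g⁻¹⁻¹) * φ c = φ c * (g⁻¹ * φ c * g⁻¹⁻¹) := by
    have e1 : (g⁻¹ * φ c * g⁻¹⁻¹) * φ c = g⁻¹ * (φ c * (g * φ c * g⁻¹)) * g := by group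
    have e2 : φ c * (g⁻¹ * φ c * g⁻¹⁻¹) = g⁻¹ * ((g * φ c * g⁻¹) * φ c) * g := by group
    rw [e1, e2, hg]
  rcases C.tri E cF cE cD g⁻¹ hg' with h' | ⟨v', r', hr', hv', hvv', hrr', h'⟩
  · have h2 : g * φ c * g⁻¹ = φ c := by
      conv_lhs => rw [← h']
      group
    rw [h2] at h
    exact C.i2_not E hr hv hrr E.c_det h
  -- a generator of `R`
  obtain ⟨⟨ρ, hρ⟩, hgen⟩ := C.cyc.exists_generator
  have hpow : ∀ s ∈ R, ∃ j : ℤ, ρ ^ j = s := by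
    intro s hs
    obtain ⟨j, hj⟩ := Subgroup.mem_zpowers_iff.1 (hgen ⟨s, hs⟩)
    exact ⟨j, congrArg Subtype.val hj⟩
  obtain ⟨m, hm⟩ := hpow _ (C.z_mem E)
  -- `x = g⁻¹ ρ g`
  have hρt : ρ * (g * φ c * g⁻¹) = (g * φ c * g⁻¹) * ρ := by
    rw [h, ← mul_assoc, C.r_comm hρ hv, mul_assoc, C.r_ab hρ hr, mul_assoc]
  have hxz : (g⁻¹ * ρ * g) * φ c = φ c * (g⁻¹ * ρ * g) := by
    have e1 : (g⁻¹ * ρ * g) * φ c = g⁻¹ * (ρ * (g * φ c * g⁻¹)) * g := by group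
    have e2 : φ c * (g⁻¹ * ρ * g) = g⁻¹ * ((g * φ c * g⁻¹) * ρ) * g := by group
    rw [e1, e2, hρt]
  obtain ⟨w, hw⟩ := C.act _ hxz
  have hxt : (g⁻¹ * ρ * g) * (φ v' * r') * (g⁻¹ * ρ * g)⁻¹ = φ v' * r' := by
    rw [← h']
    have e1 : g⁻¹ * ρ * g * (g⁻¹ * φ c * g⁻¹⁻¹) * (g⁻¹ * ρ * g)⁻¹ = g⁻¹ * (ρ * φ c * ρ⁻¹) * g := by
      group
    rw [e1, C.r_comm hρ E.c_det, mul_inv_cancel_right, inv_inv]
  have hδ : δ w = 1 := by
    by_contra hne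
    have hδ' : δ w = -1 := (Int.units_eq_one_or _).resolve_left hne
    -- `x` normalizes `R`
    have hxR : (g⁻¹ * ρ * g) * r' * (g⁻¹ * ρ * g)⁻¹ ∈ R := by
      rw [← C.ac_one_iff]
      have h1 := Ac.mul (Ac.mul hw (C.ac_one_iff.2 hr')) (Ac.inv hw)
      rwa [mul_one, mul_inv_cancel] at h1
    have e1 : (g⁻¹ * ρ * g) * (φ v' * r') * (g⁻¹ * ρ * g)⁻¹ =
        ((g⁻¹ * ρ * g) * φ v' * (g⁻¹ * ρ * g)⁻¹) * ((g⁻¹ * ρ * g) * r' * (g⁻¹ * ρ * g)⁻¹) := by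
      group
    rw [e1, hw v' hv'] at hxt
    have hv'' : δ (w * v' * w⁻¹) = 1 := det_conj hv'
    have e2 : φ (v'⁻¹ * (w * v' * w⁻¹)) = r' * ((g⁻¹ * ρ * g) * r' * (g⁻¹ * ρ * g)⁻¹)⁻¹ := by
      rw [C.mul _ _ (by rw [map_inv, hv', inv_one]) hv'', C.inv' hv', inv_mul_eq_iff_eq_mul,
        ← mul_assoc, ← hxt, mul_inv_cancel_right]
    have h3 := C.phi_mem_R E (k := v'⁻¹ * (w * v' * w⁻¹))
      (by rw [map_mul, map_inv, hv', hv'', inv_one, one_mul])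
      (by rw [e2]; exact R.mul_mem hr' (R.inv_mem hxR))
    have h4 := E.cx_out v' w hvv' hδ'
    rcases h3 with h3 | h3
    · rw [inv_mul_eq_one] at h3
      apply h4.1
      rw [← mul_inv_eq_iff_eq_mul]
      exact h3.symm
    · rw [inv_mul_eq_iff_eq_mul, mul_inv_eq_iff_eq_mul, ← E.c_comm v', mul_assoc] at h3
      exact h4.2 h3
  obtain ⟨s, hs, hx⟩ := C.exists_of_ac hw hδ
  -- the power
  have hcomm : Commute (φ w) s := (C.r_comm hs hδ).symm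
  have h5 : (g⁻¹ * ρ * g) ^ m = g⁻¹ * φ c * g⁻¹⁻¹ := by
    have e1 : g⁻¹ * ρ * g = g⁻¹ * ρ * g⁻¹⁻¹ := by rw [inv_inv]
    rw [e1, conj_zpow, hm]
  have hφpow : ∃ k, δ k = 1 ∧ φ k = φ w ^ m := by
    have h6 := map_zpow (C.hom δ.ker.subtype (fun x => x.2)) ⟨w, hδ⟩ m
    exact ⟨((⟨w, hδ⟩ : δ.ker) ^ m : δ.ker), ((⟨w, hδ⟩ : δ.ker) ^ m : δ.ker).2, h6⟩
  obtain ⟨k, hk, hk'⟩ := hφpow
  obtain ⟨j, hj⟩ := hpow s hs
  have h6 : s ^ m = φ c ^ j := by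
    rw [← hj, ← hm, ← zpow_mul, ← zpow_mul, mul_comm]
  rw [hx, hcomm.mul_zpow, h6, ← hk'] at h5
  have hcj : ∃ l, δ l = 1 ∧ φ l = φ c ^ j := by
    rcases Int.even_or_odd j with ⟨i, hi⟩ | ⟨i, hi⟩
    · refine ⟨1, map_one δ, ?_⟩
      rw [hi, ← two_mul, zpow_mul, zpow_two, C.zz E, one_zpow, C.one']
    · refine ⟨c, E.c_det, ?_⟩
      rw [hi, zpow_add, zpow_mul, zpow_two, C.zz E, one_zpow, zpow_one, one_mul]
  obtain ⟨l, hl, hl'⟩ := hcj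
  rw [← hl', ← C.mul _ _ hk hl, h'] at h5
  exact C.i2_not E hr' hv' hrr' (by rw [map_mul, hk, hl, one_mul]) h5

end Cfg

end Cfsg.Agent.OddHalf.D9.EEight
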