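import Cfsg.Agent.OddHalf.D9.EEight.StepF

/-!
# Step (2)(ii): a conjugate of `F` not contained in `K R`
-/

set_option autoImplicit false

namespace Cfsg.Agent.OddHalf.D9.EEight

open Subgroup Equiv

variable {W : Type*} [Group W] {δ : W →* ℤˣ} {c : W} {Rf : W → Prop}
variable {G : Type*} [Group G] {φ : W → G} {R : Subgroup G}

/-- A conjugate `Q` of `F` in `C_G(z)`, `z = Q u`. -/
structure Dat (δ : W →* ℤˣ) (c : W) (φ : W → G) (Q : Ev →* G) (u : Ev) : Prop where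
  inj : Function.Injective Q
  z : Q u = φ c
  act : ∀ x, ∃ w, Ac δ φ (Q x) w
  sym : ∀ σ : Perm (Fin 8), Perm.sign σ = 1 → pm σ u = u →
    ∃ n v, Ac δ φ n v ∧ ∀ x, n * Q x * n⁻¹ = Q (pmE σ x)

namespace Dat

variable {Q : Ev →* G} {u : Ev} (D : Dat δ c φ Q u) (C : Cfg δ c φ R) (E : EF δ c Rf)

/-- the elements of `W` by which `Q` acts -/
def til (δ : W →* ℤˣ) (φ : W → G) (Q : Ev →* G) : Subgroup W where
  carrier := {w | ∃ x, Ac δ φ (Q x) w}
  one_mem' := ⟨1, by rw [map_one]; exact Ac.one⟩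
  mul_mem' := by
    rintro a b ⟨x, hx⟩ ⟨y, hy⟩
    exact ⟨x * y, by rw [map_mul]; exact hx.mul hy⟩
  inv_mem' := by
    rintro a ⟨x, hx⟩
    exact ⟨x⁻¹, by rw [map_inv]; exact hx.inv⟩

/-- the graph -/
def gr (δ : W →* ℤˣ) (φ : W → G) (Q : Ev →* G) : Subgroup (W × Ev) where
  carrier := {p | Ac δ φ (Q p.2) p.1}
  one_mem' := by
    show Ac δ φ (Q 1) 1
    rw [map_one]
    exact Ac.one
  mul_mem' := by
    intro a b ha hb
    show Ac δ φ (Q (a.2 * b.2)) (a.1 * b.1)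
    rw [map_mul]
    exact Ac.mul ha hb
  inv_mem' := by
    intro a ha
    show Ac δ φ (Q (a.2⁻¹)) a.1⁻¹
    rw [map_inv]
    exact Ac.inv ha

include D C E

theorem coset [Finite G] {x y : Ev} {ρ : W} (hx : Ac δ φ (Q x) ρ) (hy : Ac δ φ (Q y) ρ) :
    x = y ∨ x = u * y := by
  have h1 := hx.mul hy.inv
  rw [mul_inv_cancel, C.ac_one_iff, ← map_inv, ← map_mul] at h1
  have h2 : Q (x * y⁻¹) * Q (x * y⁻¹) = 1 := by rw [← map_mul, ev_sq, map_one]
  rcases C.r_inv E h1 h2 with h3 | h3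
  · left
    rw [← map_one Q] at h3
    exact mul_inv_eq_one.1 (D.inj h3)
  · right
    rw [← D.z] at h3
    exact mul_inv_eq_iff_eq_mul.1 (D.inj h3)

theorem card_til [Finite G] : Nat.card (til δ φ Q) = 2 ^ 7 := by
  let π₁ : gr δ φ Q →* W := (MonoidHom.fst W Ev).comp (gr δ φ Q).subtype
  let π₂ : gr δ φ Q →* Ev := (MonoidHom.snd W Ev).comp (gr δ φ Q).subtype
  have r1 : π₁.range = til δ φ Q := by
    ext w
    constructor
    · rintro ⟨p, rfl⟩
      exact ⟨_, p.2⟩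
    · rintro ⟨x, hx⟩
      exact ⟨⟨(w, x), hx⟩, rfl⟩
  have r2 : π₂.range = ⊤ := by
    rw [MonoidHom.range_eq_top]
    intro x
    obtain ⟨w, hw⟩ := D.act x
    exact ⟨⟨(w, x), hw⟩, rfl⟩
  have hR : ∀ x, Ac δ φ (Q x) 1 → x = 1 ∨ x = u := by
    intro x hx
    have := D.coset C E hx (y := 1) (by rw [map_one]; exact Ac.one)
    rwa [mul_one] at this
  have hu1 : Ac δ φ (Q u) 1 := by
    rw [C.ac_one_iff, D.z]
    exact C.z_mem E
  have hne : (1 : Ev) ≠ u := by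
    rintro rfl
    have := D.z
    rw [map_one] at this
    exact C.z_ne E this.symm
  have k1 : Nat.card π₁.ker = 2 := by
    rw [Nat.card_eq_two_iff]
    refine ⟨1, ⟨⟨(1, u), hu1⟩, rfl⟩, ?_, ?_⟩
    · intro h
      have h' := congrArg (fun p : π₁.ker => (p : gr δ φ Q).1.2) h
      exact hne h'
    · rw [Set.eq_univ_iff_forall]
      rintro ⟨⟨⟨w, x⟩, hwx⟩, hk⟩
      have hw : w = 1 := hk
      subst hw
      rcases hR x hwx with rfl | rfl
      · left; rfl
      · right; rfl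
  have hc1 : Ac δ φ (Q 1) c := by
    rw [C.ac_c_iff E, map_one]
    exact R.one_mem
  have k2 : Nat.card π₂.ker = 2 := by
    rw [Nat.card_eq_two_iff]
    refine ⟨1, ⟨⟨(c, 1), hc1⟩, rfl⟩, ?_, ?_⟩
    · intro h
      have h' := congrArg (fun p : π₂.ker => (p : gr δ φ Q).1.1) h
      exact E.c_ne h'.symm
    · rw [Set.eq_univ_iff_forall]
      rintro ⟨⟨⟨w, x⟩, hwx⟩, hk⟩
      have hw : x = 1 := hk
      subst hw
      have h1 : Ac δ φ (1 : G) w := by
        have := hwx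
        change Ac δ φ (Q 1) w at this
        rwa [map_one] at this
      rcases C.ac_uniq E Ac.one h1 with rfl | rfl
      · left; rfl
      · right
        apply Subtype.ext
        apply Subtype.ext
        exact Prod.ext (mul_one c) rfl
  have c1 := Subgroup.card_mul_index π₁.ker
  have c2 := Subgroup.card_mul_index π₂.ker
  rw [Subgroup.index_ker, k1, r1] at c1
  rw [Subgroup.index_ker, k2, r2, Subgroup.card_top, card_Ev] at c2
  omega

/-- The elements of `til` of determinant one. -/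
theorem til_det_one [Finite G] {w : W} (hw : w ∈ til δ φ Q) (h1 : δ w = 1) :
    w * w = 1 ∧ ∃ k, δ k = 1 ∧ φ k ∈ Q.range ∧ (w = k ∨ w = c * k) := by
  let M₁ : Subgroup G :=
    { carrier := {h | h ∈ Q.range ∧ ∃ w, Ac δ φ h w ∧ δ w = 1}
      one_mem' := ⟨Q.range.one_mem, 1, Ac.one, map_one δ⟩
      mul_mem' := by
        rintro a b ⟨ha, v, hv, hv1⟩ ⟨hb, w, hw, hw1⟩
        exact ⟨Q.range.mul_mem ha hb, v * w, hv.mul hw, by rw [map_mul, hv1, hw1, one_mul]⟩
      inv_mem' := by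
        rintro a ⟨ha, v, hv, hv1⟩
        exact ⟨Q.range.inv_mem ha, v⁻¹, hv.inv, by rw [map_inv, hv1, inv_one]⟩ }
  have hel : IsEl M₁ := by
    constructor
    · rintro _ ⟨⟨x, rfl⟩, -⟩
      rw [← map_mul, ev_sq, map_one]
    · rintro _ ⟨⟨x, rfl⟩, -⟩ _ ⟨⟨y, rfl⟩, -⟩
      rw [← map_mul, ← map_mul, mul_comm]
  have hQ : Nat.card Q.range = 2 ^ 7 := by
    rw [← card_Ev]
    exact (Nat.card_congr (MonoidHom.ofInjective D.inj).toEquiv).symm
  have hcard := card_le_two_mul Q.range M₁ (by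
    intro a ha ha1 b hb hb1
    refine ⟨Q.range.mul_mem ha hb, ?_⟩
    obtain ⟨x, rfl⟩ := ha
    obtain ⟨y, rfl⟩ := hb
    obtain ⟨v, hv⟩ := D.act x
    obtain ⟨w, hw⟩ := D.act y
    have h1 : δ v = -1 := by
      rcases Int.units_eq_one_or (δ v) with h | h
      · exact absurd ⟨⟨x, rfl⟩, v, hv, h⟩ ha1
      · exact h
    have h2 : δ w = -1 := by
      rcases Int.units_eq_one_or (δ w) with h | h
      · exact absurd ⟨⟨y, rfl⟩, w, hw, h⟩ hb1
      · exact h
    refine ⟨v * w, hv.mul hw, ?_⟩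
    rw [map_mul, h1, h2]
    decide)
  have key := C.el_in_K E hel (fun h hh => hh.2) (by omega)
  obtain ⟨x, hx⟩ := hw
  have hmem : Q x ∈ M₁ := ⟨⟨x, rfl⟩, w, hx, h1⟩
  obtain ⟨k, hk, hkx⟩ := key _ hmem
  have h2 : k * k = 1 := by
    apply C.inj _ _ (by rw [map_mul, hk, one_mul]) (map_one δ)
    rw [C.mul _ _ hk hk, hkx, ← map_mul, ev_sq, map_one, C.one']
  have h3 : Ac δ φ (Q x) k := by
    rw [← hkx]
    exact C.ac_phi hk
  have h4 := C.ac_uniq E h3 hx
  refine ⟨?_, k, hk, by rw [hkx]; exact ⟨x, rfl⟩, h4⟩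
  rcases h4 with h4 | h4
  · rw [h4, h2]
  · have : c * k * (c * k) = c * c * (k * k) := by
      rw [mul_assoc, ← mul_assoc k, ← E.c_comm k]
      simp only [mul_assoc]
    rw [h4, this, h2, E.c_sq, one_mul]

theorem til_el [Finite G] : IsEl (til δ φ Q) := by
  constructor
  · intro w hw
    rcases Int.units_eq_one_or (δ w) with h | h
    · exact (D.til_det_one C E hw h).1
    · obtain ⟨x, hx⟩ := hw
      have h1 := hx.mul hx
      rw [← map_mul, ev_sq, map_one] at h1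
      rcases C.ac_uniq E Ac.one h1 with h2 | h2
      · exact h2
      · rw [mul_one] at h2
        exact absurd rfl (E.cx_out w w h2 h).1
  · have key : ∀ v ∈ til δ φ Q, δ v = 1 → ∀ w ∈ til δ φ Q, v * w = w * v := by
      intro v hv hv1 w hw
      obtain ⟨-, k, hk, ⟨x, hx⟩, hkv⟩ := D.til_det_one C E hv hv1
      obtain ⟨y, hy⟩ := hw
      have h1 := hy k hk
      rw [← hx, ← map_mul, mul_comm y x, map_mul, mul_inv_cancel_right, hx] at h1
      have h2 := C.inj _ _ hk (det_conj hk) h1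
      have h3 : k * w = w * k := by
        conv_lhs => rw [h2]
        group
      rcases hkv with h | h
      · rw [h, h3]
      · rw [h, mul_assoc, h3, ← mul_assoc, E.c_comm w, mul_assoc]
    intro v hv w hw
    rcases Int.units_eq_one_or (δ v) with h | h
    · exact key v hv h w hw
    · rcases Int.units_eq_one_or (δ w) with h' | h'
      · exact (key w hw h' v hv).symm
      · have h1 := key (v * w) ((til δ φ Q).mul_mem hv hw)
          (by rw [map_mul, h, h']; decide) w hw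
        rw [← mul_assoc, mul_left_inj] at h1
        exact h1

theorem c_mem : c ∈ til δ φ Q := ⟨u, by
  rw [D.z]
  exact C.ac_phi E.c_det⟩

/-- The commutator subgroup condition. -/
theorem hasComm : ∃ T : Subgroup Sg, HasComm T u ∧
    ∀ x : Ev, (x : Sg) ∈ T → ∃ w, Ac δ φ (Q x) w ∧ δ w = 1 := by
  refine ⟨{ carrier := {x | ∃ hx : x ∈ Ev, ∃ w, Ac δ φ (Q ⟨x, hx⟩) w ∧ δ w = 1}
            one_mem' := ⟨Ev.one_mem, 1, ?_, map_one δ⟩
            mul_mem' := ?_
            inv_mem' := ?_ }, ⟨?_, ?_⟩, ?_⟩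
  · rintro a b ⟨ha, v, hv, hv1⟩ ⟨hb, w, hw, hw1⟩
    refine ⟨Ev.mul_mem ha hb, v * w, ?_, by rw [map_mul, hv1, hw1, one_mul]⟩
    have : (⟨a * b, Ev.mul_mem ha hb⟩ : Ev) = ⟨a, ha⟩ * ⟨b, hb⟩ := rfl
    rw [this, map_mul]
    exact hv.mul hw
  · have : (⟨1, Ev.one_mem⟩ : Ev) = 1 := rfl
    rw [this, map_one]
    exact Ac.one
  · rintro a ⟨ha, v, hv, hv1⟩
    refine ⟨Ev.inv_mem ha, v⁻¹, ?_, by rw [map_inv, hv1, inv_one]⟩
    have : (⟨a⁻¹, Ev.inv_mem ha⟩ : Ev) = ⟨a, ha⟩⁻¹ := rfl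
    rw [this, map_inv]
    exact hv.inv
  · refine ⟨u.2, c, ?_, E.c_det⟩
    have : (⟨(u : Sg), u.2⟩ : Ev) = u := rfl
    rw [this, D.z]
    exact C.ac_phi E.c_det
  · intro x hx σ hσ hu
    obtain ⟨n, v, hnv, hn⟩ := D.sym σ hσ hu
    obtain ⟨w, hw⟩ := D.act ⟨x, hx⟩
    have hσx : pm σ x ∈ Ev := (pmE σ ⟨x, hx⟩).2
    refine ⟨Ev.mul_mem hx hσx, w * (v * w * v⁻¹), ?_, ?_⟩
    · have : (⟨x * pm σ x, Ev.mul_mem hx hσx⟩ : Ev) = ⟨x, hx⟩ * pmE σ ⟨x, hx⟩ := rfl
      rw [this, map_mul, ← hn]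
      exact hw.mul ((hnv.mul hw).mul hnv.inv)
    · rw [map_mul, map_mul, map_mul, map_inv, mul_comm (δ v), mul_inv_cancel_right]
      exact Int.units_mul_self _
  · rintro x ⟨hx, w, hw, hw1⟩
    exact ⟨w, hw, hw1⟩

/-- **The contradiction** -/
theorem false_of_out [Finite G] (hstd : (u : Sg) = u2 ∨ (u : Sg) = u6 ∨ (u : Sg) = u4)
    (hout : ∃ x w, Ac δ φ (Q x) w ∧ δ w ≠ 1) : False := by
  obtain ⟨x1, w1, hw1, hδ1⟩ := hout
  obtain ⟨⟨ρ, ⟨e, he⟩, hρ⟩, hX⟩ := E.out_refl (til δ φ Q) (D.til_el C E) (D.card_til C E)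
    (D.c_mem C E) (fun h => hδ1 (h ⟨x1, hw1⟩))
  obtain ⟨T, hT, hTe⟩ := D.hasComm C E
  have heT : (e : Sg) ∉ T := by
    intro h
    obtain ⟨w, hw, hw1⟩ := hTe e h
    have := C.ac_det E he hw
    rw [E.rf_det ρ hρ, hw1] at this
    exact absurd this (by decide)
  have main : ∀ u' : Sg, (u : Sg) = u' → (u' = u2 ∨ u' = u6) → False := by
    intro u' huu' hu'
    rw [huu'] at hT
    have h67 : (e : Sg) 6 ≠ (e : Sg) 7 := fun h => heT (claimA hu' hT e.2 h)
    obtain ⟨σ, hσ, hσu, hσ5, hσe, hσe'⟩ := five hu' e.2 h67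
    rw [← huu'] at hσu
    obtain ⟨n, v, hnv, hn⟩ := D.sym σ hσ hσu
    have hpow : ∀ j : ℕ, ∀ x, n ^ j * Q x * (n ^ j)⁻¹ = Q (pmE (σ ^ j) x) := by
      intro j
      induction j with
      | zero =>
        intro x
        rw [pow_zero, pow_zero, one_mul, inv_one, mul_one]
        rfl
      | succ j ih =>
        intro x
        have e1 : n ^ (j + 1) * Q x * (n ^ (j + 1))⁻¹ = n * (n ^ j * Q x * (n ^ j)⁻¹) * n⁻¹ := by
          rw [pow_succ']
          group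
        rw [e1, ih, hn]
        congr 1
    have hmem : ∀ j : ℕ, v ^ j * ρ * (v ^ j)⁻¹ ∈ til δ φ Q := by
      intro j
      refine ⟨pmE (σ ^ j) e, ?_⟩
      rw [← hpow]
      exact ((hnv.pow j).mul he).mul (hnv.pow j).inv
    have h5 : v ^ 5 * ρ * (v ^ 5)⁻¹ = ρ := by
      have h1 : Ac δ φ (Q e) (v ^ 5 * ρ * (v ^ 5)⁻¹) := by
        have h2 := ((hnv.pow 5).mul he).mul (hnv.pow 5).inv
        rw [hpow, hσ5] at h2
        exact h2
      rcases C.ac_uniq E he h1 with h2 | h2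
      · exact h2
      · exact absurd (h2 ▸ E.rf_conj ρ (v ^ 5) hρ) (E.rf_neg ρ hρ)
    have h6 : v * ρ = ρ * v := E.rf_five ρ v hρ
      (fun j => (D.til_el C E).2 _ (hmem j) _ ⟨e, he⟩) (mul_inv_eq_iff_eq_mul.1 h5)
    have h7 : Ac δ φ (Q (pmE σ e)) ρ := by
      have h8 := (hnv.mul he).mul hnv.inv
      rw [hn, mul_inv_eq_iff_eq_mul.2 h6] at h8
      exact h8
    rcases D.coset C E h7 he with h8 | h8
    · exact hσe (congrArg Subtype.val h8)
    · apply hσe'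
      rw [← huu']
      exact congrArg Subtype.val h8
  rcases hstd with h | h | h
  · exact main _ h (Or.inl rfl)
  · exact main _ h (Or.inr rfl)
  · rw [h] at hT
    have h4 : (e : Sg) 0 * (e : Sg) 1 * (e : Sg) 2 * (e : Sg) 3 = -1 := by
      rcases Int.units_eq_one_or ((e : Sg) 0 * (e : Sg) 1 * (e : Sg) 2 * (e : Sg) 3) with h4 | h4
      · exact absurd (claimB hT e.2 h4) heT
      · exact h4
    have hch : ∀ p : Fin 4 × Fin 4, ∃ τ : {τ | τ ∈ til δ φ Q ∧ Rf τ},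
        Ac δ φ (Q (pmE (vv p) e)) τ := by
      intro p
      obtain ⟨n, v, hnv, hn⟩ := D.sym (vv p) (vv_sign p) (by rw [h]; exact vv_u4 p)
      have h1 := (hnv.mul he).mul hnv.inv
      rw [hn] at h1
      exact ⟨⟨_, ⟨_, h1⟩, E.rf_conj ρ v hρ⟩, h1⟩
    choose τ hτ using hch
    have hinj : Function.Injective τ := by
      intro p q hpq
      have h1 := hτ p
      rw [hpq] at h1
      rcases D.coset C E h1 (hτ q) with h2 | h2
      · exact spec_vv e.2 h4 (Or.inl (congrArg Subtype.val h2))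
      · refine spec_vv e.2 h4 (Or.inr ?_)
        rw [← h]
        exact congrArg Subtype.val h2
    have hfin : Finite (til δ φ Q) := Nat.finite_of_card_ne_zero (by rw [D.card_til C E]; norm_num)
    have hfin2 : Finite {τ | τ ∈ til δ φ Q ∧ Rf τ} :=
      Finite.of_injective (fun τ : {τ | τ ∈ til δ φ Q ∧ Rf τ} => (⟨τ, τ.2.1⟩ : til δ φ Q))
        (fun a b hab => Subtype.ext (congrArg (fun z : til δ φ Q => (z : W)) hab))
    have h5 := Nat.card_le_card_of_injective τ hinj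
    rw [Nat.card_prod, Nat.card_eq_fintype_card, Fintype.card_fin] at h5
    have h6 : Nat.card {τ | τ ∈ til δ φ Q ∧ Rf τ} ≤ 7 := hX
    omega

end Dat

end Cfsg.Agent.OddHalf.D9.EEight
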