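import Cfsg.Agent.OddHalf.D9.EEight.StepOut

/-!
# Step (2): `z` is the only conjugate of `z` in `F`
-/

set_option autoImplicit false

namespace Cfsg.Agent.OddHalf.D9.EEight

open Subgroup Equiv

variable {W : Type*} [Group W] {δ : W →* ℤˣ} {c : W} {Rf : W → Prop}
variable {G : Type*} [Group G] {φ : W → G} {R : Subgroup G}

/-- The conjugate of a homomorphism. -/
def conjHom {X : Type*} [Group X] (P : X →* G) (g : G) : X →* G where
  toFun x := g⁻¹ * P x * g
  map_one' := by rw [map_one]; group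
  map_mul' x y := by rw [map_mul]; group

theorem conjHom_apply {X : Type*} [Group X] (P : X →* G) (g : G) (x : X) :
    conjHom P g x = g⁻¹ * P x * g := rfl

theorem conjHom_inj {X : Type*} [Group X] {P : X →* G} (hP : Function.Injective P) (g : G) :
    Function.Injective (conjHom P g) := by
  intro x y hxy
  rw [conjHom_apply, conjHom_apply, mul_left_inj, mul_right_inj] at hxy
  exact hP hxy

namespace Cfg

variable (C : Cfg δ c φ R) (E : EF δ c Rf)

include C E

theorem iso_F_std [Finite G] (cF : CountF) {f : Ev →* W} (hf : IsFt δ c f) (g : G) (u : Ev)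
    (hu : g * φ c * g⁻¹ = φ (f u)) (hstd : (u : Sg) = u2 ∨ (u : Sg) = u6 ∨ (u : Sg) = u4) :
    False := by
  have hz : g⁻¹ * φ (f u) * g = φ c := by rw [← hu]; group
  by_cases hKR : ∀ x, ∃ w, Ac δ φ (g⁻¹ * C.fHom hf x * g) w ∧ δ w = 1
  · have h1 := C.iso_of_kr E (C.fHom_inj hf) (C.fHom_m1 hf) (C.norm_F cF hf) g hKR
    have h2 : g * φ c * g⁻¹ = φ c := by
      conv_lhs => rw [← h1]
      group
    rw [hu, ← hf.neg] at h2
    have h3 := hf.inj (C.inj _ _ (hf.det _) (hf.det _) h2)
    rw [h3, coe_m1] at hstd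
    revert hstd
    decide
  · push Not at hKR
    obtain ⟨x1, hx1⟩ := hKR
    have hcomm : ∀ x, (g⁻¹ * C.fHom hf x * g) * φ c = φ c * (g⁻¹ * C.fHom hf x * g) := by
      intro x
      rw [← hz, ← C.fHom_apply hf]
      have e1 : g⁻¹ * C.fHom hf x * g * (g⁻¹ * C.fHom hf u * g) =
        g⁻¹ * (C.fHom hf x * C.fHom hf u) * g := by group
      have e2 : g⁻¹ * C.fHom hf u * g * (g⁻¹ * C.fHom hf x * g) =
        g⁻¹ * (C.fHom hf u * C.fHom hf x) * g := by group
      rw [e1, e2, ← map_mul, ← map_mul, mul_comm]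
    have D : Dat δ c φ (conjHom (C.fHom hf) g) u :=
      { inj := conjHom_inj (C.fHom_inj hf) g
        z := hz
        act := fun x => C.act _ (hcomm x)
        sym := by
          intro σ hσ hσu
          obtain ⟨k, hk, h⟩ := hf.sym σ hσ
          have h1 : ∀ x, (g⁻¹ * φ k * g) * conjHom (C.fHom hf) g x * (g⁻¹ * φ k * g)⁻¹ =
              conjHom (C.fHom hf) g (pmE σ x) := by
            intro x
            rw [conjHom_apply, conjHom_apply, C.fHom_apply, C.fHom_apply, ← h, C.conj' hk (hf.det x)]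
            group
          have h2 : (g⁻¹ * φ k * g) * φ c = φ c * (g⁻¹ * φ k * g) := by
            have h3 := h1 u
            have h4 : pmE σ u = u := Subtype.ext hσu
            rw [h4, conjHom_apply, C.fHom_apply, hz] at h3
            exact mul_inv_eq_iff_eq_mul.1 h3
          obtain ⟨v, hv⟩ := C.act _ h2
          exact ⟨_, v, hv, h1⟩ }
    obtain ⟨w1, hw1⟩ := D.act x1
    exact D.false_of_out C E hstd ⟨x1, w1, hw1, hx1 w1 hw1⟩

/-- **Step (2)** -/
theorem iso_F [Finite G] (cF : CountF) {f : Ev →* W} (hf : IsFt δ c f) (g : G) (u : Ev)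
    (hu : g * φ c * g⁻¹ = φ (f u)) : g * φ c * g⁻¹ = φ c := by
  by_contra hne
  have h1 : (u : Sg) ≠ 1 := by
    intro h
    have h2 : u = 1 := Subtype.ext h
    rw [h2, map_one, C.one'] at hu
    apply C.z_ne E
    have : φ c = g⁻¹ * (g * φ c * g⁻¹) * g := by group
    rw [this, hu]
    group
  have h2 : (u : Sg) ≠ -1 := by
    intro h
    have h2 : u = m1 := Subtype.ext h
    rw [h2, hf.neg] at hu
    exact hne hu
  obtain ⟨σ, hσ, hstd⟩ := normal_form u.2 h1 h2
  obtain ⟨k, hk, h⟩ := hf.sym σ hσ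
  refine C.iso_F_std E cF hf (φ k * g) (pmE σ u) ?_ hstd
  rw [← h, C.conj' hk (hf.det u), ← hu]
  group

end Cfg

end Cfsg.Agent.OddHalf.D9.EEight
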