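import Cfsg.Agent.OddHalf.D9.EEight.OutRefl
import Cfsg.Agent.OddHalf.D9.EEight.FrameCode

/-!
# `two_types` of `EF det neg IsRefl` (helper109)
-/

set_option autoImplicit false

namespace Cfsg.Agent.OddHalf.D9.EEight.TwoTypes

open Coord Move Fields Eig EigCard OutRefl FrameBase Cfsg.Agent.OddHalf.D9.EEight.FrameHom

variable {M : Subgroup W} {v : Fin 8 → Lat} {χ : M →* Sg}

/-- `x` lies on the line of `v i` -/
def On (v : Fin 8 → Lat) (i : Fin 8) (x : Lat) : Prop := ∃ n c : ℤ, n ≠ 0 ∧ c ≠ 0 ∧ n • x = c • v i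

theorem smul_inj {n : ℤ} (hn : n ≠ 0) {x y : Lat} (h : n • x = n • y) : x = y := by
  funext i
  have := congrFun h i
  simp only [Pi.smul_apply, smul_eq_mul] at this
  exact mul_left_cancel₀ hn this

theorem root_ne {a : Lat} (ha : IsRoot a) : a ≠ 0 := by
  rintro rfl
  unfold IsRoot form at ha
  simp at ha

/-- a sum with at most two non zero coefficients -/
theorem sum_two {i j : Fin 8} (hij : i ≠ j) (c : Fin 8 → ℤ) (v : Fin 8 → Lat) (hc : ∀ k, k ≠ i → k ≠ j → c k = 0) :
    ∑ k, c k • v k = c i • v i + c j • v j := by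
  rw [Finset.sum_eq_add i j hij]
  · intro k _ hk
    rw [hc k hk.1 hk.2, zero_smul]
  · intro h; exact absurd (Finset.mem_univ i) h
  · intro h; exact absurd (Finset.mem_univ j) h

/-- vectors negated by `m`, `χ m = sg i * sg j` -/
theorem in_plane (h : EB M v χ) {i j : Fin 8} (hij : i ≠ j) {m : M} (hm : χ m = sg i * sg j) {x : Lat}
    (hx : ap (m : W) x = -x) : ∃ n c d : ℤ, n ≠ 0 ∧ n • x = c • v i + d • v j := by
  obtain ⟨n, hn, c, hc⟩ := h.span x
  refine ⟨n, c i, c j, hn, ?_⟩
  rw [hc]
  apply sum_two hij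
  intro k hki hkj
  refine eb_coeff h (δ := -1) (m := m) (by rw [hx]; simp) hc k ?_
  rw [hm]
  simp [sg, hki, hkj]

/-- Cramer's rule in the plane -/
theorem no_three {a b s x y : Lat} (ha : IsRoot a) (hb : IsRoot b) (hs : IsRoot s) (hab : form a b = 0)
    (has : form a s = 0) (hbs : form b s = 0) {n₁ c₁ d₁ n₂ c₂ d₂ n₃ c₃ d₃ : ℤ} (h1 : n₁ ≠ 0) (h2 : n₂ ≠ 0) (h3 : n₃ ≠ 0)
    (e1 : n₁ • a = c₁ • x + d₁ • y) (e2 : n₂ • b = c₂ • x + d₂ • y) (e3 : n₃ • s = c₃ • x + d₃ • y) : False := by
  have ha2 : form a a = 2 := ha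
  have hb2 : form b b = 2 := hb
  have hs2 : form s s = 2 := hs
  by_cases hD : c₁ * d₂ = c₂ * d₁
  · -- `a`, `b` parallel
    have f1 : (d₂ * n₁) • a = (d₁ * n₂) • b := by
      rw [mul_smul, mul_smul, e1, e2, smul_add, smul_add, smul_smul, smul_smul, smul_smul, smul_smul,
        show d₂ * c₁ = d₁ * c₂ by rw [mul_comm d₂, hD]; ring, mul_comm d₂ d₁]
    have f2 : (c₂ * n₁) • a = (c₁ * n₂) • b := by
      rw [mul_smul, mul_smul, e1, e2, smul_add, smul_add, smul_smul, smul_smul, smul_smul, smul_smul,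
        show c₂ * d₁ = c₁ * d₂ by rw [← hD], mul_comm c₂ c₁]
    have g1 := congrArg (form a) f1
    have g2 := congrArg (form a) f2
    rw [form_smul_right, form_smul_right, ha2, hab, mul_zero] at g1 g2
    have k1 : d₂ = 0 := by
      rcases mul_eq_zero.1 (show d₂ * (n₁ * 2) = 0 by rw [← g1]; ring) with h | h
      · exact h
      · omega
    have k2 : c₂ = 0 := by
      rcases mul_eq_zero.1 (show c₂ * (n₁ * 2) = 0 by rw [← g2]; ring) with h | h
      · exact h
      · omega
    rw [k1, k2, zero_smul, zero_smul, add_zero] at e2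
    have := congrArg (form b) e2
    rw [form_smul_right, hb2] at this
    simp [form] at this
    exact h2 this
  · have f : ((c₁ * d₂ - c₂ * d₁) * n₃) • s = ((c₃ * d₂ - c₂ * d₃) * n₁) • a + ((c₁ * d₃ - c₃ * d₁) * n₂) • b := by
      rw [mul_smul, mul_smul, mul_smul, e1, e2, e3]
      simp only [smul_add, smul_smul]
      have g1 : (c₁ * d₂ - c₂ * d₁) * c₃ = (c₃ * d₂ - c₂ * d₃) * c₁ + (c₁ * d₃ - c₃ * d₁) * c₂ := by ring
      have g2 : (c₁ * d₂ - c₂ * d₁) * d₃ = (c₃ * d₂ - c₂ * d₃) * d₁ + (c₁ * d₃ - c₃ * d₁) * d₂ := by ring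
      rw [g1, g2, add_smul, add_smul]
      abel
    have g := congrArg (form s) f
    rw [form_smul_right, form_add_right, form_smul_right, form_smul_right, form_comm s a, form_comm s b, has, hbs, hs2,
      mul_zero, mul_zero, add_zero] at g
    rcases mul_eq_zero.1 g with h | h
    · rcases mul_eq_zero.1 h with h | h
      · exact hD (sub_eq_zero.1 h)
      · exact h3 h
    · omega

/-- `m` with `χ m = sg i * sg j` is a product of two orthogonal reflections -/
theorem exists_two (h : EB M v χ) (hN : NegRoot) (hE : IsEl M) (hK : M ≤ det.ker) {i j : Fin 8} (hij : i ≠ j) {m : M}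
    (hm : χ m = sg i * sg j) :
    ∃ (a b : Lat) (ha : IsRoot a) (hb : IsRoot b), form a b = 0 ∧ (m : W) = refl ha * refl hb := by
  have hmm : (m : W) * m = 1 := hE.1 _ m.2
  have hd : det (m : W) = 1 := hK m.2
  have hrr : ∀ {a : Lat} (ha : IsRoot a), refl ha * refl ha = 1 := fun {a} ha => ext_ap fun x => by
    rw [ap_mul, ap_refl, ap_refl, form_sub_left, form_smul_left, show form a a = 2 from ha, ap_one,
      show form x a - form x a * 2 = - form x a by ring, neg_smul]
    abel
  have hm1 : (m : W) ≠ 1 := by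
    intro h1
    have : m = 1 := Subtype.ext h1
    rw [this, map_one] at hm
    have := congrFun hm i
    simp [sg, hij] at this
  obtain ⟨a, ha, hma⟩ := hN m hmm hm1
  -- first step
  have hc1 : refl ha * (m : W) = m * refl ha := by
    have h1 := conj_refl (m : W) ha
    have h2 : refl (isRoot_ap ha (m : W)) = refl ha := (refl_congr _ (isRoot_neg ha) hma).trans (refl_neg ha)
    rw [h2] at h1
    calc refl ha * (m : W) = ((m : W) * refl ha * (m : W)⁻¹) * m := by rw [h1]
      _ = _ := by group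
  set w1 : W := refl ha * m with hw1
  have hw11 : w1 * w1 = 1 := by
    calc w1 * w1 = refl ha * (m : W) * (refl ha * m) := rfl
      _ = refl ha * (m * refl ha) * m := by group
      _ = refl ha * (refl ha * m) * m := by rw [← hc1, hw1]
      _ = (refl ha * refl ha) * (m * m) := by group
      _ = 1 := by rw [hrr, hmm, one_mul]
  have hw1d : det w1 = -1 := by rw [hw1, map_mul, rf_det', hd, mul_one]
  have hw1n : w1 ≠ 1 := fun h1 => by rw [h1, map_one] at hw1d; exact absurd hw1d (by decide)
  have hw1a : ap w1 a = a := by rw [hw1, ap_mul, hma, ap_neg, ap_refl_self, neg_neg]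
  obtain ⟨b, hb, hwb⟩ := hN w1 hw11 hw1n
  have hab : form a b = 0 := by
    have := form_ap w1 a b
    rw [hw1a, hwb, form_neg_right] at this
    omega
  have hmb : ap (m : W) b = -b := by
    have : (m : W) = refl ha * w1 := by rw [hw1, ← mul_assoc, hrr, one_mul]
    rw [this, ap_mul, hwb, ap_neg, ap_refl_orth ha (by rw [form_comm]; exact hab)]
  -- second step
  have hc2 : refl hb * w1 = w1 * refl hb := by
    have h1 := conj_refl w1 hb
    have h2 : refl (isRoot_ap hb w1) = refl hb := (refl_congr _ (isRoot_neg hb) hwb).trans (refl_neg hb)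
    rw [h2] at h1
    calc refl hb * w1 = (w1 * refl hb * w1⁻¹) * w1 := by rw [h1]
      _ = _ := by group
  set w2 : W := refl hb * w1 with hw2
  have hw22 : w2 * w2 = 1 := by
    calc w2 * w2 = refl hb * (w1 * refl hb) * w1 := by rw [hw2]; group
      _ = refl hb * (refl hb * w1) * w1 := by rw [← hc2, hw2]
      _ = (refl hb * refl hb) * (w1 * w1) := by group
      _ = 1 := by rw [hrr, hw11, one_mul]
  have hw2b : ap w2 b = b := by rw [hw2, ap_mul, hwb, ap_neg, ap_refl_self, neg_neg]
  have hw2a : ap w2 a = a := by rw [hw2, ap_mul, hw1a, ap_refl_orth hb hab]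
  by_cases hw2n : w2 = 1
  · refine ⟨a, b, ha, hb, hab, ?_⟩
    calc (m : W) = refl ha * w1 := by rw [hw1, ← mul_assoc, hrr, one_mul]
      _ = refl ha * (refl hb * w2) := by rw [hw2, ← mul_assoc (refl hb), hrr, one_mul]
      _ = _ := by rw [hw2n, mul_one]
  · exfalso
    obtain ⟨s, hs, hws⟩ := hN w2 hw22 hw2n
    have has : form a s = 0 := by
      have := form_ap w2 a s
      rw [hw2a, hws, form_neg_right] at this
      omega
    have hbs : form b s = 0 := by
      have := form_ap w2 b s
      rw [hw2b, hws, form_neg_right] at this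
      omega
    have hms : ap (m : W) s = -s := by
      have e : (m : W) = refl ha * (refl hb * w2) := by
        rw [hw2, ← mul_assoc (refl hb), hrr, one_mul, hw1, ← mul_assoc, hrr, one_mul]
      rw [e, ap_mul, ap_mul, hws, ap_neg, ap_refl_orth hb (by rw [form_comm]; exact hbs), ap_neg,
        ap_refl_orth ha (by rw [form_comm]; exact has)]
    obtain ⟨n₁, c₁, d₁, k1, e1⟩ := in_plane h hij hm hma
    obtain ⟨n₂, c₂, d₂, k2, e2⟩ := in_plane h hij hm hmb
    obtain ⟨n₃, c₃, d₃, k3, e3⟩ := in_plane h hij hm hms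
    exact no_three ha hb hs hab has hbs k1 k2 k3 e1 e2 e3

/-- an integral relation between a root and a norm 4 vector on the same line -/
theorem no_sqrt {p q : ℤ} (hp : p ≠ 0) (h : p * p = 2 * (q * q)) : False := by
  have h1 : Irrational (Real.sqrt 2) := irrational_sqrt_two
  have hq : q ≠ 0 := by
    rintro rfl
    rcases mul_eq_zero.1 (show p * p = 0 by rw [h]; ring) with h2 | h2 <;> exact hp h2
  apply h1
  refine ⟨|(p : ℚ)| / |(q : ℚ)|, ?_⟩
  have hq' : (0 : ℝ) < |(q : ℝ)| := abs_pos.2 (by exact_mod_cast hq)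
  have e : (p : ℝ) * p = 2 * (q * q) := by exact_mod_cast h
  push_cast
  rw [eq_comm, Real.sqrt_eq_iff_mul_self_eq_of_pos]
  · field_simp
    rw [sq_abs, sq_abs]
    nlinarith
  · exact div_pos (abs_pos.2 (by exact_mod_cast hp)) hq'

/-- the vector `y` of norm 4 on the line of `v i` -/
def NormFour (v : Fin 8 → Lat) (i : Fin 8) (y : Lat) : Prop := form y y = 4 ∧ On v i y

/-- a root on the line of `v i` -/
def Rt (v : Fin 8 → Lat) (i : Fin 8) (y : Lat) : Prop := IsRoot y ∧ On v i y

theorem not_both {i : Fin 8} {a y : Lat} (ha : Rt v i a) (hy : NormFour v i y) : False := by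
  obtain ⟨ha, n, c, hn, hc, e⟩ := ha
  obtain ⟨hy, n', c', hn', hc', e'⟩ := hy
  have f : (c' * n) • a = (c * n') • y := by
    rw [mul_smul, mul_smul, e, e', smul_smul, smul_smul, mul_comm]
  have g := congrArg (fun z => form z z) f
  simp only [form_smul_left, form_smul_right] at g
  rw [show form a a = 2 from ha, hy] at g
  exact no_sqrt (p := c' * n) (q := c * n') (mul_ne_zero hc' hn) (by linarith)

theorem norm_unique {i : Fin 8} {x y : Lat} (hx : NormFour v i x) (hy : NormFour v i y) : x = y ∨ x = -y := by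
  obtain ⟨hx, n, c, hn, hc, e⟩ := hx
  obtain ⟨hy, n', c', hn', hc', e'⟩ := hy
  have f : (c' * n) • x = (c * n') • y := by
    rw [mul_smul, mul_smul, e, e', smul_smul, smul_smul, mul_comm]
  have g := congrArg (fun z => form z z) f
  simp only [form_smul_left, form_smul_right] at g
  rw [hx, hy] at g
  have h1 : (c' * n) * (c' * n) = (c * n') * (c * n') := by linarith
  have h2 : c' * n ≠ 0 := mul_ne_zero hc' hn
  rcases mul_self_eq_mul_self_iff.1 h1 with h3 | h3
  · left
    rw [← h3] at f
    exact smul_inj h2 f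
  · right
    have h4 : c * n' = -(c' * n) := by rw [h3, neg_neg]
    rw [h4, neg_smul, ← smul_neg] at f
    exact smul_inj h2 f

/-- `w x = -x`, `m' x = x`, ... : the line of `x` -/
theorem on_of (h : EB M v χ) {i j : Fin 8} (hij : i ≠ j) {m m' : M} (hm : χ m = sg i * sg j) {x : Lat} (hx0 : x ≠ 0)
    (hx : ap (m : W) x = -x) {δ : ℤˣ} (hx' : ap (m' : W) x = (δ : ℤ) • x) (hj : χ m' j ≠ δ) : On v i x := by
  obtain ⟨n, hn, c, hc⟩ := h.span x
  have hcj : c j = 0 := eb_coeff h hx' hc j hj
  have hck : ∀ k, k ≠ i → k ≠ j → c k = 0 := by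
    intro k hki hkj
    refine eb_coeff h (δ := -1) (m := m) (by rw [hx]; simp) hc k ?_
    rw [hm]
    simp [sg, hki, hkj]
  rw [sum_two hij c v hck, hcj, zero_smul, add_zero] at hc
  refine ⟨n, c i, hn, ?_, hc⟩
  intro h0
  rw [h0, zero_smul] at hc
  rcases smul_eq_zero.1 hc with h1 | h1
  · exact hn h1
  · exact hx0 h1

/-- the two types of a plane -/
theorem plane_types (h : EB M v χ) (hN : NegRoot) (hE : IsEl M) (hK : M ≤ det.ker) {i j k : Fin 8} (hij : i ≠ j)
    (hki : k ≠ i) (hkj : k ≠ j) {m m' : M} (hm : χ m = sg i * sg j) (hm' : χ m' = sg i * sg k) :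
    (∃ a b, Rt v i a ∧ Rt v j b) ∨
    ∃ x y, NormFour v i x ∧ NormFour v j y ∧ (∃ z, x + y = (2 : ℤ) • z) ∧ ∃ z, x - y = (2 : ℤ) • z := by
  obtain ⟨a, b, ha, hb, hab, hw⟩ := exists_two h hN hE hK hij hm
  have hba : form b a = 0 := by rw [form_comm]; exact hab
  have ha2 : form a a = 2 := ha
  have hb2 : form b b = 2 := hb
  have hma : ap (m : W) a = -a := by rw [hw, ap_mul, ap_refl_orth hb hab, ap_refl_self]
  have hmb : ap (m : W) b = -b := by rw [hw, ap_mul, ap_refl_self, ap_neg, ap_refl_orth ha hba]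
  have hcomm : ∀ x, ap (m : W) (ap (m' : W) x) = ap (m' : W) (ap (m : W) x) := fun x => by
    rw [← ap_mul, ← ap_mul, hE.2 _ m.2 _ m'.2]
  have hi : χ m' i = -1 := by rw [hm']; simp [sg, Ne.symm hki]
  have hj : χ m' j = 1 := by rw [hm']; simp [sg, Ne.symm hij, Ne.symm hkj]
  have hm'2 : ∀ x, ap (m' : W) (ap (m' : W) x) = x := fun x => by rw [← ap_mul, hE.1 _ m'.2, ap_one]
  have key : ∀ {r : Lat}, IsRoot r → ap (m : W) r = -r → ap (m' : W) r = a ∨ ap (m' : W) r = -a ∨ ap (m' : W) r = b ∨
      ap (m' : W) r = -b := by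
    intro r hr hmr
    apply plane ha hb hab (isRoot_ap hr _)
    rw [← hw, hcomm, hmr, ap_neg]
  -- the line of `v i`: negated by `m'`; the line of `v j`: fixed by `m'`
  have oni : ∀ {x : Lat}, x ≠ 0 → ap (m : W) x = -x → ap (m' : W) x = -x → On v i x := fun hx0 hx hx' =>
    on_of h hij hm hx0 hx (δ := -1) (by rw [hx']; simp) (by rw [hj]; decide)
  have onj : ∀ {x : Lat}, x ≠ 0 → ap (m : W) x = -x → ap (m' : W) x = x → On v j x := fun hx0 hx hx' =>
    on_of h (Ne.symm hij) (by rw [hm, mul_comm]) hx0 hx (δ := 1) (by rw [hx']; simp) (by rw [hi]; decide)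
  have hab0 : a ≠ b := fun e => by rw [e] at hab; omega
  have haa : a ≠ -a := fun e => root_ne ha (eq_zero_of_neg e)
  have hbb : b ≠ -b := fun e => root_ne hb (eq_zero_of_neg e)
  have nsum : form (a + b) (a + b) = 4 := by
    rw [form_add_left, form_add_right, form_add_right]; omega
  have nsub : form (a - b) (a - b) = 4 := by
    rw [form_sub_left, form_sub_right, form_sub_right]; omega
  have ne_of : ∀ {x : Lat}, form x x = 4 → x ≠ 0 := by
    rintro x hx rfl
    simp [form] at hx
  have msum : ap (m : W) (a + b) = -(a + b) := by rw [ap_add, hma, hmb, neg_add]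
  have msub : ap (m : W) (a - b) = -(a - b) := by rw [ap_sub, hma, hmb]; abel
  rcases key ha hma with h1 | h1 | h1 | h1
  · -- `a` fixed; then `b` is negated
    left
    have h2 : ap (m' : W) b = -b := by
      rcases key hb hmb with h3 | h3 | h3 | h3
      · exfalso
        have := hm'2 b
        rw [h3, h1] at this
        exact hab0 this
      · exfalso
        have := hm'2 b
        rw [h3, ap_neg, h1] at this
        rw [← this, form_neg_right] at hab
        omega
      · exfalso
        obtain ⟨n, c, hn, hc, e⟩ := onj (root_ne ha) hma h1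
        obtain ⟨n', c', hn', hc', e'⟩ := onj (root_ne hb) hmb h3
        have f : (c' * n) • a = (c * n') • b := by
          rw [mul_smul, mul_smul, e, e', smul_smul, smul_smul, mul_comm]
        have g := congrArg (form a) f
        rw [form_smul_right, form_smul_right, ha2, hab, mul_zero] at g
        rcases mul_eq_zero.1 g with h4 | h4
        · exact mul_ne_zero hc' hn h4
        · omega
      · exact h3
    exact ⟨b, a, ⟨hb, oni (root_ne hb) hmb h2⟩, ⟨ha, onj (root_ne ha) hma h1⟩⟩
  · left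
    have h2 : ap (m' : W) b = b := by
      rcases key hb hmb with h3 | h3 | h3 | h3
      · exfalso
        have := hm'2 b
        rw [h3, h1] at this
        rw [← this, form_neg_right] at hab
        omega
      · exfalso
        have := hm'2 b
        rw [h3, ap_neg, h1, neg_neg] at this
        exact hab0 this
      · exact h3
      · exfalso
        obtain ⟨n, c, hn, hc, e⟩ := oni (root_ne ha) hma h1
        obtain ⟨n', c', hn', hc', e'⟩ := oni (root_ne hb) hmb h3
        have f : (c' * n) • a = (c * n') • b := by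
          rw [mul_smul, mul_smul, e, e', smul_smul, smul_smul, mul_comm]
        have g := congrArg (form a) f
        rw [form_smul_right, form_smul_right, ha2, hab, mul_zero] at g
        rcases mul_eq_zero.1 g with h4 | h4
        · exact mul_ne_zero hc' hn h4
        · omega
    exact ⟨a, b, ⟨ha, oni (root_ne ha) hma h1⟩, ⟨hb, onj (root_ne hb) hmb h2⟩⟩
  · right
    have h2 : ap (m' : W) b = a := by rw [← h1, hm'2]
    have f1 : ap (m' : W) (a - b) = -(a - b) := by rw [ap_sub, h1, h2]; abel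
    have f2 : ap (m' : W) (a + b) = a + b := by rw [ap_add, h1, h2]; abel
    refine ⟨a - b, a + b, ⟨nsub, oni (ne_of nsub) msub f1⟩, ⟨nsum, onj (ne_of nsum) msum f2⟩, ⟨a, ?_⟩, ⟨-b, ?_⟩⟩
    · rw [two_smul]; abel
    · rw [two_smul]; abel
  · right
    have h2 : ap (m' : W) b = -a := by
      have := hm'2 a
      rw [h1, ap_neg] at this
      rw [← this, neg_neg]
    have f1 : ap (m' : W) (a + b) = -(a + b) := by rw [ap_add, h1, h2]; abel
    have f2 : ap (m' : W) (a - b) = a - b := by rw [ap_sub, h1, h2]; abel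
    refine ⟨a + b, a - b, ⟨nsum, oni (ne_of nsum) msum f1⟩, ⟨nsub, onj (ne_of nsub) msub f2⟩, ⟨a, ?_⟩, ⟨b, ?_⟩⟩
    · rw [two_smul]; abel
    · rw [two_smul]; abel

end Cfsg.Agent.OddHalf.D9.EEight.TwoTypes
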