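import Cfsg.Agent.OddHalf.D9.EEight.TwoTypes

/-!
# `two_types` of `EF det neg IsRefl`: the end (helper109)

`two_types (hN : NegRoot) (hFt : ExFt)`, where `ExFt` = even sign changes along eight orthogonal vectors of norm 4
congruent modulo 2.
-/

set_option autoImplicit false

namespace Cfsg.Agent.OddHalf.D9.EEight.TwoTypesEnd

open Coord Move Fields Eig EigCard OutRefl FrameBase Cfsg.Agent.OddHalf.D9.EEight.FrameHom TwoTypes

/-- the even sign changes in a `D₈` frame -/
def ExFt : Prop := ∀ n : Fin 8 → Lat, (∀ i j, form (n i) (n j) = if i = j then 4 else 0) →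
  (∀ i j, ∃ y, n i - n j = (2 : ℤ) • y) →
  ∃ f : Ev →* W, IsFt det neg f ∧ ∀ (ε : Ev) (j : Fin 8), ap (f ε) (n j) = ((((ε : Sg) j : ℤˣ) : ℤ)) • n j

variable {M : Subgroup W} {v : Fin 8 → Lat} {χ : M →* Sg}

theorem sg2_mem (i j : Fin 8) : sg i * sg j ∈ Ev := by
  have : ∀ i j : Fin 8, prd (sg i * sg j) = 1 := by decide
  exact this i j

theorem orth_v (h : EB M v χ) (hr : χ.range = Ev) {i j : Fin 8} (hij : i ≠ j) : form (v i) (v j) = 0 := by
  obtain ⟨k, hki, hkj⟩ : ∃ k : Fin 8, k ≠ i ∧ k ≠ j := by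
    have : ∀ i j : Fin 8, ∃ k : Fin 8, k ≠ i ∧ k ≠ j := by decide
    exact this i j
  have hmem : sg i * sg k ∈ χ.range := by rw [hr]; exact sg2_mem i k
  obtain ⟨m, hm⟩ := hmem
  have e := form_ap (m : W) (v i) (v j)
  have hi : χ m i = -1 := by rw [hm]; simp [sg, Ne.symm hki]
  have hj : χ m j = 1 := by rw [hm]; simp [sg, Ne.symm hij, Ne.symm hkj]
  rw [h.ap_v, h.ap_v, hi, hj, form_smul_left, form_smul_right] at e
  simp only [Units.val_neg, Units.val_one] at e
  omega

theorem orth_on (h : EB M v χ) (hr : χ.range = Ev) {i j : Fin 8} (hij : i ≠ j) {x y : Lat} (hx : On v i x)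
    (hy : On v j y) : form x y = 0 := by
  obtain ⟨n, c, hn, hc, e⟩ := hx
  obtain ⟨n', c', hn', hc', e'⟩ := hy
  have h1 : form (n • x) (n' • y) = 0 := by
    rw [e, e', form_smul_left, form_smul_right, orth_v h hr hij, mul_zero, mul_zero]
  rw [form_smul_left, form_smul_right] at h1
  rcases mul_eq_zero.1 h1 with h2 | h2
  · exact absurd h2 hn
  · rcases mul_eq_zero.1 h2 with h3 | h3
    · exact absurd h3 hn'
    · exact h3

theorem ap_on (h : EB M v χ) {i : Fin 8} {x : Lat} (hx : On v i x) (m : M) : ap (m : W) x = ((χ m i : ℤˣ) : ℤ) • x := by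
  obtain ⟨n, c, hn, hc, e⟩ := hx
  apply smul_inj hn
  rw [← ap_smul, e, ap_smul, h.ap_v, smul_comm, ← e, smul_comm]

/-- two isometries with the same effect on vectors of the eight lines -/
theorem ext_on (h : EB M v χ) {x : Fin 8 → Lat} (hx : ∀ i, On v i (x i)) {w w' : W}
    (he : ∀ i, ap w (x i) = ap w' (x i)) : w = w' := by
  apply eb_ext h
  intro i
  obtain ⟨n, c, hn, hc, e⟩ := hx i
  apply smul_inj hc
  rw [← ap_smul, ← ap_smul, ← e, ap_smul, ap_smul, he]

theorem two_types (hN : NegRoot) (hFt : ExFt) (M : Subgroup W) (hK : M ≤ det.ker) (hE : IsEl M)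
    (hM : Nat.card M = 2 ^ 7) :
    (∃ d : Sg →* W, IsFr det neg IsRefl d ∧ M = Ev.map d) ∨ ∃ f : Ev →* W, IsFt det neg f ∧ M = f.range := by
  classical
  have hf := finite_of_card hM
  obtain ⟨v, χ, h⟩ := exists_eig M hE
  have hr : χ.range = Ev := by
    have : Finite Ev := inferInstance
    apply Subgroup.eq_of_le_of_card_ge (EB.range_le h hK)
    rw [card_Ev, ← hM]
    exact (Nat.card_congr (Equiv.ofInjective χ h.inj)).le
  have hpair : ∀ i j, i ≠ j → (∃ a b, TwoTypes.Rt v i a ∧ TwoTypes.Rt v j b) ∨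
      ∃ x y, NormFour v i x ∧ NormFour v j y ∧ (∃ z, x + y = (2 : ℤ) • z) ∧ ∃ z, x - y = (2 : ℤ) • z := by
    intro i j hij
    obtain ⟨k, hki, hkj⟩ : ∃ k : Fin 8, k ≠ i ∧ k ≠ j := by
      have : ∀ i j : Fin 8, ∃ k : Fin 8, k ≠ i ∧ k ≠ j := by decide
      exact this i j
    obtain ⟨m, hm⟩ : sg i * sg j ∈ χ.range := by rw [hr]; exact sg2_mem i j
    obtain ⟨m', hm'⟩ : sg i * sg k ∈ χ.range := by rw [hr]; exact sg2_mem i k
    exact plane_types h hN hE hK hij hki hkj hm hm'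
  have hprd : ∀ m : M, prd (χ m) = 1 := fun m => by
    rw [← h.det]; exact hK m.2
  by_cases hR : ∃ a, TwoTypes.Rt v 0 a
  · -- all lines contain roots
    left
    obtain ⟨a0, ha0⟩ := hR
    have hall : ∀ j, ∃ a, TwoTypes.Rt v j a := by
      intro j
      by_cases hj : j = 0
      · exact hj ▸ ⟨a0, ha0⟩
      · rcases hpair 0 j (Ne.symm hj) with ⟨_, b, _, hb⟩ | ⟨x, _, hx, _⟩
        · exact ⟨b, hb⟩
        · exact (not_both ha0 hx).elim
    choose a ha using hall
    have hfr : Frame a := ⟨fun i => (ha i).1, fun i j hij => orth_on h hr hij (ha i).2 (ha j).2⟩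
    obtain ⟨π, hπ⟩ := FrameCode.exists_lab hfr
    refine ⟨dh (hfr.comp π), isFr _ hπ, ?_⟩
    have hinj := FrameHom.inj (hfr.comp π)
    have hle : M ≤ Ev.map (dh (hfr.comp π)) := by
      intro m hm
      refine ⟨pm π (χ ⟨m, hm⟩), ?_, ?_⟩
      · show prd _ = 1
        rw [prd_pm]; exact hprd _
      · symm
        apply eq_dh
        intro j
        exact ap_on h (ha (π j)).2 ⟨m, hm⟩
    have : Finite (Ev.map (dh (hfr.comp π))) := by
      have : Finite Ev := inferInstance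
      exact Set.Finite.image _ (Set.toFinite _)
    apply Subgroup.eq_of_le_of_card_ge hle
    rw [hM, ← card_Ev]
    exact (Nat.card_congr (Subgroup.equivMapOfInjective Ev _ hinj).toEquiv.symm).le
  · -- all lines contain vectors of norm 4
    right
    have hN4 : ∀ j, j ≠ 0 → ∃ x y, NormFour v 0 x ∧ NormFour v j y ∧ (∃ z, x + y = (2 : ℤ) • z) ∧
        ∃ z, x - y = (2 : ℤ) • z := by
      intro j hj
      rcases hpair 0 j (Ne.symm hj) with ⟨a, _, ha, _⟩ | h1
      · exact absurd ⟨a, ha⟩ hR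
      · exact h1
    obtain ⟨x0, _, hx0, _⟩ := hN4 1 (by decide)
    have hex : ∀ j, ∃ y, NormFour v j y ∧ ∃ z, y - x0 = (2 : ℤ) • z := by
      intro j
      by_cases hj : j = 0
      · subst hj
        exact ⟨x0, hx0, 0, by simp⟩
      · obtain ⟨x, y, hx, hy, ⟨z1, hz1⟩, ⟨z2, hz2⟩⟩ := hN4 j hj
        refine ⟨y, hy, ?_⟩
        rcases norm_unique hx hx0 with h1 | h1
        · refine ⟨-z2, ?_⟩
          rw [smul_neg, ← hz2, h1]; abel
        · refine ⟨z1, ?_⟩
          rw [← hz1, h1]; abel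
    choose n hn hn2 using hex
    have hon : ∀ i, On v i (n i) := fun i => (hn i).2
    obtain ⟨f, hft, hfn⟩ := hFt n (by
      intro i j
      split_ifs with hij
      · subst hij; exact (hn i).1
      · exact orth_on h hr hij (hon i) (hon j)) (by
      intro i j
      obtain ⟨z1, h1⟩ := hn2 i
      obtain ⟨z2, h2⟩ := hn2 j
      refine ⟨z1 - z2, ?_⟩
      rw [smul_sub, ← h1, ← h2]; abel)
    refine ⟨f, hft, ?_⟩
    have hle : M ≤ f.range := by
      intro m hm
      have hεm : χ ⟨m, hm⟩ ∈ Ev := hprd _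
      refine ⟨⟨χ ⟨m, hm⟩, hεm⟩, ?_⟩
      apply ext_on h hon
      intro i
      rw [hfn, ap_on h (hon i) ⟨m, hm⟩]
    have : Finite f.range := Finite.of_surjective f.rangeRestrict f.rangeRestrict_surjective
    apply Subgroup.eq_of_le_of_card_ge hle
    rw [hM, ← card_Ev]
    exact (Nat.card_congr (Equiv.ofInjective f hft.inj)).symm.le

end Cfsg.Agent.OddHalf.D9.EEight.TwoTypesEnd
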